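import Mathlib

/-!
Binary self-orthogonal codes of length 24, dimension 12 and minimum weight at least 8, handled as
families of supports closed under symmetric difference.
-/

set_option autoImplicit false

namespace CfsgLib.Sporadic.AbstractGolay

open scoped symmDiff

variable {α : Type*} [Fintype α] [DecidableEq α]

/-- An abstract extended binary Golay code, as a family of supports. -/
structure IsGolay (K : Finset (Finset α)) : Prop where
  points : Fintype.card α = 24
  empty_mem : ∅ ∈ K
  symm_mem : ∀ a ∈ K, ∀ b ∈ K, a ∆ b ∈ K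
  even_inter : ∀ a ∈ K, ∀ b ∈ K, Even (a ∩ b).card
  min_weight : ∀ a ∈ K, a ≠ ∅ → 8 ≤ a.card
  size : K.card = 4096

omit [Fintype α] in
theorem card_symmDiff_add (a b : Finset α) :
    (a ∆ b).card + 2 * (a ∩ b).card = a.card + b.card := by
  have h1 : a ∆ b = (a \ b) ∪ (b \ a) := rfl
  rw [h1, Finset.card_union_of_disjoint disjoint_sdiff_sdiff]
  have h2 := Finset.card_sdiff_add_card_inter a b
  have h3 := Finset.card_sdiff_add_card_inter b a
  rw [Finset.inter_comm b a] at h3
  omega

/-- The short members of the coset of `x`. -/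
def leaders (K : Finset (Finset α)) (x : Finset α) : Finset (Finset α) :=
  Finset.univ.filter fun a => a.card ≤ 4 ∧ a ∆ x ∈ K

/-- The weight used in the covering count. -/
def wgt (n : ℕ) : ℕ := if n ≤ 3 then 6 else if n = 4 then 1 else 0

variable {K : Finset (Finset α)}

theorem eq_of_small (hK : IsGolay K) {a b : Finset α} (h : a ∆ b ∈ K)
    (hlt : a.card + b.card < 8) : a = b := by
  by_contra hne
  have h1 := hK.min_weight _ h (by
    intro h0
    exact hne (symmDiff_eq_bot.mp h0))
  have h2 := card_symmDiff_add a b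
  omega

theorem mem_leaders {x a : Finset α} : a ∈ leaders K x ↔ a.card ≤ 4 ∧ a ∆ x ∈ K := by
  simp [leaders]

theorem symm_of_leaders (hK : IsGolay K) {x a b : Finset α} (ha : a ∆ x ∈ K) (hb : b ∆ x ∈ K) :
    a ∆ b ∈ K := by
  have := hK.symm_mem _ ha _ hb
  rwa [symmDiff_assoc, ← symmDiff_assoc x, symmDiff_comm x b, symmDiff_assoc b x x,
    symmDiff_self, symmDiff_bot] at this

theorem leaders_disjoint (hK : IsGolay K) {x a b : Finset α} (ha : a ∈ leaders K x)
    (hb : b ∈ leaders K x) (hne : a ≠ b) : a.card = 4 ∧ Disjoint a b := by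
  rw [mem_leaders] at ha hb
  have hab := symm_of_leaders hK ha.2 hb.2
  have h1 := hK.min_weight _ hab (fun h0 => hne (symmDiff_eq_bot.mp h0))
  have h2 := card_symmDiff_add a b
  refine ⟨by omega, ?_⟩
  rw [Finset.disjoint_iff_inter_eq_empty, ← Finset.card_eq_zero]
  omega

theorem sum_wgt_leaders_le (hK : IsGolay K) (x : Finset α) :
    ∑ a ∈ leaders K x, wgt a.card ≤ 6 := by
  by_cases hsmall : ∃ a ∈ leaders K x, a.card ≤ 3
  · obtain ⟨a, ha, ha3⟩ := hsmall
    have : leaders K x = {a} := by
      refine Finset.eq_singleton_iff_unique_mem.mpr ⟨ha, fun b hb => ?_⟩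
      by_contra hne
      have := (leaders_disjoint hK ha hb (Ne.symm hne)).1
      omega
    rw [this, Finset.sum_singleton, wgt, if_pos ha3]
  · push Not at hsmall
    have hfour : ∀ a ∈ leaders K x, a.card = 4 := fun a ha =>
      le_antisymm (mem_leaders.mp ha).1 (hsmall a ha)
    rw [Finset.sum_congr rfl (g := fun _ => 1) (fun a ha => by simp [wgt, hfour a ha]),
      Finset.sum_const, smul_eq_mul, mul_one]
    have hU : ((leaders K x).biUnion id).card = ∑ a ∈ leaders K x, a.card :=
      Finset.card_biUnion fun a ha b hb hne => (leaders_disjoint hK ha hb hne).2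
    rw [Finset.sum_congr rfl (g := fun _ => 4) hfour, Finset.sum_const, smul_eq_mul] at hU
    have := Finset.card_le_univ ((leaders K x).biUnion id)
    rw [hK.points] at this
    omega

theorem sum_wgt_eq (hK : IsGolay K) :
    ∑ x : Finset α, ∑ a ∈ leaders K x, wgt a.card = ∑ _x : Finset α, 6 := by
  have h1 : ∀ x : Finset α, ∑ a ∈ leaders K x, wgt a.card =
      ∑ a : Finset α, if a ∆ x ∈ K then wgt a.card else 0 := by
    intro x
    rw [leaders, Finset.sum_filter]
    refine Finset.sum_congr rfl fun a _ => ?_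
    by_cases h4 : a.card ≤ 4
    · simp [h4]
    · have hz : wgt a.card = 0 := by
        unfold wgt
        rw [if_neg (by omega), if_neg (by omega)]
      simp [hz]
  rw [Finset.sum_congr rfl fun x _ => h1 x, Finset.sum_comm]
  have h2 : ∀ a : Finset α, (∑ x : Finset α, if a ∆ x ∈ K then wgt a.card else 0) =
      wgt a.card * 4096 := by
    intro a
    rw [← hK.size, ← Finset.sum_filter, Finset.sum_const, smul_eq_mul, mul_comm]
    congr 1
    refine Finset.card_nbij' (fun x => a ∆ x) (fun k => a ∆ k) ?_ ?_ ?_ ?_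
    · intro x hx; simpa using hx
    · intro k hk
      simp only [Finset.mem_coe] at hk
      simpa [symmDiff_symmDiff_cancel_left] using hk
    · intro x _; exact symmDiff_symmDiff_cancel_left a x
    · intro k _; exact symmDiff_symmDiff_cancel_left a k
  have h3 : (Finset.univ : Finset (Finset α)) = (Finset.univ : Finset α).powerset :=
    Finset.powerset_univ.symm
  rw [Finset.sum_congr rfl fun a _ => h2 a, ← Finset.sum_mul, Finset.sum_const, smul_eq_mul,
    Finset.card_univ, Fintype.card_finset, hK.points, h3,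
    Finset.sum_powerset_apply_card wgt, Finset.card_univ, hK.points]
  rw [← Finset.sum_subset (Finset.range_subset_range.mpr (by norm_num : 5 ≤ 24 + 1))]
  · simp only [Finset.sum_range_succ, Finset.sum_range_zero, smul_eq_mul]
    norm_num [wgt, Nat.choose_eq_descFactorial_div_factorial, Nat.descFactorial, Nat.factorial]
  · intro i _ hi
    rw [Finset.mem_range] at hi
    have hz : wgt i = 0 := by
      unfold wgt
      rw [if_neg (by omega), if_neg (by omega)]
    rw [hz, smul_zero]

theorem sum_wgt_leaders (hK : IsGolay K) (x : Finset α) :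
    ∑ a ∈ leaders K x, wgt a.card = 6 := by
  by_contra hne
  have hlt := lt_of_le_of_ne (sum_wgt_leaders_le hK x) hne
  exact absurd (sum_wgt_eq hK) (ne_of_lt (Finset.sum_lt_sum (fun y _ => sum_wgt_leaders_le hK y)
    ⟨x, Finset.mem_univ x, hlt⟩))

/-- Every coset has one member of weight at most 3, or six disjoint members of weight 4. -/
theorem coset_cases (hK : IsGolay K) (x : Finset α) :
    (∃ a, leaders K x = {a} ∧ a.card ≤ 3) ∨
      ((leaders K x).card = 6 ∧ ∀ a ∈ leaders K x, a.card = 4 ∧
        ∀ b ∈ leaders K x, a ≠ b → Disjoint a b) := by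
  have hsum := sum_wgt_leaders hK x
  by_cases hsmall : ∃ a ∈ leaders K x, a.card ≤ 3
  · obtain ⟨a, ha, ha3⟩ := hsmall
    left
    refine ⟨a, Finset.eq_singleton_iff_unique_mem.mpr ⟨ha, fun b hb => ?_⟩, ha3⟩
    by_contra hne
    have := (leaders_disjoint hK ha hb (Ne.symm hne)).1
    omega
  · push Not at hsmall
    have hfour : ∀ a ∈ leaders K x, a.card = 4 := fun a ha =>
      le_antisymm (mem_leaders.mp ha).1 (hsmall a ha)
    right
    refine ⟨?_, fun a ha => ⟨hfour a ha, fun b hb hne => (leaders_disjoint hK ha hb hne).2⟩⟩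
    rw [Finset.sum_congr rfl (g := fun _ => 1) (fun a ha => by simp [wgt, hfour a ha]),
      Finset.sum_const, smul_eq_mul, mul_one] at hsum
    exact hsum

theorem exists_leader (hK : IsGolay K) (x : Finset α) : ∃ a, a ∈ leaders K x := by
  rcases coset_cases hK x with ⟨a, ha, -⟩ | ⟨h6, -⟩
  · exact ⟨a, by rw [ha]; exact Finset.mem_singleton_self a⟩
  · exact Finset.card_pos.mp (by omega)

theorem even_card (hK : IsGolay K) {a : Finset α} (ha : a ∈ K) : Even a.card := by
  simpa using hK.even_inter a ha a ha

/-- The weight-eight members form a Steiner system S(5,8,24). -/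
theorem octad_existsUnique (hK : IsGolay K) {s : Finset α} (hs : s.card = 5) :
    ∃! o, (o ∈ K ∧ o.card = 8) ∧ s ⊆ o := by
  obtain ⟨a, ha⟩ := exists_leader hK s
  rw [mem_leaders] at ha
  have h1 := hK.min_weight _ ha.2 (fun h0 => by
    have := symmDiff_eq_bot.mp h0
    rw [this] at ha
    omega)
  have h2 := card_symmDiff_add a s
  have h3 := even_card hK ha.2
  have h4 : (a ∆ s).card = 8 ∧ (a ∩ s).card = 0 := by
    obtain ⟨r, hr⟩ := h3
    omega
  refine ⟨a ∆ s, ⟨⟨ha.2, h4.1⟩, ?_⟩, ?_⟩
  · intro i hi
    rw [Finset.mem_symmDiff]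
    refine Or.inr ⟨hi, fun hia => ?_⟩
    have := Finset.card_eq_zero.mp h4.2
    exact Finset.notMem_empty i (this ▸ Finset.mem_inter.mpr ⟨hia, hi⟩)
  · rintro o ⟨⟨hoK, ho8⟩, hso⟩
    by_contra hne
    have hd := hK.min_weight _ (hK.symm_mem _ hoK _ ha.2) (fun h0 => hne (symmDiff_eq_bot.mp h0))
    have hsub : s ⊆ o ∩ (a ∆ s) := by
      intro i hi
      rw [Finset.mem_inter, Finset.mem_symmDiff]
      refine ⟨hso hi, Or.inr ⟨hi, fun hia => ?_⟩⟩
      have := Finset.card_eq_zero.mp h4.2
      exact Finset.notMem_empty i (this ▸ Finset.mem_inter.mpr ⟨hia, hi⟩)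
    have h5 := Finset.card_le_card hsub
    have h6 := card_symmDiff_add o (a ∆ s)
    omega

theorem exists_octad (hK : IsGolay K) : ∃ o ∈ K, o.card = 8 := by
  obtain ⟨s, -, hs⟩ := Finset.exists_subset_card_eq (n := 5)
    (s := (Finset.univ : Finset α)) (by rw [Finset.card_univ, hK.points]; norm_num)
  obtain ⟨o, ⟨ho, -⟩, -⟩ := octad_existsUnique hK hs
  exact ⟨o, ho⟩

/-- Every member has weight divisible by 4 and is a symmetric difference of octads. -/
theorem doublyEven_and_generated (hK : IsGolay K) (P : Finset α → Prop) (h0 : P ∅)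
    (hstep : ∀ a b, a ∈ K → b ∈ K → b.card = 8 → P (a ∆ b) → P a) :
    ∀ a ∈ K, 4 ∣ a.card ∧ P a := by
  intro a ha
  induction hn : a.card using Nat.strong_induction_on generalizing a with
  | _ n ih =>
    subst hn
    by_cases ha0 : a = ∅
    · subst ha0; simp [h0]
    have h8 := hK.min_weight a ha ha0
    obtain ⟨s, hsa, hs⟩ := Finset.exists_subset_card_eq (n := 5) (s := a) (by omega)
    obtain ⟨o, ⟨⟨ho, ho8⟩, hso⟩, -⟩ := octad_existsUnique hK hs
    have h5 : 5 ≤ (a ∩ o).card := hs ▸ Finset.card_le_card (Finset.subset_inter hsa hso)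
    have h8' : (a ∩ o).card ≤ 8 := ho8 ▸ Finset.card_le_card Finset.inter_subset_right
    obtain ⟨r, hr⟩ := hK.even_inter a ha o ho
    have h2 := card_symmDiff_add a o
    obtain ⟨h4, hP⟩ := ih _ (by omega) (a ∆ o) (hK.symm_mem a ha o ho) rfl
    exact ⟨by omega, hstep a o ha ho ho8 hP⟩

/-- The support of a binary word, as a finset. -/
def supp (w : α → ZMod 2) : Finset α := Finset.univ.filter fun i => w i ≠ 0

omit [DecidableEq α] in
theorem card_supp (w : α → ZMod 2) : (supp w).card = hammingNorm w := rfl

/-- The word with given support. -/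
def wordOf (s : Finset α) : α → ZMod 2 := fun i => if i ∈ s then 1 else 0

theorem supp_wordOf (s : Finset α) : supp (wordOf s) = s := by
  ext i
  simp [supp, wordOf]

theorem wordOf_supp (w : α → ZMod 2) : wordOf (supp w) = w := by
  funext i
  simp only [supp, wordOf, Finset.mem_filter, Finset.mem_univ, true_and]
  revert i
  intro i
  generalize w i = a
  revert a
  decide

theorem supp_injective : Function.Injective (supp : (α → ZMod 2) → Finset α) :=
  Function.LeftInverse.injective wordOf_supp

theorem supp_add (v w : α → ZMod 2) : supp (v + w) = supp v ∆ supp w := by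
  ext i
  simp only [supp, Finset.mem_filter, Finset.mem_univ, true_and, Finset.mem_symmDiff, Pi.add_apply]
  generalize v i = a
  generalize w i = b
  revert a b
  decide

theorem dot_eq_card_inter (v w : α → ZMod 2) :
    ∑ i, v i * w i = ((supp v ∩ supp w).card : ZMod 2) := by
  have h1 : supp v ∩ supp w = Finset.univ.filter fun i => v i * w i ≠ 0 := by
    ext i
    simp only [supp, Finset.mem_filter, Finset.mem_univ, true_and, Finset.mem_inter, mul_ne_zero_iff]
  rw [h1, Finset.card_filter, Nat.cast_sum]
  refine Finset.sum_congr rfl fun i _ => ?_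
  generalize v i * w i = a
  revert a
  decide

open Classical in
/-- The family of supports of a code. -/
noncomputable def family (C : Submodule (ZMod 2) (α → ZMod 2)) : Finset (Finset α) :=
  Finset.univ.filter fun s => wordOf s ∈ C

theorem mem_family {C : Submodule (ZMod 2) (α → ZMod 2)} {s : Finset α} :
    s ∈ family C ↔ wordOf s ∈ C := by
  classical
  simp [family]

theorem supp_mem_family {C : Submodule (ZMod 2) (α → ZMod 2)} {w : α → ZMod 2} :
    supp w ∈ family C ↔ w ∈ C := by
  rw [mem_family, wordOf_supp]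

theorem isGolay_family (hα : Fintype.card α = 24) (C : Submodule (ZMod 2) (α → ZMod 2))
    (hdim : Module.finrank (ZMod 2) C = 12) (horth : ∀ v ∈ C, ∀ w ∈ C, ∑ i, v i * w i = 0)
    (hmin : ∀ w ∈ C, w ≠ 0 → 8 ≤ hammingNorm w) : IsGolay (family C) := by
  have hzero : supp (0 : α → ZMod 2) = ∅ := by simp [supp]
  refine ⟨hα, ?_, ?_, ?_, ?_, ?_⟩
  · rw [← hzero, supp_mem_family]; exact C.zero_mem
  · intro a ha b hb
    rw [← supp_wordOf a, ← supp_wordOf b, ← supp_add, supp_mem_family]
    exact C.add_mem (mem_family.mp ha) (mem_family.mp hb)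
  · intro a ha b hb
    have h := horth _ (mem_family.mp ha) _ (mem_family.mp hb)
    rw [dot_eq_card_inter, supp_wordOf, supp_wordOf, ZMod.natCast_eq_zero_iff_even] at h
    exact h
  · intro a ha hne
    have h := hmin _ (mem_family.mp ha) (fun h0 => hne (by rw [← supp_wordOf a, h0, hzero]))
    rwa [← card_supp, supp_wordOf] at h
  · have h1 : Nat.card ↥C = 2 ^ 12 := by
      rw [Module.natCard_eq_pow_finrank (K := ZMod 2), hdim, Nat.card_zmod]
    rw [show (4096 : ℕ) = 2 ^ 12 by norm_num, ← h1, ← Nat.card_eq_finsetCard]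
    exact Nat.card_congr
      { toFun := fun s => ⟨wordOf s.1, mem_family.mp s.2⟩
        invFun := fun w => ⟨supp w.1, supp_mem_family.mpr w.2⟩
        left_inv := fun s => Subtype.ext (supp_wordOf s.1)
        right_inv := fun w => Subtype.ext (wordOf_supp w.1) }

end CfsgLib.Sporadic.AbstractGolay
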