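import Cfsg.Agent.Lib.Sporadic.SuzG2Data
import Cfsg.Agent.Lib.CosetEnum.Suz.Orbits
import Cfsg.Agent.Lib.Chevalley.GraphField
import Cfsg.Agent.Lib.Chev.OrderCases
import Cfsg.Agent.Lib.Recog.GF4

/-!
The point stabiliser of the presented Suzuki group is `G₂(4)`: its action on the suborbit of
length 1365 is the action of the Chevalley group on long root points of the adjoint module.
-/

set_option autoImplicit false
set_option maxRecDepth 8000

namespace CfsgLib.SuzG2

open CfsgLib.CosetEnum CfsgLib.Recog.GF4 Cfsg.Lie Matrix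
open CfsgLib.Chev (elX coe_elX elX_add elX_zero exists_checked)


/-- The index type of the adjoint module. -/
abbrev Ix : Type := chevG2.Idx

/-- The adjoint module. -/
abbrev V : Type := Ix → K4

/-- The general linear group of the module. -/
abbrev GK : Type := GL Ix K4

/-- A field element from its code. -/
def dec (n : ℕ) : K4 := ⟨⟨n % 4, Nat.mod_lt _ (by decide)⟩⟩

/-- The position of a coordinate. -/
def pos : Ix → ℕ
  | Sum.inl i => i.val
  | Sum.inr r => 2 + r.val

/-- The coordinate at a position. -/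
def unpos (j : ℕ) : Ix :=
  if j < 2 then Sum.inl (⟨j % 2, Nat.mod_lt _ (by decide)⟩ : Fin 2)
  else Sum.inr (⟨(j - 2) % 12, Nat.mod_lt _ (by decide)⟩ : Fin 12)

theorem pos_unpos : ∀ j : Fin 14, pos (unpos j) = j.val := by decide +kernel

theorem unpos_pos : ∀ p : Ix, unpos (pos p) = p ∧ pos p < 14 := by decide +kernel

/-- A packed vector. -/
def vec (n : ℕ) : V := fun p => dec (n >>> (2 * pos p))

theorem dec_xor (a b : ℕ) : dec (a ^^^ b) = dec a + dec b := by
  show dec (a ^^^ b) = CfsgLib.Recog.GF4.add (dec a) (dec b)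
  unfold dec CfsgLib.Recog.GF4.add
  congr 1
  apply Fin.ext
  show (a ^^^ b) % 4 = ((a % 4) ^^^ (b % 4)) % 4
  have h : (a ^^^ b) % 2 ^ 2 = (a % 2 ^ 2) ^^^ (b % 2 ^ 2) := Nat.xor_mod_two_pow
  norm_num at h
  rw [← h, Nat.mod_mod]

theorem vec_xor (a b : ℕ) : vec (a ^^^ b) = vec a + vec b := by
  funext p
  simp only [vec, Pi.add_apply, Nat.shiftRight_xor_distrib, dec_xor]

theorem vec_zero : vec 0 = 0 := by
  funext p
  simp only [vec, Nat.zero_shiftRight]
  rfl

theorem dec_zero : dec 0 = 0 := rfl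

theorem dec_one : dec 1 = 1 := rfl

/-- The multiplication table. -/
def mulTab : ℕ :=
  (0 <<< 0) ||| (1 <<< 10) ||| (2 <<< 12) ||| (3 <<< 14) ||| (2 <<< 18) ||| (3 <<< 20) |||
    (1 <<< 22) ||| (3 <<< 26) ||| (1 <<< 28) ||| (2 <<< 30)

/-- The product of two codes. -/
def mulN (c d : ℕ) : ℕ := (mulTab >>> (2 * (4 * c + d))) &&& 3

theorem mulN_spec : ∀ c d : Fin 4, dec (mulN c d) = dec c * dec d := by decide +kernel

/-- A digit. -/
def dig (v p : ℕ) : ℕ := (v >>> (2 * p)) &&& 3

theorem dig_lt (v p : ℕ) : dig v p < 4 :=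
  lt_of_le_of_lt Nat.and_le_right (by norm_num)

theorem dec_dig (v p : ℕ) : dec (dig v p) = dec (v >>> (2 * p)) := by
  unfold dec dig
  congr 1
  apply Fin.ext
  have := Nat.and_two_pow_sub_one_eq_mod (v >>> (2 * p)) 2
  norm_num at this
  show ((v >>> (2 * p)) &&& 3) % 4 = _
  rw [this, Nat.mod_mod]

theorem vec_eq (v : ℕ) (p : Ix) : vec v p = dec (dig v (pos p)) := (dec_dig _ _).symm

/-! ### The linear maps on codes -/

/-- The root of a generator. -/
def gR (j : ℕ) : Fin chevG2.nroots :=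
  (⟨(Data.gens.getD j (0, 0, 0)).1 % 12, Nat.mod_lt _ (by decide)⟩ : Fin 12)

/-- The parameter of a generator. -/
def gT (j : ℕ) : K4 := dec (Data.gens.getD j (0, 0, 0)).2.1

/-- The node of a generator. -/
def gOut (j : ℕ) : ℕ := (Data.gens.getD j (0, 0, 0)).2.2

/-- The matrix of a generator. -/
noncomputable def gMat (j : ℕ) : Matrix Ix Ix K4 := chevG2.xMat K4 (gR j) (gT j)

/-- A column of a generator as a code. -/
def colAt (j t : ℕ) : ℕ := (Data.cols.getD j 0 >>> (28 * t)) &&& 268435455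

theorem col_check : ∀ j : Fin 8, ∀ t : Fin 28, ∀ p : Ix,
    chevG2.xMat K4 (gR j) (gT j) p (unpos (t.val / 2)) * dec (2 ^ (t.val % 2)) = vec (colAt j t) p := by
  decide +kernel

theorem bit_single : ∀ t : Fin 28, ∀ p : Ix,
    vec (2 ^ t.val) p = if p = unpos (t.val / 2) then dec (2 ^ (t.val % 2)) else 0 := by
  decide +kernel

theorem gMat_bit {j t : ℕ} (hj : j < 8) (ht : t < 28) :
    gMat j *ᵥ vec (2 ^ t) = vec (colAt j t) := by
  have e : vec (2 ^ t) = Pi.single (unpos (t / 2)) (dec (2 ^ (t % 2))) := by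
    funext p
    rw [bit_single ⟨t, ht⟩ p, Pi.single_apply]
  funext p
  rw [e, Matrix.mulVec_single]
  simpa [gMat] using col_check ⟨j, hj⟩ ⟨t, ht⟩ p

/-- A generator on codes. -/
noncomputable def appN (j k v : ℕ) : ℕ :=
  Nat.rec 0 (fun t ih => bif Nat.beq ((v >>> t) &&& 1) 1 then ih ^^^ colAt j t else ih) k

theorem appN_spec {j : ℕ} (hj : j < 8) (v : ℕ) :
    ∀ k ≤ 28, gMat j *ᵥ vec (v % 2 ^ k) = vec (appN j k v) := by
  intro k
  induction k with
  | zero => intro _; simp [Nat.mod_one, vec_zero, appN, Matrix.mulVec_zero]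
  | succ k ih =>
    intro hk
    have hsplit : v % 2 ^ (k + 1) = (v % 2 ^ k) ^^^ (bif v.testBit k then 2 ^ k else 0) := by
      apply Nat.eq_of_testBit_eq
      intro i
      rw [Nat.testBit_mod_two_pow, Nat.testBit_xor, Nat.testBit_mod_two_pow]
      rcases lt_trichotomy i k with h | rfl | h
      · cases v.testBit k <;> simp [h, Nat.lt_succ_of_lt h, (ne_of_lt h).symm]
      · cases hb : v.testBit i <;> simp [hb]
      · cases v.testBit k <;> simp [show ¬ i < k + 1 by omega, show ¬ i < k by omega, ne_of_lt h]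
    have hb : Nat.beq ((v >>> k) &&& 1) 1 = v.testBit k := by
      rw [Nat.and_one_is_mod, Nat.shiftRight_eq_div_pow, Nat.testBit_eq_decide_div_mod_eq,
        Bool.eq_iff_iff]
      simp [Nat.beq_eq]
    have hstep : appN j (k + 1) v = bif v.testBit k then appN j k v ^^^ colAt j k else appN j k v := by
      show (bif Nat.beq ((v >>> k) &&& 1) 1 then appN j k v ^^^ colAt j k else appN j k v) = _
      rw [hb]
    rw [hstep, hsplit]
    cases v.testBit k
    · simp only [cond_false, Nat.xor_zero]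
      exact ih (by omega)
    · simp only [cond_true]
      rw [vec_xor, vec_xor, Matrix.mulVec_add, ih (by omega), gMat_bit hj (by omega)]

/-! ### The points -/

/-- The code of a point. -/
noncomputable def pv (i : ℕ) : ℕ := Data.vecs.get 28 i

theorem pv_lt (i : ℕ) : pv i < 2 ^ 28 := by
  have : ∀ (t : Tr) (i : ℕ), t.get 28 i < 2 ^ 28 := by
    intro t
    induction t with
    | leaf v =>
      intro i
      show (v >>> (i * 28)) &&& (2 ^ 28 - 1) < 2 ^ 28
      exact lt_of_le_of_lt Nat.and_le_right (by norm_num)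
    | node m l r ihl ihr =>
      intro i
      show Bool.rec (r.get 28 (i - m)) (l.get 28 i) (Nat.blt i m) < 2 ^ 28
      cases Nat.blt i m
      · exact ihr _
      · exact ihl _
  exact this _ _

/-- Entry of a program table. -/
noncomputable def tabAt (k i : ℕ) : ℕ := (Data.tabs.getD k (.leaf 0)).get 12 i

/-- The scalar at a point. -/
noncomputable def scAt (j i : ℕ) : ℕ := (Data.scs.getD j (.leaf 0)).get 2 i

/-- A generator maps a point to a point. -/
noncomputable def actOK (j i : ℕ) : Bool :=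
  strict (pv i) fun v => strict (tabAt (gOut j) i) fun m => strict (pv m) fun u =>
    strict (scAt j i) fun c => strict (appN j 28 v) fun w =>
      Nat.blt m 1365 && !Nat.beq c 0 && Nat.blt c 4 &&
        allLin (fun p => Nat.beq (dig w p) (mulN c (dig u p))) 14 0

theorem act_check : ((List.range 8).all fun j => allFrom (actOK j) 1365 0) = true := by
  decide +kernel

theorem dec_ne_zero {c : ℕ} (h0 : c ≠ 0) (h4 : c < 4) : dec c ≠ 0 := by
  interval_cases c
  · exact absurd rfl h0
  all_goals decide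

theorem gen_point {j i : ℕ} (hj : j < 8) (hi : i < 1365) :
    tabAt (gOut j) i < 1365 ∧
      ∃ c : K4, c ≠ 0 ∧ gMat j *ᵥ vec (pv i) = c • vec (pv (tabAt (gOut j) i)) := by
  have h := allFrom_spec _ _ _ (List.all_eq_true.1 act_check j (List.mem_range.2 hj)) i
    (Nat.zero_le _) (by omega)
  unfold actOK at h
  simp only [strict_eq, Bool.and_eq_true, Bool.not_eq_true'] at h
  obtain ⟨⟨⟨h1, h2⟩, h3⟩, h4⟩ := h
  have hm := Nat.le_of_ble_eq_true h1
  have hc4 : scAt j i < 4 := Nat.le_of_ble_eq_true h3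
  have hc0 : scAt j i ≠ 0 := fun e => by rw [e] at h2; exact absurd h2 (by decide)
  refine ⟨hm, dec (scAt j i), dec_ne_zero hc0 hc4, ?_⟩
  have h28 := appN_spec hj (pv i) 28 le_rfl
  rw [Nat.mod_eq_of_lt (pv_lt i)] at h28
  funext p
  rw [h28, Pi.smul_apply, vec_eq, vec_eq, smul_eq_mul,
    Nat.eq_of_beq_eq_true (allLin_spec _ _ _ h4 (pos p) (Nat.zero_le _) (by have := (unpos_pos p).2; omega))]
  exact mulN_spec ⟨_, hc4⟩ ⟨_, dig_lt _ _⟩

/-- The leading entry is one, the codes increase. -/
noncomputable def normOK (i : ℕ) : Bool :=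
  strict (pv i) fun v =>
    (List.range 14).any (fun L => Nat.beq (v >>> (2 * L)) 1) &&
      (Nat.beq (i + 1) 1365 || Nat.blt v (pv (i + 1)))

theorem norm_check : allFrom normOK 1365 0 = true := by decide +kernel

theorem norm_spec {i : ℕ} (hi : i < 1365) :
    (∃ L < 14, pv i >>> (2 * L) = 1) ∧ (i + 1 < 1365 → pv i < pv (i + 1)) := by
  have h := allFrom_spec _ _ _ norm_check i (Nat.zero_le _) (by omega)
  unfold normOK at h
  simp only [strict_eq, Bool.and_eq_true, Bool.or_eq_true, List.any_eq_true, List.mem_range,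
    Nat.beq_eq] at h
  refine ⟨h.1, fun h' => ?_⟩
  rcases h.2 with e | e
  · omega
  · exact Nat.le_of_ble_eq_true e

theorem pv_strictMono {i k : ℕ} (hik : i < k) (hk : k < 1365) : pv i < pv k := by
  induction k with
  | zero => omega
  | succ k ih =>
    have h1 := (norm_spec (show k < 1365 by omega)).2 hk
    rcases Nat.eq_or_lt_of_le (Nat.lt_succ_iff.1 hik) with rfl | h
    · exact h1
    · exact lt_trans (ih h (by omega)) h1

theorem vec_injective {v w : ℕ} (hv : v < 2 ^ 28) (hw : w < 2 ^ 28) (h : vec v = vec w) : v = w := by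
  apply Nat.eq_of_testBit_eq
  intro b
  by_cases hb : b < 28
  · have h' := congrFun h (unpos (b / 2))
    have hp : pos (unpos (b / 2)) = b / 2 := pos_unpos ⟨b / 2, by omega⟩
    rw [vec, vec, hp] at h'
    simp only [dec, K4.mk.injEq, Fin.mk.injEq] at h'
    have key : ∀ x : ℕ, x.testBit b = ((x >>> (2 * (b / 2))) % 2 ^ 2).testBit (b % 2) := by
      intro x
      rw [Nat.testBit_mod_two_pow, Nat.testBit_shiftRight,
        show 2 * (b / 2) + b % 2 = b by omega]
      simp [show b % 2 < 2 by omega]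
    rw [key v, key w]
    show ((v >>> (2 * (b / 2))) % 4).testBit (b % 2) = ((w >>> (2 * (b / 2))) % 4).testBit (b % 2)
    rw [h']
  · rw [Nat.testBit_lt_two_pow (lt_of_lt_of_le hv (Nat.pow_le_pow_right (by norm_num) (by omega))),
      Nat.testBit_lt_two_pow (lt_of_lt_of_le hw (Nat.pow_le_pow_right (by norm_num) (by omega)))]

/-- Two proportional points are equal. -/
theorem eq_of_smul {i k : ℕ} (hi : i < 1365) (hk : k < 1365) {a : K4}
    (h : vec (pv i) = a • vec (pv k)) : i = k := by
  obtain ⟨L, hL, hv⟩ := (norm_spec hi).1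
  obtain ⟨L', hL', hw⟩ := (norm_spec hk).1
  have high : ∀ {v L p : ℕ}, v >>> (2 * L) = 1 → L < p → v >>> (2 * p) = 0 := by
    intro v L p hv hp
    rw [show 2 * p = 2 * L + (2 * p - 2 * L) by omega, Nat.shiftRight_add, hv,
      Nat.shiftRight_eq_div_pow]
    exact Nat.div_eq_of_lt (lt_of_lt_of_le Nat.one_lt_two
      (Nat.le_self_pow (by omega) 2))
  have hd : ∀ p < 14, dec (pv i >>> (2 * p)) = a * dec (pv k >>> (2 * p)) := by
    intro p hp
    have h' := congrFun h (unpos p)
    rwa [Pi.smul_apply, vec, vec, pos_unpos ⟨p, hp⟩, smul_eq_mul] at h'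
  have hL1 := hd L hL
  rw [hv, dec_one] at hL1
  rcases lt_trichotomy L L' with hlt | rfl | hlt
  · have hL2 := hd L' hL'
    rw [high hv hlt, hw, dec_zero, dec_one, mul_one] at hL2
    rw [← hL2, zero_mul] at hL1
    exact absurd hL1 one_ne_zero
  · rw [hw, dec_one, mul_one] at hL1
    rw [← hL1, one_smul] at h
    have e := vec_injective (pv_lt i) (pv_lt k) h
    rcases lt_trichotomy i k with hlt | he | hlt
    · exact absurd e (ne_of_lt (pv_strictMono hlt hk))
    · exact he
    · exact absurd e.symm (ne_of_lt (pv_strictMono hlt hi))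
  · rw [high hw hlt, dec_zero, mul_zero] at hL1
    exact absurd hL1 one_ne_zero

theorem point_ne_zero {i : ℕ} (hi : i < 1365) : vec (pv i) ≠ 0 := by
  obtain ⟨L, hL, hv⟩ := (norm_spec hi).1
  intro h
  have h' := congrFun h (unpos L)
  rw [vec, pos_unpos ⟨L, hL⟩, hv, dec_one] at h'
  exact one_ne_zero h'

/-- The point as a vector. -/
noncomputable def pt (i : Fin 1365) : V := vec (pv i)

theorem pt_eq_of_smul {i k : Fin 1365} {a : K4} (h : pt i = a • pt k) : i = k :=
  Fin.ext (eq_of_smul i.2 k.2 h)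

theorem pt_unique {x : V} {i k : Fin 1365} {a b : K4} (ha : a ≠ 0) (h : x = a • pt i)
    (h' : x = b • pt k) : i = k := by
  refine pt_eq_of_smul (a := a⁻¹ * b) ?_
  rw [mul_smul, ← h', h, smul_smul, inv_mul_cancel₀ ha, one_smul]

/-! ### The group permutes the points -/

/-- The elements permuting the points. -/
def goodMon : Submonoid GK where
  carrier := {g | ∀ i, ∃ m, ∃ c : K4, c ≠ 0 ∧ (g : Matrix Ix Ix K4) *ᵥ pt i = c • pt m}
  one_mem' i := ⟨i, 1, one_ne_zero, by simp⟩
  mul_mem' {a b} ha hb i := by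
    obtain ⟨m, c, hc, h1⟩ := hb i
    obtain ⟨m', c', hc', h2⟩ := ha m
    refine ⟨m', c * c', mul_ne_zero hc hc', ?_⟩
    rw [Units.val_mul, ← Matrix.mulVec_mulVec, h1, Matrix.mulVec_smul, h2, smul_smul]

instance : Finite GK := Finite.of_injective (fun g : GK => (g : Matrix Ix Ix K4)) Units.val_injective

/-- The subgroup permuting the points. -/
def good : Subgroup GK :=
  { goodMon with
    inv_mem' := fun {g} hg => by
      have e : g⁻¹ = g ^ (orderOf g - 1) := by
        refine inv_eq_of_mul_eq_one_right ?_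
        rw [← pow_succ', Nat.sub_add_cancel (orderOf_pos g), pow_orderOf_eq_one]
      rw [e]
      exact goodMon.pow_mem hg _ }

theorem mem_good (g : good) (i : Fin 1365) :
    ∃ m, ∃ c : K4, c ≠ 0 ∧ ((g : GK) : Matrix Ix Ix K4) *ᵥ pt i = c • pt m := g.2 i

/-- The image of a point. -/
noncomputable def pmap (g : good) (i : Fin 1365) : Fin 1365 := (mem_good g i).choose

theorem pmap_spec (g : good) (i : Fin 1365) :
    ∃ c : K4, c ≠ 0 ∧ ((g : GK) : Matrix Ix Ix K4) *ᵥ pt i = c • pt (pmap g i) :=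
  (mem_good g i).choose_spec

theorem pmap_eq (g : good) {i m : Fin 1365} {c : K4} (hc : c ≠ 0)
    (h : ((g : GK) : Matrix Ix Ix K4) *ᵥ pt i = c • pt m) : pmap g i = m := by
  obtain ⟨d, hd, h'⟩ := pmap_spec g i
  exact (pt_unique hc h h').symm

theorem pmap_one (i : Fin 1365) : pmap 1 i = i :=
  pmap_eq 1 one_ne_zero (by simp)

theorem pmap_mul (g h : good) (i : Fin 1365) : pmap (g * h) i = pmap g (pmap h i) := by
  obtain ⟨c, hc, h1⟩ := pmap_spec h i
  obtain ⟨d, hd, h2⟩ := pmap_spec g (pmap h i)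
  refine pmap_eq _ (mul_ne_zero hc hd) ?_
  rw [Subgroup.coe_mul, Units.val_mul, ← Matrix.mulVec_mulVec, h1, Matrix.mulVec_smul, h2,
    smul_smul]

/-- The action on points. -/
noncomputable def γ : good →* Equiv.Perm (Fin 1365) where
  toFun g :=
    { toFun := pmap g
      invFun := pmap g⁻¹
      left_inv := fun i => by rw [← pmap_mul, inv_mul_cancel, pmap_one]
      right_inv := fun i => by rw [← pmap_mul, mul_inv_cancel, pmap_one] }
  map_one' := Equiv.ext fun i => pmap_one i
  map_mul' g h := Equiv.ext fun i => pmap_mul g h i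

theorem simple_roots : ∀ i : Fin chevG2.rank,
    chevG2.simple i = (if i.val = 0 then 7 else 6) ∧
      chevG2.neg (chevG2.simple i) = (if i.val = 0 then 4 else 5) := by
  decide +kernel

theorem gens_spec : ∀ j : Fin 8, (gR j.val).val = [7, 7, 6, 6, 4, 4, 5, 5].getD j.val 0 ∧
    gT j.val = if j.val % 2 = 0 then dec 1 else dec 2 := by
  decide +kernel

theorem k4_cases : ∀ t : K4, t = 0 ∨ t = dec 1 ∨ t = dec 2 ∨ t = dec 1 + dec 2 := by decide +kernel

theorem coe_gen {j r : ℕ} (hr : r < chevG2.nroots) (hR : (gR j).val = r) :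
    ((elX chevG2 K4 r (gT j) : GK) : Matrix Ix Ix K4) = gMat j := by
  obtain ⟨T, hc⟩ := exists_checked (D := chevG2) (by simp)
  rw [coe_elX hc K4 hr, ChevalleyDatum.x, dif_pos hr]
  show chevG2.xMat K4 ⟨r, hr⟩ (gT j) = chevG2.xMat K4 (gR j) (gT j)
  congr 1
  exact Fin.ext hR.symm

/-- The generators of the Chevalley group among the root elements. -/
def genSet : Set GK := {g | ∃ j < 8, ((g : GK) : Matrix Ix Ix K4) = gMat j}

theorem group_le : chevG2.group K4 ≤ Subgroup.closure genSet := by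
  obtain ⟨T, hc⟩ := exists_checked (D := chevG2) (by simp)
  refine (CfsgLib.ChevGraph.group_le_closure_simpleGens hc).trans ((Subgroup.closure_le _).2 ?_)
  have one_root : ∀ (r j : ℕ), j + 1 < 8 → j % 2 = 0 → r < chevG2.nroots → (gR j).val = r →
      (gR (j + 1)).val = r → ∀ t : K4, elX chevG2 K4 r t ∈ Subgroup.closure genSet := by
    intro r j hj hj2 hr hR hR' t
    have h1 : elX chevG2 K4 r (dec 1) ∈ Subgroup.closure genSet := by
      refine Subgroup.subset_closure ⟨j, by omega, ?_⟩
      rw [← coe_gen hr hR, (gens_spec ⟨j, by omega⟩).2, if_pos hj2]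
    have h2 : elX chevG2 K4 r (dec 2) ∈ Subgroup.closure genSet := by
      refine Subgroup.subset_closure ⟨j + 1, by omega, ?_⟩
      rw [← coe_gen hr hR', (gens_spec ⟨j + 1, hj⟩).2, if_neg (by simp only; omega)]
    rcases k4_cases t with rfl | rfl | rfl | rfl
    · rw [elX_zero hc K4 hr]; exact one_mem _
    · exact h1
    · exact h2
    · rw [← elX_add hc K4 hr]; exact mul_mem h1 h2
  have hn : chevG2.nroots = 12 := rfl
  rintro g ⟨i, t, rfl | rfl⟩
  · rw [(simple_roots i).1]
    split
    · exact one_root 7 0 (by omega) rfl (by omega) (gens_spec 0).1 (gens_spec 1).1 t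
    · exact one_root 6 2 (by omega) rfl (by omega) (gens_spec 2).1 (gens_spec 3).1 t
  · rw [(simple_roots i).2]
    split
    · exact one_root 4 4 (by omega) rfl (by omega) (gens_spec 4).1 (gens_spec 5).1 t
    · exact one_root 5 6 (by omega) rfl (by omega) (gens_spec 6).1 (gens_spec 7).1 t

theorem genSet_good : genSet ⊆ good := by
  rintro g ⟨j, hj, hg⟩ i
  obtain ⟨hm, c, hc, h⟩ := gen_point hj i.2
  exact ⟨⟨_, hm⟩, c, hc, by rw [hg]; exact h⟩

theorem group_le_good : chevG2.group K4 ≤ good :=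
  group_le.trans ((Subgroup.closure_le _).2 genSet_good)

/-! ### Faithfulness -/

/-- A combination of points at a coordinate. -/
noncomputable def comb (l : List (ℕ × ℕ)) (p : ℕ) : ℕ :=
  l.foldr (fun q acc => mulN q.2 (dig (pv q.1) p) ^^^ acc) 0

theorem comb_spec (l : List (ℕ × ℕ)) (hl : ∀ q ∈ l, q.2 < 4) (p : Ix) :
    dec (comb l (pos p)) = ((l.map fun q => dec q.2 • vec (pv q.1)).sum : V) p := by
  induction l with
  | nil => rfl
  | cons q l ih =>
    show dec (mulN q.2 (dig (pv q.1) (pos p)) ^^^ comb l (pos p)) = _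
    rw [dec_xor, List.map_cons, List.sum_cons, Pi.add_apply,
      ih fun x hx => hl x (List.mem_cons_of_mem _ hx)]
    congr 1
    show dec (mulN q.2 (dig (pv q.1) (pos p))) = dec q.2 * vec (pv q.1) p
    rw [vec_eq]
    exact mulN_spec ⟨_, hl q List.mem_cons_self⟩ ⟨_, dig_lt _ _⟩

/-- Spreading the eigenvalue along collinearities, ending with the unit vectors. -/
noncomputable def chainOK : List (ℕ × ℕ × ℕ × ℕ × ℕ) → List ℕ → Bool
  | [], known => Nat.beq Data.expand.length 14 && (List.range 14).all fun j =>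
      (Data.expand.getD j []).all (fun q => known.any (Nat.beq q.1) && Nat.blt q.2 4 && Nat.blt q.1 1365) &&
        allLin (fun p => Nat.beq (comb (Data.expand.getD j []) p) (bif Nat.beq p j then 1 else 0)) 14 0
  | (u, v, w, a, b) :: rest, known =>
      known.any (Nat.beq u) && !Nat.beq u v && Nat.blt u 1365 && Nat.blt v 1365 && Nat.blt w 1365 &&
        !Nat.beq a 0 && !Nat.beq b 0 && Nat.blt a 4 && Nat.blt b 4 &&
        allLin (fun p => Nat.beq (dig (pv w) p) (comb [(u, a), (v, b)] p)) 14 0 &&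
        chainOK rest (v :: w :: known)

theorem chain_check : chainOK Data.chain [0] = true := by decide +kernel

theorem scalar_of_fix (M : Matrix Ix Ix K4) (hM : ∀ i : Fin 1365, ∃ c : K4, M *ᵥ pt i = c • pt i) :
    ∃ c : K4, M = c • (1 : Matrix Ix Ix K4) := by
  choose c hc using hM
  suffices key : ∀ (L : List (ℕ × ℕ × ℕ × ℕ × ℕ)) (known : List ℕ),
      (∀ k ∈ known, ∀ hk : k < 1365, c ⟨k, hk⟩ = c 0) → chainOK L known = true →
      ∀ j : Fin 14, M *ᵥ Pi.single (unpos j) 1 = c 0 • Pi.single (unpos j) 1 by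
    refine ⟨c 0, ?_⟩
    have hinit : ∀ k ∈ [0], ∀ hk : k < 1365, c ⟨k, hk⟩ = c 0 := by
      intro k hk h
      rw [List.mem_singleton] at hk
      subst hk
      rfl
    ext p q
    have h := congrFun (key Data.chain [0] hinit chain_check ⟨pos q, (unpos_pos q).2⟩) p
    rw [show unpos (⟨pos q, (unpos_pos q).2⟩ : Fin 14).val = q from (unpos_pos q).1,
      Matrix.mulVec_single_one] at h
    simpa [Matrix.one_apply, Pi.single_apply] using h
  intro L
  induction L with
  | nil =>
    intro known hknown h j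
    unfold chainOK at h
    simp only [Bool.and_eq_true, List.all_eq_true, List.mem_range, List.any_eq_true] at h
    obtain ⟨h1, h2⟩ := h.2 j.val j.2
    set l := Data.expand.getD j.val []
    have e : (Pi.single (unpos j) 1 : V) = (l.map fun q => dec q.2 • vec (pv q.1)).sum := by
      funext p
      rw [← comb_spec l (fun q hq => Nat.le_of_ble_eq_true (h1 q hq).1.2) p,
        Nat.eq_of_beq_eq_true (allLin_spec _ _ _ h2 (pos p) (Nat.zero_le _)
          (by have := (unpos_pos p).2; omega)), Pi.single_apply]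
      by_cases hp : p = unpos j
      · rw [if_pos hp, hp, pos_unpos, show Nat.beq j.val j.val = true from Nat.beq_refl _]
        rfl
      · have hne : Nat.beq (pos p) j.val = false := by
          rw [Bool.eq_false_iff]
          intro e
          exact hp (by rw [← Nat.eq_of_beq_eq_true e, (unpos_pos p).1])
        rw [if_neg hp, hne]
        rfl
    rw [e]
    clear e h2
    clear_value l
    induction l with
    | nil => simp
    | cons q l ih =>
      obtain ⟨⟨⟨k, hk, hkq⟩, -⟩, hq⟩ := h1 q List.mem_cons_self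
      rw [List.map_cons, List.sum_cons, Matrix.mulVec_add, Matrix.mulVec_smul, smul_add,
        ih (fun x hx => h1 x (List.mem_cons_of_mem _ hx))]
      congr 1
      have hq' : q.1 < 1365 := Nat.le_of_ble_eq_true hq
      rw [show M *ᵥ vec (pv q.1) = c ⟨q.1, hq'⟩ • vec (pv q.1) from hc ⟨q.1, hq'⟩,
        hknown q.1 (Nat.eq_of_beq_eq_true hkq ▸ hk) hq', smul_comm]
  | cons s L ih =>
    obtain ⟨u, v, w, a, b⟩ := s
    intro known hknown h
    unfold chainOK at h
    simp only [Bool.and_eq_true, Bool.not_eq_true', List.any_eq_true] at h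
    obtain ⟨⟨⟨⟨⟨⟨⟨⟨⟨⟨⟨k, hk, hku⟩, huv⟩, hu⟩, hv⟩, hw⟩, ha0⟩, hb0⟩, ha⟩, hb⟩, heq⟩, hrest⟩ := h
    have hu' : u < 1365 := Nat.le_of_ble_eq_true hu
    have hv' : v < 1365 := Nat.le_of_ble_eq_true hv
    have hw' : w < 1365 := Nat.le_of_ble_eq_true hw
    have ha' : dec a ≠ 0 := dec_ne_zero (fun e => by rw [e] at ha0; exact absurd ha0 (by decide))
      (Nat.le_of_ble_eq_true ha)
    have hb' : dec b ≠ 0 := dec_ne_zero (fun e => by rw [e] at hb0; exact absurd hb0 (by decide))
      (Nat.le_of_ble_eq_true hb)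
    have huv' : u ≠ v := fun e => by
      rw [e, show Nat.beq v v = true from Nat.beq_refl v] at huv; exact absurd huv (by decide)
    have hcu := hknown u (Nat.eq_of_beq_eq_true hku ▸ hk) hu'
    have hwv : pt ⟨w, hw'⟩ = dec a • pt ⟨u, hu'⟩ + dec b • pt ⟨v, hv'⟩ := by
      funext p
      rw [pt, vec_eq, Nat.eq_of_beq_eq_true (allLin_spec _ _ _ heq (pos p) (Nat.zero_le _)
        (by have := (unpos_pos p).2; omega)), comb_spec _ (by
          simp only [List.mem_cons, List.not_mem_nil, or_false, forall_eq_or_imp, forall_eq]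
          exact ⟨Nat.le_of_ble_eq_true ha, Nat.le_of_ble_eq_true hb⟩)]
      simp [pt]
    have hm : c ⟨w, hw'⟩ • (dec a • pt ⟨u, hu'⟩ + dec b • pt ⟨v, hv'⟩) =
        dec a • c ⟨u, hu'⟩ • pt ⟨u, hu'⟩ + dec b • c ⟨v, hv'⟩ • pt ⟨v, hv'⟩ := by
      have := hc ⟨w, hw'⟩
      rw [hwv, Matrix.mulVec_add, Matrix.mulVec_smul, Matrix.mulVec_smul, hc, hc] at this
      exact this.symm
    simp only [smul_add, smul_smul] at hm
    have indep : ∀ x y : K4, x • pt ⟨u, hu'⟩ + y • pt ⟨v, hv'⟩ = 0 → x = 0 ∧ y = 0 := by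
      intro x y hxy
      by_cases hx : x = 0
      · rw [hx, zero_smul, zero_add, smul_eq_zero] at hxy
        exact ⟨hx, hxy.resolve_right (point_ne_zero hv')⟩
      · exfalso
        refine huv' (congrArg Fin.val (pt_eq_of_smul (i := ⟨u, hu'⟩) (k := ⟨v, hv'⟩) (a := -(x⁻¹ * y)) ?_))
        rw [neg_smul, mul_smul, eq_neg_iff_add_eq_zero]
        have := congrArg (x⁻¹ • ·) hxy
        simpa only [smul_add, smul_zero, smul_smul, inv_mul_cancel₀ hx, one_smul] using this
    obtain ⟨e1, e2⟩ := indep (c ⟨w, hw'⟩ * dec a - dec a * c ⟨u, hu'⟩)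
      (c ⟨w, hw'⟩ * dec b - dec b * c ⟨v, hv'⟩) (by
        rw [sub_smul, sub_smul]
        rw [sub_add_sub_comm, hm, sub_self])
    have hcw : c ⟨w, hw'⟩ = c 0 := by
      rw [← hcu]
      exact mul_right_cancel₀ ha' (by rw [sub_eq_zero] at e1; rw [e1, mul_comm])
    have hcv : c ⟨v, hv'⟩ = c 0 := by
      rw [← hcw]
      exact mul_right_cancel₀ hb' (by rw [sub_eq_zero] at e2; rw [e2, mul_comm])
    refine ih _ ?_ hrest
    intro x hx hx'
    rcases List.mem_cons.1 hx with rfl | hx
    · exact hcv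
    rcases List.mem_cons.1 hx with rfl | hx
    · exact hcw
    · exact hknown x hx hx'

theorem gens_involution : ∀ j : Fin 8, ∀ t : Fin 28,
    appN j.val 28 (colAt j.val t.val) = 2 ^ t.val := by
  decide +kernel

theorem gen_det {g : GK} (hg : g ∈ genSet) : (g : Matrix Ix Ix K4).det = 1 := by
  obtain ⟨j, hj, hg⟩ := hg
  have hsq : gMat j * gMat j = 1 := by
    refine Matrix.ext_of_mulVec_single fun q => ?_
    obtain ⟨t, ht, hq⟩ : ∃ t, t < 28 ∧ vec (2 ^ t) = Pi.single q 1 := by
      refine ⟨2 * pos q, by have := (unpos_pos q).2; omega, ?_⟩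
      funext p
      rw [bit_single ⟨2 * pos q, by have := (unpos_pos q).2; omega⟩ p, Pi.single_apply]
      simp only [show 2 * pos q / 2 = pos q by omega, (unpos_pos q).1, Nat.mul_mod_right, pow_zero,
        dec_one]
    have hlt : colAt j t < 2 ^ 28 := lt_of_le_of_lt Nat.and_le_right (by norm_num)
    have h2 := appN_spec hj (colAt j t) 28 le_rfl
    rw [Nat.mod_eq_of_lt hlt, gens_involution ⟨j, hj⟩ ⟨t, ht⟩, ← gMat_bit hj ht] at h2
    rw [← hq, ← Matrix.mulVec_mulVec, h2, Matrix.one_mulVec]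
  have hd : (gMat j).det * (gMat j).det = 1 := by rw [← Matrix.det_mul, hsq, Matrix.det_one]
  rw [hg]
  have : ∀ d : K4, d * d = 1 → d = 1 := by decide +kernel
  exact this _ hd

theorem det_eq_one_of_closure {n R : Type*} [Fintype n] [DecidableEq n] [CommRing R]
    {S : Set (GL n R)} (h : ∀ x ∈ S, (x : Matrix n n R).det = 1) {g : GL n R}
    (hg : g ∈ Subgroup.closure S) : (g : Matrix n n R).det = 1 := by
  have hle : Subgroup.closure S ≤ (Matrix.GeneralLinearGroup.det (n := n) (R := R)).ker :=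
    (Subgroup.closure_le _).2 fun x hx => Units.ext (h x hx)
  exact congrArg Units.val (hle hg)

theorem group_det {g : GK} (hg : g ∈ chevG2.group K4) : (g : Matrix Ix Ix K4).det = 1 :=
  det_eq_one_of_closure (fun _ hx => gen_det hx) (group_le hg)

/-- The action of the Chevalley group. -/
noncomputable def γG : chevG2.group K4 →* Equiv.Perm (Fin 1365) :=
  γ.comp (Subgroup.inclusion group_le_good)

theorem γG_injective : Function.Injective γG := by
  rw [injective_iff_map_eq_one]
  intro g hg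
  obtain ⟨c, hc⟩ := scalar_of_fix ((g : GK) : Matrix Ix Ix K4) fun i => by
    obtain ⟨c, -, hc⟩ := pmap_spec (Subgroup.inclusion group_le_good g) i
    rw [show pmap (Subgroup.inclusion group_le_good g) i = i from
      congrArg (fun σ : Equiv.Perm (Fin 1365) => σ i) hg] at hc
    exact ⟨c, hc⟩
  have hd := group_det g.2
  rw [hc, Matrix.det_smul, Matrix.det_one, mul_one] at hd
  have hcard : Fintype.card Ix = 14 := rfl
  rw [hcard] at hd
  have : ∀ x : K4, x ^ 14 = 1 → x = 1 := by decide +kernel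
  rw [this c hd, one_smul] at hc
  exact Subtype.ext (Units.ext hc)

theorem γG_gen {g : chevG2.group K4} {j : ℕ} (hj : j < 8)
    (hg : ((g : GK) : Matrix Ix Ix K4) = gMat j) (i : Fin 1365) :
    ((γG g i : Fin 1365) : ℕ) = tabAt (gOut j) i := by
  obtain ⟨hm, c, hc, h⟩ := gen_point hj i.2
  show (pmap (Subgroup.inclusion group_le_good g) i : ℕ) = _
  rw [pmap_eq (m := ⟨_, hm⟩) _ hc (by show ((g : GK) : Matrix Ix Ix K4) *ᵥ pt i = _; rw [hg]; exact h)]

/-! ### The suborbit of the Suzuki group -/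

/-- A point of the suborbit. -/
noncomputable def embAt (i : ℕ) : ℕ := Data.emb.get 12 i

/-- The embedding is injective and the first six tables are the generators. -/
noncomputable def baseOK (i : ℕ) : Bool :=
  strict (embAt i) fun e => Nat.blt e 1782 && Nat.beq (Data.embInv.get 12 e) i &&
    allLin (fun k => strict (tabAt k i) fun m => Nat.blt m 1365 &&
      Nat.beq (CosetEnum.act Suz.subTable k e) (embAt m)) 6 0

theorem base_check : allFrom baseOK 1365 0 = true := by decide +kernel

theorem base_spec {i : ℕ} (hi : i < 1365) :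
    embAt i < 1782 ∧ Data.embInv.get 12 (embAt i) = i ∧ ∀ k < 6,
      tabAt k i < 1365 ∧ CosetEnum.act Suz.subTable k (embAt i) = embAt (tabAt k i) := by
  have h := allFrom_spec _ _ _ base_check i (Nat.zero_le _) (by omega)
  unfold baseOK at h
  simp only [strict_eq, Bool.and_eq_true] at h
  refine ⟨Nat.le_of_ble_eq_true h.1.1, Nat.eq_of_beq_eq_true h.1.2, fun k hk => ?_⟩
  have h' := allLin_spec _ _ _ h.2 k (Nat.zero_le _) (by omega)
  simp only [strict_eq, Bool.and_eq_true] at h'
  exact ⟨Nat.le_of_ble_eq_true h'.1, Nat.eq_of_beq_eq_true h'.2⟩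

/-- A point of the suborbit. -/
noncomputable def emb (i : Fin 1365) : Fin 1782 := ⟨embAt i, (base_spec i.2).1⟩

theorem emb_injective : Function.Injective emb := fun i k h =>
  Fin.ext (by rw [← (base_spec i.2).2.1, ← (base_spec k.2).2.1, show embAt i = embAt k from congrArg Fin.val h])

instance : Finite Cfsg.Spor.Suz := Suz.finite

/-- Elements keeping the suborbit. -/
def keepMon : Submonoid Cfsg.Spor.Suz where
  carrier := {z | ∀ i, ∃ m, Suz.π z (emb i) = emb m}
  one_mem' i := ⟨i, by simp⟩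
  mul_mem' {a b} ha hb i := by
    obtain ⟨m, hm⟩ := hb i
    obtain ⟨m', hm'⟩ := ha m
    exact ⟨m', by rw [map_mul, Equiv.Perm.mul_apply, hm, hm']⟩

/-- The subgroup keeping the suborbit. -/
def keep : Subgroup Cfsg.Spor.Suz :=
  { keepMon with
    inv_mem' := fun {g} hg => by
      have e : g⁻¹ = g ^ (orderOf g - 1) := by
        refine inv_eq_of_mul_eq_one_right ?_
        rw [← pow_succ', Nat.sub_add_cancel (orderOf_pos g), pow_orderOf_eq_one]
      rw [e]
      exact keepMon.pow_mem hg _ }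

theorem H_le_keep : Suz.H ≤ keep := by
  intro z hz
  refine (Subgroup.closure_le keep).2 ?_ (Suz.sub_spec.2 hz)
  rintro y ⟨k, hk, hy⟩ i
  have hk6 : k < 6 := hk
  obtain ⟨h1, h2⟩ := (base_spec i.2).2.2 k hk6
  exact ⟨⟨_, h1⟩, Fin.ext ((hy (emb i)).trans h2)⟩

/-- The image of a suborbit point. -/
noncomputable def omap (z : Suz.H) (i : Fin 1365) : Fin 1365 := (H_le_keep z.2 i).choose

theorem omap_spec (z : Suz.H) (i : Fin 1365) : Suz.π (z : Cfsg.Spor.Suz) (emb i) = emb (omap z i) :=
  (H_le_keep z.2 i).choose_spec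

theorem omap_one (i : Fin 1365) : omap 1 i = i := by
  apply emb_injective
  rw [← omap_spec, Subgroup.coe_one, map_one, Equiv.Perm.one_apply]

theorem omap_mul (y z : Suz.H) (i : Fin 1365) : omap (y * z) i = omap y (omap z i) := by
  apply emb_injective
  rw [← omap_spec, ← omap_spec, ← omap_spec, Subgroup.coe_mul, map_mul, Equiv.Perm.mul_apply]

/-- The action on the suborbit. -/
noncomputable def ρ : Suz.H →* Equiv.Perm (Fin 1365) where
  toFun g :=
    { toFun := omap g
      invFun := omap g⁻¹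
      left_inv := fun i => by rw [← omap_mul, inv_mul_cancel, omap_one]
      right_inv := fun i => by rw [← omap_mul, mul_inv_cancel, omap_one] }
  map_one' := Equiv.ext fun i => omap_one i
  map_mul' g h := Equiv.ext fun i => omap_mul g h i

/-- The program steps. -/
noncomputable def progOK : List (ℕ × ℕ) → ℕ → Bool
  | [], k => Nat.beq k 96
  | (a, b) :: rest, k => Nat.blt a k && Nat.blt b k &&
      allFrom (fun i => Nat.beq (tabAt k i) (tabAt b (tabAt a i))) 1365 0 && progOK rest (k + 1)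

theorem prog_check : progOK Data.prog 6 = true := by decide +kernel

theorem prog_sound : ∀ (L : List (ℕ × ℕ)) (k : ℕ),
    (∀ m < k, ∃ z : Suz.H, ∀ i : Fin 1365, ((ρ z i : Fin 1365) : ℕ) = tabAt m i) →
    progOK L k = true → ∀ m < 96, ∃ z : Suz.H, ∀ i : Fin 1365, ((ρ z i : Fin 1365) : ℕ) = tabAt m i := by
  intro L
  induction L with
  | nil =>
    intro k hk h m hm
    unfold progOK at h
    exact hk m (by rw [Nat.eq_of_beq_eq_true h]; exact hm)
  | cons s L ih =>
    obtain ⟨a, b⟩ := s
    intro k hk h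
    unfold progOK at h
    simp only [Bool.and_eq_true] at h
    obtain ⟨⟨⟨ha, hb⟩, heq⟩, hrest⟩ := h
    refine ih (k + 1) (fun m hm => ?_) hrest
    rcases Nat.lt_succ_iff_lt_or_eq.1 hm with h' | rfl
    · exact hk m h'
    obtain ⟨za, hza⟩ := hk a (Nat.le_of_ble_eq_true ha)
    obtain ⟨zb, hzb⟩ := hk b (Nat.le_of_ble_eq_true hb)
    refine ⟨zb * za, fun i => ?_⟩
    rw [map_mul, Equiv.Perm.mul_apply, hzb, hza,
      Nat.eq_of_beq_eq_true (allFrom_spec _ _ _ heq i (Nat.zero_le _) (by omega))]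

theorem node_mem {m : ℕ} (hm : m < 96) :
    ∃ z : Suz.H, ∀ i : Fin 1365, ((ρ z i : Fin 1365) : ℕ) = tabAt m i := by
  refine prog_sound Data.prog 6 (fun k hk => ?_) prog_check m hm
  obtain ⟨y, hy, hyk⟩ := Suz.sub_spec.1 k hk
  refine ⟨⟨y, hy⟩, fun i => ?_⟩
  obtain ⟨h1, h2⟩ := (base_spec i.2).2.2 k hk
  have h := omap_spec ⟨y, hy⟩ i
  have h3 : emb (omap ⟨y, hy⟩ i) = emb ⟨_, h1⟩ := by
    rw [← h]; exact Fin.ext ((hyk (emb i)).trans h2)
  exact congrArg Fin.val (emb_injective h3)

theorem out_lt : ∀ j : Fin 8, gOut j.val < 96 := by decide +kernel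

theorem range_le : γG.range ≤ ρ.range := by
  have key : chevG2.group K4 ≤ (ρ.range.comap γG).map (chevG2.group K4).subtype := by
    refine group_le.trans ((Subgroup.closure_le _).2 ?_)
    rintro g ⟨j, hj, hg⟩
    have hmem : g ∈ chevG2.group K4 :=
      Subgroup.subset_closure ⟨gR j, gT j, hg⟩
    refine ⟨⟨g, hmem⟩, ?_, rfl⟩
    obtain ⟨z, hz⟩ := node_mem (out_lt ⟨j, hj⟩)
    exact ⟨z, Equiv.ext fun i => Fin.ext ((hz i).trans (γG_gen hj hg i).symm)⟩
  rintro _ ⟨g, rfl⟩
  obtain ⟨g', hg', he⟩ := key g.2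
  rw [show g = g' from Subtype.ext he.symm]
  exact hg'

/-- The point stabiliser is `G₂(4)`. -/
theorem equiv_G2 : Nonempty (Suz.H ≃* chevG2.group K4) := by
  have hcard : Nat.card (chevG2.group K4) = 251596800 := by
    rw [CfsgLib.Chev.card_group_G2 card_K4]
    norm_num
  have hle : Nat.card γG.range ≤ Nat.card ρ.range :=
    Nat.card_le_card_of_injective _ (Subgroup.inclusion_injective range_le)
  have hγ : Nat.card γG.range = 251596800 :=
    (Nat.card_congr (MonoidHom.ofInjective γG_injective).toEquiv).symm.trans hcard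
  have : Finite Suz.H := inferInstance
  have hρ : Function.Injective ρ := by
    have hs : Function.Surjective ρ.rangeRestrict := ρ.rangeRestrict_surjective
    have hc : Nat.card Suz.H ≤ Nat.card ρ.range := by rw [Suz.card_H, ← hγ]; exact hle
    have hb := (Nat.bijective_iff_surjective_and_card ρ.rangeRestrict).2
      ⟨hs, le_antisymm hc (Nat.card_le_card_of_surjective _ hs)⟩
    exact fun x y h => hb.1 (Subtype.ext h)
  have heq : γG.range = ρ.range := Subgroup.eq_of_le_of_card_ge range_le (by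
    rw [hγ, ← Suz.card_H]
    exact Nat.card_le_card_of_surjective _ ρ.rangeRestrict_surjective)
  exact ⟨((MonoidHom.ofInjective hρ).trans (MulEquiv.subgroupCongr heq.symm)).trans
    (MonoidHom.ofInjective γG_injective).symm⟩

end CfsgLib.SuzG2
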