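import Cfsg.Agent.Lib.Golay.M24
import Cfsg.Agent.Lib.M24Orbits.Perm
import Cfsg.Agent.Lib.Sporadic.CocodeData

/-!
The code words vanishing at the extra point carry a factor set `phi` (cubic, linear in the second
variable) whose diagonal is a quarter of the weight; its twist by an element of `M₂₃` is a symmetric
cocycle with zero diagonal, hence a coboundary.
-/

set_option autoImplicit false

namespace CfsgLib.Cocode

open Cfsg CfsgLib.Golay
open scoped Pointwise

/-- The space of code words vanishing at `none`, in coordinates. -/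
abbrev V : Type := Fin 11 → ZMod 2

/-- Boolean to `ZMod 2`. -/
def b2z (b : Bool) : ZMod 2 := bif b then 1 else 0

theorem b2z_xor (a b : Bool) : b2z (a ^^ b) = b2z a + b2z b := by cases a <;> cases b <;> decide

theorem b2z_and (a b : Bool) : b2z (a && b) = b2z a * b2z b := by cases a <;> cases b <;> decide

/-- The vector with the given bits. -/
def toV (n : ℕ) : V := fun i => b2z (n.testBit i)

theorem toV_xor (a b : ℕ) : toV (a ^^^ b) = toV a + toV b := by
  funext i; simp only [toV, Pi.add_apply, Nat.testBit_xor, b2z_xor]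

theorem toV_zero : toV 0 = 0 := by funext i; simp [toV, b2z]

theorem toV_surj (v : V) : ∃ n < 2048, toV n = v := by
  refine ⟨bitsOf (fun i => if h : i < 11 then decide (v ⟨i, h⟩ = 1) else false) 11,
    bitsOf_lt _ _, ?_⟩
  funext i
  simp only [toV, testBit_bitsOf, i.2, decide_true, Bool.true_and, dite_true, Fin.eta]
  rcases zmod_two_cases (v i) with h | h <;> rw [h] <;> decide

/-- The combination of a list of masks selected by the bits of `k`. -/
def combL : List ℕ → ℕ → ℕ
  | [], _ => 0
  | b :: bs, k => (bif Nat.beq (k % 2) 1 then b else 0) ^^^ combL bs (k / 2)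

theorem toWord_combL : ∀ (l : List ℕ) (n : ℕ),
    toWord (combL l n) = ∑ i : Fin l.length, b2z (n.testBit i) • toWord l[i]
  | [], n => by
    simp only [combL, toWord_zero]
    exact Finset.sum_empty.symm.trans (by rfl)
  | b :: bs, n => by
    rw [combL, toWord_xor, toWord_combL bs (n / 2)]
    show _ = ∑ i : Fin (bs.length + 1), b2z (n.testBit i) • toWord (b :: bs)[i]
    rw [Fin.sum_univ_succ]
    congr 1
    · have h : n.testBit 0 = Nat.beq (n % 2) 1 := by
        rcases Nat.mod_two_eq_zero_or_one n with h | h <;> simp [Nat.testBit_zero, h] <;> rfl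
      show _ = b2z (n.testBit 0) • toWord b
      rw [h]
      cases Nat.beq (n % 2) 1 <;> simp [b2z, toWord_zero]
    · refine Finset.sum_congr rfl fun i _ => ?_
      simp [Nat.testBit_succ]

/-- The basis masks. -/
def bI (i : Fin 11) : ℕ := Data.cb.getD i 0

/-- The embedding of the coordinates into the words. -/
noncomputable def emb : V →ₗ[ZMod 2] (GolayPt → ZMod 2) :=
  Fintype.linearCombination (ZMod 2) (fun i => toWord (bI i))

theorem emb_toV (n : ℕ) : emb (toV n) = toWord (combL Data.cb n) := by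
  rw [toWord_combL, emb, Fintype.linearCombination_apply]
  refine Finset.sum_congr rfl fun i _ => ?_
  show b2z _ • toWord (Data.cb.getD i 0) = _
  rw [List.getD_eq_getElem _ _ (show (i : ℕ) < Data.cb.length from i.2)]
  rfl

/-- The coordinates of a code word given by its information bits. -/
def decodeN (x : ℕ) : ℕ :=
  Nat.lor (Nat.land x (2 ^ Data.skipBit - 1))
    (Nat.shiftLeft (Nat.shiftRight (Nat.land x 4095) (Data.skipBit + 1)) Data.skipBit)

theorem basis_check : (allR (fun x => (comb x).testBit 23 ||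
      (Nat.blt (decodeN x) 2048 && Nat.beq (combL Data.cb (decodeN x)) (comb x))) 12 0 &&
    allR (fun n => let m := combL Data.cb n;
      Nat.beq n 0 || (!Nat.beq m 0 && memb m && Nat.blt m 8388608)) 11 0) = true := by
  decide +kernel

theorem emb_injective : Function.Injective emb := by
  rw [← LinearMap.ker_eq_bot, LinearMap.ker_eq_bot']
  intro v hv
  obtain ⟨n, hn, rfl⟩ := toV_surj v
  by_contra hne
  have hn0 : n ≠ 0 := fun e => hne (by rw [e, toV_zero])
  have h := (Bool.and_eq_true_iff.1 basis_check).2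
  have h := allR_spec h n (Nat.zero_le _) (by simpa using hn)
  simp only [Bool.or_eq_true, Bool.and_eq_true, Nat.beq_eq, Nat.blt_eq, Bool.not_eq_true'] at h
  obtain ⟨⟨h1, -⟩, h3⟩ := h.resolve_left hn0
  rw [emb_toV, ← toWord_zero] at hv
  rw [toWord_inj (by omega) (by norm_num) hv] at h1
  simp at h1

theorem emb_mem (v : V) : emb v ∈ golayCode ∧ emb v none = 0 := by
  obtain ⟨n, hn, rfl⟩ := toV_surj v
  rcases eq_or_ne n 0 with rfl | hn0
  · simp [toV_zero]
  have h := (Bool.and_eq_true_iff.1 basis_check).2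
  have h := allR_spec h n (Nat.zero_le _) (by simpa using hn)
  simp only [Bool.or_eq_true, Bool.and_eq_true, Nat.beq_eq, Nat.blt_eq] at h
  obtain ⟨⟨-, h2⟩, h3⟩ := h.resolve_left hn0
  rw [emb_toV]
  refine ⟨(toWord_mem_iff (by omega)).2 h2, ?_⟩
  have : (combL Data.cb n).testBit 23 = false :=
    Nat.testBit_lt_two_pow (by norm_num; omega)
  simp [toWord, Golay.bit, this]

theorem mem_range_emb {w : GolayPt → ZMod 2} (hw : w ∈ golayCode) (h0 : w none = 0) :
    ∃ v, emb v = w := by
  obtain ⟨x, hx, rfl⟩ := mem_golay_iff.1 hw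
  have h := allR_spec (Bool.and_eq_true_iff.1 basis_check).1 x (Nat.zero_le _) (by simpa using hx)
  simp only [Bool.or_eq_true, Bool.and_eq_true, Nat.beq_eq] at h
  rcases h with h | ⟨-, h⟩
  · simp [toWord, Golay.bit, h] at h0
  · exact ⟨toV (decodeN x), by rw [emb_toV, h]⟩

/-- A linear left inverse of the embedding. -/
noncomputable def proj : (GolayPt → ZMod 2) →ₗ[ZMod 2] V :=
  (emb.exists_leftInverse_of_injective (LinearMap.ker_eq_bot.2 emb_injective)).choose

theorem proj_emb (v : V) : proj (emb v) = v :=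
  LinearMap.congr_fun
    (emb.exists_leftInverse_of_injective (LinearMap.ker_eq_bot.2 emb_injective)).choose_spec v

/-- The action of a permutation on the coordinates. -/
noncomputable def act (σ : Equiv.Perm GolayPt) : V →ₗ[ZMod 2] V :=
  proj.comp ((LinearMap.funLeft (ZMod 2) (ZMod 2) σ.symm).comp emb)

theorem none_fixed {σ : Equiv.Perm GolayPt} (hσ : σ ∈ Spor.M23) : σ.symm none = none := by
  have h : σ none = none := hσ.2
  rw [Equiv.symm_apply_eq, h]

theorem emb_act {σ : Equiv.Perm GolayPt} (hσ : σ ∈ Spor.M23) (v : V) :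
    emb (act σ v) = fun p => emb v (σ.symm p) := by
  obtain ⟨u, hu⟩ := mem_range_emb (w := fun p => emb v (σ.symm p))
    (M24_comp (inv_mem hσ.1) (emb_mem v).1) (by rw [none_fixed hσ]; exact (emb_mem v).2)
  show emb (proj (fun p => emb v (σ.symm p))) = _
  rw [← hu, proj_emb]

theorem act_mul {σ τ : Equiv.Perm GolayPt} (hσ : σ ∈ Spor.M23) (hτ : τ ∈ Spor.M23) (v : V) :
    act (σ * τ) v = act σ (act τ v) := by
  apply emb_injective
  rw [emb_act (mul_mem hσ hτ), emb_act hσ, emb_act hτ]
  rfl

theorem act_one (v : V) : act 1 v = v := by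
  apply emb_injective
  rw [emb_act (one_mem _)]
  rfl

/-- A quarter of the weight, modulo two. -/
noncomputable def qw (v : V) : ZMod 2 := (((support₂ (emb v)).card / 4 : ℕ) : ZMod 2)

theorem qw_act {σ : Equiv.Perm GolayPt} (hσ : σ ∈ Spor.M23) (v : V) : qw (act σ v) = qw v := by
  rw [qw, qw, emb_act hσ, show support₂ (fun p => emb v (σ.symm p)) = σ • support₂ (emb v) from
    M24Orbits.support₂_comp σ (emb v), Finset.card_smul_finset]

/-! ### The factor set -/

/-- Coordinate `i`, and zero out of range. -/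
def ev (x : V) (i : ℕ) : ZMod 2 := if h : i < 11 then x ⟨i, h⟩ else 0

theorem ev_add (x y : V) (i : ℕ) : ev (x + y) i = ev x i + ev y i := by
  unfold ev; split <;> simp

/-- Linear monomial. -/
def t1 (i : ℕ) (x y : V) : ZMod 2 := ev x i * ev y i
/-- Quadratic monomial. -/
def t2 (m : ℕ × ℕ) (x y : V) : ZMod 2 := ev x m.1 * ev y m.2
/-- Cubic monomial. -/
def t3 (m : ℕ × ℕ × ℕ) (x y : V) : ZMod 2 :=
  ev x m.2.1 * ev x m.2.2 * ev y m.1 + ev x m.1 * ev x m.2.2 * ev y m.2.1 +
    ev x m.1 * ev x m.2.1 * ev y m.2.2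

/-- A bit of a coordinate vector. -/
def tb (a i : ℕ) : Bool := Nat.blt i 11 && Nat.beq (Nat.land (Nat.shiftRight a i) 1) 1

theorem ev_toV (a i : ℕ) : ev (toV a) i = b2z (tb a i) := by
  unfold ev tb
  split
  · next h =>
    show b2z (a.testBit i) = _
    congr 1
    rw [Nat.testBit_eq_decide_div_mod_eq, ← Nat.shiftRight_eq_div_pow]
    have e : Nat.blt i 11 = true := by simpa [Nat.blt_eq] using h
    rw [e, Bool.true_and]
    show _ = Nat.beq ((a >>> i) &&& 1) 1
    rw [Nat.and_one_is_mod]
    rcases Nat.mod_two_eq_zero_or_one (a >>> i) with h2 | h2 <;> rw [h2] <;> rfl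
  · next h =>
    have e : Nat.blt i 11 = false :=
      Bool.eq_false_iff.2 fun h2 => h (Nat.le_of_ble_eq_true h2)
    rw [e]; rfl

/-- The factor set. -/
def phi (x y : V) : ZMod 2 :=
  (Data.L1.map fun m => t1 m x y).sum + (Data.L2.map fun m => t2 m x y).sum +
    (Data.L3.map fun m => t3 m x y).sum

/-- The defect of symmetry of a function of two variables against its diagonal. -/
def polDef (f : V → V → ZMod 2) (a b : V) : ZMod 2 :=
  f a b + f b a + f (a + b) (a + b) + f a a + f b b

/-- The defect of the cocycle identity against the third difference of the diagonal. -/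
def cocDef (f : V → V → ZMod 2) (a b c : V) : ZMod 2 :=
  f b c + f (a + b) c + f a (b + c) + f a b + f (a + b + c) (a + b + c) + f (a + b) (a + b) +
    f (a + c) (a + c) + f (b + c) (b + c) + f a a + f b b + f c c

theorem defects_sum {M : Type*} (t : M → V → V → ZMod 2) (l : List M)
    (hp : ∀ m a b, polDef (t m) a b = 0) (hc : ∀ m a b c, cocDef (t m) a b c = 0) :
    (∀ a b, polDef (fun x y => (l.map fun m => t m x y).sum) a b = 0) ∧
      ∀ a b c, cocDef (fun x y => (l.map fun m => t m x y).sum) a b c = 0 := by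
  induction l with
  | nil => exact ⟨fun a b => by simp [polDef], fun a b c => by simp [cocDef]⟩
  | cons m l ih =>
    refine ⟨fun a b => ?_, fun a b c => ?_⟩
    · have h1 := hp m a b
      have h2 := ih.1 a b
      simp only [polDef, List.map_cons, List.sum_cons] at h1 h2 ⊢
      linear_combination h1 + h2
    · have h1 := hc m a b c
      have h2 := ih.2 a b c
      simp only [cocDef, List.map_cons, List.sum_cons] at h1 h2 ⊢
      linear_combination h1 + h2

theorem mono1 : ∀ a b c a' b' c' : ZMod 2,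
    a * b' + b * a' + (a + b) * (a' + b') + a * a' + b * b' = 0 ∧
    b * c' + (a + b) * c' + a * (b' + c') + a * b' + (a + b + c) * (a' + b' + c') +
      (a + b) * (a' + b') + (a + c) * (a' + c') + (b + c) * (b' + c') + a * a' + b * b' +
      c * c' = 0 := by decide +kernel

theorem polDef_t1 (m : ℕ) (a b : V) : polDef (t1 m) a b = 0 := by
  have := (mono1 (ev a m) (ev b m) 0 (ev a m) (ev b m) 0).1
  simpa [polDef, t1, ev_add] using this

theorem cocDef_t1 (m : ℕ) (a b c : V) : cocDef (t1 m) a b c = 0 := by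
  have := (mono1 (ev a m) (ev b m) (ev c m) (ev a m) (ev b m) (ev c m)).2
  simpa [cocDef, t1, ev_add] using this

theorem polDef_t2 (m : ℕ × ℕ) (a b : V) : polDef (t2 m) a b = 0 := by
  have := (mono1 (ev a m.1) (ev b m.1) 0 (ev a m.2) (ev b m.2) 0).1
  simpa [polDef, t2, ev_add] using this

theorem cocDef_t2 (m : ℕ × ℕ) (a b c : V) : cocDef (t2 m) a b c = 0 := by
  have := (mono1 (ev a m.1) (ev b m.1) (ev c m.1) (ev a m.2) (ev b m.2) (ev c m.2)).2
  simpa [cocDef, t2, ev_add] using this

theorem polDef_t3 (m : ℕ × ℕ × ℕ) (a b : V) : polDef (t3 m) a b = 0 := by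
  have h : ∀ a₁ a₂ a₃ b₁ b₂ b₃ : ZMod 2,
      let f := fun (x₁ x₂ x₃ y₁ y₂ y₃ : ZMod 2) => x₂ * x₃ * y₁ + x₁ * x₃ * y₂ + x₁ * x₂ * y₃
      f a₁ a₂ a₃ b₁ b₂ b₃ + f b₁ b₂ b₃ a₁ a₂ a₃ +
        f (a₁ + b₁) (a₂ + b₂) (a₃ + b₃) (a₁ + b₁) (a₂ + b₂) (a₃ + b₃) +
        f a₁ a₂ a₃ a₁ a₂ a₃ + f b₁ b₂ b₃ b₁ b₂ b₃ = 0 := by decide +kernel
  simpa [polDef, t3, ev_add] using h (ev a m.1) (ev a m.2.1) (ev a m.2.2) (ev b m.1) (ev b m.2.1) (ev b m.2.2)

theorem cocDef_t3 (m : ℕ × ℕ × ℕ) (a b c : V) : cocDef (t3 m) a b c = 0 := by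
  simp only [cocDef, t3, ev_add]
  ring_nf
  reduce_mod_char

/-- The Boolean factor set. -/
def phiB (a b : ℕ) : Bool :=
  (Data.L1.foldr (fun (m : ℕ) r => (tb a m && tb b m) ^^ r) false ^^
  Data.L2.foldr (fun m r => (tb a m.1 && tb b m.2) ^^ r) false) ^^
  Data.L3.foldr (fun m r => (((tb a m.2.1 && tb a m.2.2 && tb b m.1) ^^
    (tb a m.1 && tb a m.2.2 && tb b m.2.1)) ^^
    (tb a m.1 && tb a m.2.1 && tb b m.2.2)) ^^ r) false

theorem sum_map_b2z {M : Type*} (f : M → ZMod 2) (g : M → Bool) (h : ∀ m, f m = b2z (g m)) :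
    ∀ l : List M, (l.map f).sum = b2z (l.foldr (fun m r => g m ^^ r) false)
  | [] => rfl
  | m :: l => by
    rw [List.map_cons, List.sum_cons, List.foldr_cons, b2z_xor, h, sum_map_b2z f g h l]

theorem lists_toV (l1 : List ℕ) (l2 : List (ℕ × ℕ))
    (l3 : List (ℕ × ℕ × ℕ)) (a b : ℕ) :
    (l1.map fun m => t1 m (toV a) (toV b)).sum + (l2.map fun m => t2 m (toV a) (toV b)).sum +
      (l3.map fun m => t3 m (toV a) (toV b)).sum =
    b2z ((l1.foldr (fun (m : ℕ) r => (tb a m && tb b m) ^^ r) false ^^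
      l2.foldr (fun m r => (tb a m.1 && tb b m.2) ^^ r) false) ^^
      l3.foldr (fun m r => (((tb a m.2.1 && tb a m.2.2 && tb b m.1) ^^
        (tb a m.1 && tb a m.2.2 && tb b m.2.1)) ^^
        (tb a m.1 && tb a m.2.1 && tb b m.2.2)) ^^ r) false) := by
  rw [b2z_xor, b2z_xor]
  congr 1
  · congr 1
    · exact sum_map_b2z _ _ (fun m => by simp [t1, ev_toV, b2z_and]) _
    · exact sum_map_b2z _ _ (fun m => by simp [t2, ev_toV, b2z_and]) _
  · exact sum_map_b2z _ _ (fun m => by simp [t3, ev_toV, b2z_and, b2z_xor, add_assoc]) _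

theorem phi_toV (a b : ℕ) : phi (toV a) (toV b) = b2z (phiB a b) :=
  lists_toV Data.L1 Data.L2 Data.L3 a b

/-- The truth table of a coordinate. -/
def coordT (i : ℕ) : ℕ := Data.coord.getD i 0

theorem table_check :
    (allR (fun n => Nat.beq (Nat.land (Nat.shiftRight Data.quarter n) 1)
        (pc24 (combL Data.cb n) / 4 % 2)) 11 0 &&
      (List.range 11).all (fun i => allR (fun n =>
        (coordT i).testBit n == tb n i) 11 0) &&
      (Data.L1.all (Nat.blt · 11) && Data.L2.all (fun m => Nat.blt m.1 11 && Nat.blt m.2 11) &&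
        Data.L3.all (fun m => Nat.blt m.1 11 && Nat.blt m.2.1 11 && Nat.blt m.2.2 11)) &&
      Nat.beq
        ((Data.L1.foldr (fun m r => (coordT m &&& coordT m) ^^^ r) 0 ^^^
          Data.L2.foldr (fun m r => (coordT m.1 &&& coordT m.2) ^^^ r) 0) ^^^
          Data.L3.foldr (fun m r => (((coordT m.2.1 &&& coordT m.2.2 &&& coordT m.1) ^^^
            (coordT m.1 &&& coordT m.2.2 &&& coordT m.2.1)) ^^^
            (coordT m.1 &&& coordT m.2.1 &&& coordT m.2.2)) ^^^ r) 0)
        Data.quarter) = true := by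
  decide +kernel

theorem testBit_foldr {M : Type*} (f : M → ℕ) (g : M → Bool) (n : ℕ) :
    ∀ l : List M, (∀ m ∈ l, (f m).testBit n = g m) →
      (l.foldr (fun m r => f m ^^^ r) 0).testBit n = l.foldr (fun m r => g m ^^ r) false
  | [], _ => by simp
  | m :: l, h => by
    rw [List.foldr_cons, List.foldr_cons, Nat.testBit_xor, h m List.mem_cons_self,
      testBit_foldr f g n l fun x hx => h x (List.mem_cons_of_mem _ hx)]

theorem diag_check {n : ℕ} (hn : n < 2048) :
    phiB n n = Nat.beq (pc24 (combL Data.cb n) / 4 % 2) 1 := by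
  have h := table_check
  simp only [Bool.and_eq_true, List.all_eq_true, List.mem_range, Nat.beq_eq, Nat.blt_eq] at h
  obtain ⟨⟨⟨h1, h2⟩, ⟨hb1, hb2⟩, hb3⟩, h4⟩ := h
  have hq := allR_spec h1 n (Nat.zero_le _) (by simpa using hn)
  rw [Nat.beq_eq] at hq
  have hX : ∀ i, i < 11 → (coordT i).testBit n = tb n i := fun i hi => by
    have := allR_spec (h2 i hi) n (Nat.zero_le _) (by simpa using hn)
    rwa [beq_iff_eq] at this
  have hbit : Data.quarter.testBit n = Nat.beq (pc24 (combL Data.cb n) / 4 % 2) 1 := by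
    rw [← hq, Nat.testBit_eq_decide_div_mod_eq, ← Nat.shiftRight_eq_div_pow]
    show _ = Nat.beq ((Data.quarter >>> n) &&& 1) 1
    rw [Nat.and_one_is_mod]
    rcases Nat.mod_two_eq_zero_or_one (Data.quarter >>> n) with e | e <;> rw [e] <;> rfl
  rw [← hbit, ← h4, Nat.testBit_xor, Nat.testBit_xor, phiB]
  congr 1
  · congr 1
    · exact (testBit_foldr _ _ n _ fun m hm => by rw [Nat.testBit_and, hX m (hb1 m hm)]).symm
    · exact (testBit_foldr _ _ n _ fun m hm => by
        rw [Nat.testBit_and, hX _ (hb2 m hm).1, hX _ (hb2 m hm).2]).symm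
  · exact (testBit_foldr _ _ n _ fun m hm => by
      obtain ⟨⟨a1, a2⟩, a3⟩ := hb3 m hm
      simp only [Nat.testBit_xor, Nat.testBit_and, hX _ a1, hX _ a2, hX _ a3]).symm

theorem phi_diag (v : V) : phi v v = qw v := by
  obtain ⟨n, hn, rfl⟩ := toV_surj v
  have h := diag_check hn
  rw [phi_toV, h, qw, emb_toV, support₂_toWord, card_toSet, ← pc24_eq]
  generalize pc24 (combL Data.cb n) / 4 = k
  rw [← ZMod.natCast_mod k 2]
  rcases Nat.mod_two_eq_zero_or_one k with e | e <;> rw [e] <;> rfl

theorem phi_pol (a b : V) : polDef phi a b = 0 := by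
  have h1 := (defects_sum t1 Data.L1 polDef_t1 cocDef_t1).1 a b
  have h2 := (defects_sum t2 Data.L2 polDef_t2 cocDef_t2).1 a b
  have h3 := (defects_sum t3 Data.L3 polDef_t3 cocDef_t3).1 a b
  simp only [polDef, phi] at h1 h2 h3 ⊢
  linear_combination h1 + h2 + h3

theorem phi_coc (a b c : V) : cocDef phi a b c = 0 := by
  have h1 := (defects_sum t1 Data.L1 polDef_t1 cocDef_t1).2 a b c
  have h2 := (defects_sum t2 Data.L2 polDef_t2 cocDef_t2).2 a b c
  have h3 := (defects_sum t3 Data.L3 polDef_t3 cocDef_t3).2 a b c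
  simp only [cocDef, phi] at h1 h2 h3 ⊢
  linear_combination h1 + h2 + h3

/-- A symmetric cocycle with zero diagonal on an elementary abelian 2-group is a coboundary. -/
theorem coboundary : ∀ {n : ℕ} (ψ : (Fin n → ZMod 2) → (Fin n → ZMod 2) → ZMod 2),
    (∀ a, ψ a a = 0) → (∀ a b, ψ a b = ψ b a) →
    (∀ a b c, ψ a b + ψ (a + b) c = ψ b c + ψ a (b + c)) →
    ∃ f : (Fin n → ZMod 2) → ZMod 2, ∀ a b, f (a + b) = f a + f b + ψ a b
  | 0, ψ, hd, _, _ => ⟨fun _ => 0, fun a b => by
      rw [Subsingleton.elim b a, hd]; simp⟩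
  | n + 1, ψ, hd, hs, hc => by
    let ι : (Fin n → ZMod 2) → (Fin (n + 1) → ZMod 2) := fun v => Fin.cons 0 v
    have ι_add : ∀ u v, ι (u + v) = ι u + ι v := fun u v => by
      funext i; refine Fin.cases ?_ (fun j => ?_) i <;> simp [ι]
    obtain ⟨f, hf⟩ := coboundary (fun u v => ψ (ι u) (ι v)) (fun a => hd _) (fun a b => hs _ _)
      (fun a b c => by
        show ψ (ι a) (ι b) + ψ (ι (a + b)) (ι c) = ψ (ι b) (ι c) + ψ (ι a) (ι (b + c))
        rw [ι_add, ι_add]; exact hc _ _ _)
    set e : Fin (n + 1) → ZMod 2 := Fin.cons 1 0 with he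
    have h0 : ∀ b, ψ 0 b = 0 := fun b => by
      have := hc 0 0 b
      rw [hd, zero_add, zero_add, zero_add] at this
      exact (CharTwo.add_self_eq_zero (ψ 0 b) ▸ this)
    have ee : e + e = 0 := by funext i; exact CharTwo.add_self_eq_zero _
    -- decompose a vector
    have split : ∀ a : Fin (n + 1) → ZMod 2, a = ι (Fin.tail a) ∨ a = e + ι (Fin.tail a) := by
      intro a
      rcases zmod_two_cases (a 0) with h | h
      · left; funext i; refine Fin.cases ?_ (fun j => ?_) i <;> simp [ι, h, Fin.tail]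
      · right; funext i; refine Fin.cases ?_ (fun j => ?_) i <;> simp [ι, he, h, Fin.tail]
    refine ⟨fun a => f (Fin.tail a) + if a 0 = 1 then ψ e (ι (Fin.tail a)) else 0, fun a b => ?_⟩
    have t0 : ∀ v, Fin.tail (ι v) = v := fun v => Fin.tail_cons _ _
    have t1 : ∀ v, Fin.tail (e + ι v) = v := fun v => by funext j; simp [ι, he, Fin.tail]
    have z0 : ∀ v, ι v 0 = 0 := fun v => Fin.cons_zero _ _
    have z1 : ∀ v, (e + ι v) 0 = 1 := fun v => by simp [ι, he]
    have key := hf (Fin.tail a) (Fin.tail b)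
    have two : ∀ x : ZMod 2, x + x = 0 := CharTwo.add_self_eq_zero
    rcases split a with ha | ha <;> rcases split b with hb | hb <;> rw [ha, hb]
    · rw [← ι_add]
      simp only [t0, z0, zero_ne_one, if_false, add_zero]
      exact key
    · rw [show ι (Fin.tail a) + (e + ι (Fin.tail b)) = e + ι (Fin.tail a + Fin.tail b) by
        rw [ι_add]; abel]
      simp only [t0, z0, t1, z1, zero_ne_one, if_false, add_zero, if_true]
      simp only [ι_add]
      generalize ι (Fin.tail a) = u at key ⊢
      generalize ι (Fin.tail b) = v at key ⊢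
      have c1 := hc e u v
      have c2 := hc u e v
      rw [hs u e, add_comm u e] at c2
      linear_combination (norm := ring_nf) key + c1 + c2
      simp [CharTwo.two_eq_zero]
    · rw [show e + ι (Fin.tail a) + ι (Fin.tail b) = e + ι (Fin.tail a + Fin.tail b) by
        rw [ι_add]; abel]
      simp only [t0, z0, t1, z1, zero_ne_one, if_false, add_zero, if_true]
      simp only [ι_add]
      generalize ι (Fin.tail a) = u at key ⊢
      generalize ι (Fin.tail b) = v at key ⊢
      have c1 := hc e u v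
      linear_combination (norm := ring_nf) key + c1
      simp [CharTwo.two_eq_zero]
    · rw [show e + ι (Fin.tail a) + (e + ι (Fin.tail b)) = ι (Fin.tail a + Fin.tail b) by
        rw [ι_add, add_add_add_comm, ee, zero_add]]
      simp only [t0, z0, t1, z1, zero_ne_one, if_false, add_zero, if_true]
      generalize ι (Fin.tail a) = u at key ⊢
      generalize ι (Fin.tail b) = v at key ⊢
      have c1 := hc (e + u) e v
      rw [show e + u + e = u by rw [add_comm e u, add_assoc, ee, add_zero], ] at c1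
      have c2 := hc u e e
      rw [hd, ee, hs u 0, h0, add_comm u e, hs u e] at c2
      linear_combination (norm := ring_nf) key + c1 + c2
      simp [CharTwo.two_eq_zero]

/-- Existence of the correction for a permutation in `M₂₃`. -/
theorem exists_corr {σ : Equiv.Perm GolayPt} (hσ : σ ∈ Spor.M23) :
    ∃ f : V → ZMod 2, ∀ a b, f (a + b) = f a + f b + (phi (act σ a) (act σ b) + phi a b) := by
  refine coboundary _ (fun a => ?_) (fun a b => ?_) (fun a b c => ?_)
  · rw [phi_diag, phi_diag, qw_act hσ]; exact CharTwo.add_self_eq_zero _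
  · have h1 := phi_pol a b
    have h2 := phi_pol (act σ a) (act σ b)
    simp only [polDef, phi_diag] at h1 h2
    rw [← map_add] at h2
    simp only [qw_act hσ] at h2
    linear_combination (norm := ring_nf) h1 + h2
    simp [CharTwo.two_eq_zero]
  · have h1 := phi_coc a b c
    have h2 := phi_coc (act σ a) (act σ b) (act σ c)
    simp only [cocDef, phi_diag] at h1 h2
    simp only [← map_add, qw_act hσ] at h2
    simp only [map_add] at h2 ⊢
    linear_combination (norm := ring_nf) h1 + h2
    simp [CharTwo.two_eq_zero]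

end CfsgLib.Cocode
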