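import Cfsg.Agent.Lib.Sporadic.HSRankThree
import Cfsg.Agent.Lib.Leech.Stab.HSOrbits
import Cfsg.Agent.Lib.Leech.Simple.Pairs
import Cfsg.Agent.Lib.Golay.Mathieu
import Cfsg.Prelude.Def_Spor_Conway

/-! The group `Spor.HS` as a rank three group on 100 points, and recognition of such groups. -/

set_option autoImplicit false

namespace CfsgLib.Sporadic.HSConway

open Cfsg CfsgLib

/-- The second vector of the pair. -/
noncomputable def secondVec : leechLattice := -(Spor.leechV + Spor.leechU')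

theorem norm_first : sqNorm ((Spor.leechV : leechLattice) : GolayPt → ℤ) = 48 := by
  decide +kernel

theorem norm_second : sqNorm ((secondVec : leechLattice) : GolayPt → ℤ) = 48 := by
  show sqNorm (-(Spor.vecV + Spor.vecU')) = 48
  decide +kernel

theorem dot_pair : dotInt ((Spor.leechV : leechLattice) : GolayPt → ℤ)
    ((secondVec : leechLattice) : GolayPt → ℤ) = -32 := by
  show dotInt Spor.vecV (-(Spor.vecV + Spor.vecU')) = -32
  decide +kernel

/-- The stabiliser of the pair. -/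
noncomputable abbrev hsGroup : Subgroup Co0 := Leech.pairStab Spor.leechV secondVec

theorem smul_secondVec_iff {g : Co0} (hg : g • Spor.leechV = Spor.leechV) :
    g • secondVec = secondVec ↔ g • Spor.leechU' = Spor.leechU' := by
  rw [secondVec, Leech.smul_neg', Leech.smul_add', hg, neg_inj, add_right_inj]

/-- `Spor.HS` is the stabiliser of the pair. -/
theorem nonempty_hs_equiv : Nonempty (Spor.HS ≃* hsGroup) :=
  ⟨{ toFun := fun h => ⟨⟨h.1, h.2.1.1⟩, h.2.1.2,
        (smul_secondVec_iff (g := ⟨h.1, h.2.1.1⟩) h.2.1.2).2 h.2.2⟩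
     invFun := fun g => ⟨g.1.1, ⟨g.1.2, g.2.1⟩, (smul_secondVec_iff (g := g.1) g.2.1).1 g.2.2⟩
     left_inv := fun _ => rfl
     right_inv := fun _ => rfl
     map_mul' := fun _ _ => rfl }⟩

/-- The 100 vectors. -/
noncomputable abbrev Pts : Type := ↥(Leech.Stab.hsSet Spor.leechV secondVec)

theorem smul_mem_pts (g : hsGroup) {x : leechLattice}
    (hx : x ∈ Leech.Stab.hsSet Spor.leechV secondVec) :
    (g : Co0) • x ∈ Leech.Stab.hsSet Spor.leechV secondVec := by
  obtain ⟨h1, h2, h3⟩ := hx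
  refine ⟨(Leech.sqNorm_smul _ _).trans h1, ?_, ?_⟩
  · conv_lhs => rw [← show (g : Co0) • Spor.leechV = Spor.leechV from g.2.1, Leech.dotInt_smul]
    exact h2
  · conv_lhs => rw [← show (g : Co0) • secondVec = secondVec from g.2.2, Leech.dotInt_smul]
    exact h3

noncomputable instance hsPtsAction : MulAction hsGroup Pts where
  smul g x := ⟨(g : Co0) • x.1, smul_mem_pts g x.2⟩
  one_smul x := Subtype.ext (one_smul Co0 x.1)
  mul_smul g h x := Subtype.ext (mul_smul (g : Co0) (h : Co0) x.1)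

theorem exists_model : ∃ (Ω : Type) (_ : Fintype Ω) (G : Subgroup (Equiv.Perm Ω))
    (_ : MulAction.IsPretransitive G Ω) (a b c : Ω), Fintype.card Ω = 100 ∧
    (MulAction.orbit (MulAction.stabilizer G a) b).ncard = 22 ∧
    (MulAction.orbit (MulAction.stabilizer G a) c).ncard = 77 ∧
    Nat.card G = 44352000 ∧ Nonempty (Spor.HS ≃* G) := by
  classical
  obtain ⟨h100, htr⟩ := Leech.Stab.hs_transitive norm_first norm_second dot_pair
  obtain ⟨hsimple, hcard⟩ := Leech.isHS_pairStab norm_first norm_second dot_pair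
  have hfin : (Leech.Stab.hsSet Spor.leechV secondVec).Finite :=
    Set.finite_of_ncard_ne_zero (by rw [h100]; norm_num)
  letI : Fintype Pts := hfin.fintype
  have hΩ : Fintype.card Pts = 100 := by
    rw [← Nat.card_eq_fintype_card, Nat.card_coe_set_eq, h100]
  let f : hsGroup →* Equiv.Perm Pts := MulAction.toPermHom hsGroup Pts
  let G := f.range
  have htrans : MulAction.IsPretransitive G Pts := ⟨fun x y => by
    obtain ⟨g, g1, g2, g3⟩ := htr x.1 x.2 y.1 y.2
    exact ⟨⟨f ⟨g, g1, g2⟩, ⟨_, rfl⟩⟩, Subtype.ext g3⟩⟩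
  have hinj : Function.Injective f := by
    rw [← MonoidHom.ker_eq_bot_iff]
    refine (hsimple.eq_bot_or_eq_top_of_normal f.ker inferInstance).resolve_right fun htop => ?_
    obtain ⟨x, y, hxy⟩ := Fintype.exists_pair_of_one_lt_card (α := Pts) (by omega)
    obtain ⟨g, g1, g2, g3⟩ := htr x.1 x.2 y.1 y.2
    have hm : (⟨g, g1, g2⟩ : hsGroup) ∈ f.ker := by rw [htop]; exact Subgroup.mem_top _
    have : f ⟨g, g1, g2⟩ = 1 := MonoidHom.mem_ker.1 hm
    refine hxy (Subtype.ext ?_)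
    have hx := congrArg (fun p : Equiv.Perm Pts => ((p x : Pts) : leechLattice)) this
    exact (g3 ▸ hx : (y : leechLattice) = x).symm
  obtain ⟨a0⟩ : Nonempty Pts := Fintype.card_pos_iff.1 (by omega)
  obtain ⟨h22, h77, hr3⟩ := Leech.Stab.hs_rank_three norm_first norm_second dot_pair a0.2
  set A := {y | y ∈ Leech.Stab.hsSet Spor.leechV secondVec ∧
    dotInt ((a0.1 : leechLattice) : GolayPt → ℤ) (y : GolayPt → ℤ) = 8} with hA
  set B := {y | y ∈ Leech.Stab.hsSet Spor.leechV secondVec ∧ y ≠ a0.1 ∧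
    dotInt ((a0.1 : leechLattice) : GolayPt → ℤ) (y : GolayPt → ℤ) ≠ 8} with hB
  obtain ⟨b0, hb0⟩ := Set.nonempty_of_ncard_ne_zero (s := A) (by omega)
  obtain ⟨c0, hc0⟩ := Set.nonempty_of_ncard_ne_zero (s := B) (by omega)
  have hd : ∀ (s : MulAction.stabilizer G a0) (z : Pts),
      dotInt ((a0.1 : leechLattice) : GolayPt → ℤ) (((s • z : Pts).1 : leechLattice) : GolayPt → ℤ) =
        dotInt ((a0.1 : leechLattice) : GolayPt → ℤ) ((z.1 : leechLattice) : GolayPt → ℤ) := by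
    rintro ⟨⟨_, k, rfl⟩, hs⟩ z
    have hk : (k : Co0) • a0.1 = a0.1 := congrArg Subtype.val hs
    show dotInt ((a0.1 : leechLattice) : GolayPt → ℤ)
      ((((k : Co0) • z.1 : leechLattice)) : GolayPt → ℤ) = _
    conv_lhs => rw [← hk, Leech.dotInt_smul]
  have hfix0 : ∀ (s : MulAction.stabilizer G a0), s • a0 = a0 := fun s => s.2
  have hne8 : dotInt ((a0.1 : leechLattice) : GolayPt → ℤ) ((a0.1 : leechLattice) : GolayPt → ℤ) ≠ 8 := by
    rw [Leech.Stab.dotInt_self, a0.2.1]; norm_num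
  have horb : ∀ (z0 : Pts) (S : Set leechLattice),
      (∀ y, y ∈ S ↔ y ∈ Leech.Stab.hsSet Spor.leechV secondVec ∧ y ≠ a0.1 ∧
        (dotInt ((a0.1 : leechLattice) : GolayPt → ℤ) (y : GolayPt → ℤ) = 8 ↔
          dotInt ((a0.1 : leechLattice) : GolayPt → ℤ) ((z0.1 : leechLattice) : GolayPt → ℤ) = 8)) →
      z0.1 ∈ S →
      (MulAction.orbit (MulAction.stabilizer G a0) z0).ncard = S.ncard := by
    intro z0 S hS hz
    have hz0 : z0.1 ≠ a0.1 := ((hS _).1 hz).2.1
    rw [← Set.ncard_image_of_injective _ Subtype.val_injective]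
    congr 1
    ext y
    constructor
    · rintro ⟨_, ⟨s, rfl⟩, rfl⟩
      refine (hS _).2 ⟨(s • z0).2, fun e => hz0 ?_, by rw [hd s z0]⟩
      have : s • z0 = s • a0 := (Subtype.ext e).trans (hfix0 s).symm
      exact congrArg Subtype.val (smul_left_cancel s this)
    · intro hy
      obtain ⟨h1, h2, h3⟩ := (hS y).1 hy
      obtain ⟨g, g1, g2, g3, g4⟩ := hr3 z0.1 z0.2 y h1 hz0 h2 h3.symm
      exact ⟨⟨y, h1⟩, ⟨⟨⟨f ⟨g, g1, g2⟩, ⟨_, rfl⟩⟩, Subtype.ext g3⟩, Subtype.ext g4⟩, rfl⟩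
  refine ⟨Pts, inferInstance, G, htrans, a0, ⟨b0, hb0.1⟩, ⟨c0, hc0.1⟩, hΩ, ?_, ?_, ?_, ?_⟩
  · refine (horb ⟨b0, hb0.1⟩ A (fun y => ?_) hb0).trans h22
    constructor
    · rintro ⟨h1, h2⟩
      exact ⟨h1, fun e => hne8 (e ▸ h2), iff_of_true h2 hb0.2⟩
    · rintro ⟨h1, -, h2⟩
      exact ⟨h1, h2.2 hb0.2⟩
  · refine (horb ⟨c0, hc0.1⟩ B (fun y => ?_) hc0).trans h77
    constructor
    · rintro ⟨h1, h2, h3⟩
      exact ⟨h1, h2, iff_of_false h3 hc0.2.2⟩
    · rintro ⟨h1, h2, h3⟩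
      exact ⟨h1, h2, fun h => hc0.2.2 (h3.1 h)⟩
  · exact (Nat.card_congr (MonoidHom.ofInjective hinj).toEquiv.symm).trans hcard
  · obtain ⟨e⟩ := nonempty_hs_equiv
    exact ⟨e.trans (MonoidHom.ofInjective hinj)⟩

/-- Recognition of the Higman-Sims group by its rank three action. -/
theorem isoHS_of_rank_three {Ω : Type*} [Fintype Ω] (hΩ : Fintype.card Ω = 100)
    (G : Subgroup (Equiv.Perm Ω)) [MulAction.IsPretransitive G Ω] (a : Ω)
    (e : MulAction.stabilizer G a ≃* Spor.M22) (b c : Ω)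
    (hb : (MulAction.orbit (MulAction.stabilizer G a) b).ncard = 22)
    (hc : (MulAction.orbit (MulAction.stabilizer G a) c).ncard = 77) : Spor.IsoHS G := by
  have hcard : Nat.card G = 44352000 := by
    have h := Subgroup.card_mul_index (MulAction.stabilizer G a)
    rw [MulAction.index_stabilizer_of_transitive, Nat.card_eq_fintype_card (α := Ω), hΩ,
      Nat.card_congr e.toEquiv, Golay.card_M22] at h
    omega
  obtain ⟨Ω', _, G', _, a', b', c', hΩ', hb', hc', hcard', ⟨e'⟩⟩ := exists_model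
  obtain ⟨e''⟩ := HSRankThree.nonempty_equiv hΩ G a b c hb hc hcard hΩ' G' a' b' c' hb' hc' hcard'
  exact ⟨e''.trans e'.symm⟩

end CfsgLib.Sporadic.HSConway
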