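import Cfsg.Agent.Lib.Steiner.HSGraph
import Cfsg.Agent.Lib.Steiner.HSAut
import Mathlib.Combinatorics.SimpleGraph.AdjMatrix
import Mathlib.LinearAlgebra.Trace
import Mathlib.Analysis.Real.Sqrt

/-!
Rank three groups of degree 100 with subdegrees 1, 22, 77 preserve a graph with parameters
(100, 22, 0, 6); those of order 44352000 are all isomorphic.
-/

set_option autoImplicit false

namespace CfsgLib.Sporadic.HSRankThree

open Cfsg

section Matrix

variable {ι : Type*} [Fintype ι] [DecidableEq ι]

/-- The trace of an idempotent real matrix is a natural number. -/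
theorem exists_trace_eq_natCast {E : Matrix ι ι ℝ} (hEE : E * E = E) : ∃ f : ℕ, E.trace = f := by
  have hproj : IsIdempotentElem (Matrix.toLin' E) := by
    show Matrix.toLin' E ∘ₗ Matrix.toLin' E = Matrix.toLin' E
    rw [← Matrix.toLin'_mul, hEE]
  have htr := (LinearMap.IsIdempotentElem.isProj_range _ hproj).trace
  rw [Matrix.trace_toLin'_eq] at htr
  exact ⟨_, htr⟩

/-- No matrix of a graph with parameters (100, 22, 7, 4). -/
theorem no_seven (hι : Fintype.card ι = 100) (A : Matrix ι ι ℝ) (hrow : ∀ i, ∑ j, A i j = 22)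
    (hcol : ∀ j, ∑ i, A i j = 22) (hdiag : ∀ i, A i i = 0)
    (heq : A * A = (18 : ℝ) • (1 : Matrix ι ι ℝ) + (3 : ℝ) • A
      + (4 : ℝ) • Matrix.of fun _ _ => (1 : ℝ)) : False := by
  set J : Matrix ι ι ℝ := Matrix.of fun _ _ => (1 : ℝ) with hJ
  have hAJ : A * J = (22 : ℝ) • J := by ext i j; simp [Matrix.mul_apply, hJ, hrow]
  have hJA : J * A = (22 : ℝ) • J := by ext i j; simp [Matrix.mul_apply, hJ, hcol]
  have hJJ : J * J = (100 : ℝ) • J := by ext i j; simp [Matrix.mul_apply, hJ, hι]
  set E : Matrix ι ι ℝ := (1 / 9 : ℝ) • A + (1 / 3 : ℝ) • 1 - (1 / 36 : ℝ) • J with hE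
  have hEE : E * E = E := by
    rw [hE]
    simp only [mul_sub, sub_mul, mul_add, add_mul, smul_mul_assoc, mul_smul_comm, smul_smul,
      mul_one, one_mul, hAJ, hJA, hJJ, heq, smul_add, smul_sub]
    module
  obtain ⟨f, hf⟩ := exists_trace_eq_natCast hEE
  have htr : E.trace = 275 / 9 := by
    rw [hE]
    simp [Matrix.trace, hdiag, hJ, hι]
    norm_num
  rw [htr] at hf
  have h : (275 : ℕ) = 9 * f := by
    exact_mod_cast (show (275 : ℝ) = 9 * (f : ℝ) by linarith)
  omega

/-- No matrix of a graph with parameters (100, 22, 14, 2). -/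
theorem no_fourteen (hι : Fintype.card ι = 100) (A : Matrix ι ι ℝ) (hrow : ∀ i, ∑ j, A i j = 22)
    (hcol : ∀ j, ∑ i, A i j = 22) (hdiag : ∀ i, A i i = 0)
    (heq : A * A = (20 : ℝ) • (1 : Matrix ι ι ℝ) + (12 : ℝ) • A
      + (2 : ℝ) • Matrix.of fun _ _ => (1 : ℝ)) : False := by
  set J : Matrix ι ι ℝ := Matrix.of fun _ _ => (1 : ℝ) with hJ
  have hAJ : A * J = (22 : ℝ) • J := by ext i j; simp [Matrix.mul_apply, hJ, hrow]
  have hJA : J * A = (22 : ℝ) • J := by ext i j; simp [Matrix.mul_apply, hJ, hcol]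
  have hJJ : J * J = (100 : ℝ) • J := by ext i j; simp [Matrix.mul_apply, hJ, hι]
  set s : ℝ := Real.sqrt 56 with hs
  have hs2 : s * s = 56 := Real.mul_self_sqrt (by norm_num)
  have hs0 : s ≠ 0 := by positivity
  set c : ℝ := (16 - s) / 100 with hc
  have hc2 : 100 * (c * c) - 32 * c + 2 = 0 := by
    rw [hc]
    field_simp
    linear_combination hs2
  set M : Matrix ι ι ℝ := A - (6 : ℝ) • 1 - c • J with hM
  have hMM : M * M = (56 : ℝ) • (1 : Matrix ι ι ℝ) := by
    have h : M * M = (56 : ℝ) • (1 : Matrix ι ι ℝ) + (100 * (c * c) - 32 * c + 2) • J := by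
      rw [hM]
      simp only [mul_sub, sub_mul, mul_add, add_mul, smul_mul_assoc, mul_smul_comm, smul_smul,
        mul_one, one_mul, hAJ, hJA, hJJ, heq, smul_add, smul_sub]
      module
    rw [h, hc2, zero_smul, add_zero]
  have htrM : M.trace = -600 - 100 * c := by
    rw [hM]
    simp [Matrix.trace, hdiag, hJ, hι]
    ring
  clear_value M
  set E : Matrix ι ι ℝ := (1 / 2 : ℝ) • (1 : Matrix ι ι ℝ) + (1 / (2 * s)) • M with hE
  have hEE : E * E = E := by
    rw [hE]
    simp only [mul_add, add_mul, smul_mul_assoc, mul_smul_comm, smul_smul, mul_one, one_mul, hMM,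
      smul_add]
    match_scalars
    · field_simp
      linear_combination -hs2
    · field_simp
      norm_num
  obtain ⟨f, hf⟩ := exists_trace_eq_natCast hEE
  rw [hE, Matrix.trace_add, Matrix.trace_smul, Matrix.trace_smul, Matrix.trace_one, htrM, hι] at hf
  have h : (2 * (f : ℝ) - 101) * s = -616 := by
    rw [← hf, hc]
    simp only [smul_eq_mul, Nat.cast_ofNat]
    field_simp
    ring
  have h2 : (2 * (f : ℤ) - 101) * (2 * (f : ℤ) - 101) = 6776 := by
    have h' : (2 * (f : ℝ) - 101) * (2 * (f : ℝ) - 101) * 56 = 6776 * 56 := by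
      rw [← hs2]
      linear_combination ((2 * (f : ℝ) - 101) * s - 616) * h + (-6776 : ℝ) * hs2
    exact_mod_cast mul_right_cancel₀ (by norm_num) h'
  set n := (2 * (f : ℤ) - 101).natAbs with hn
  have h3 : n * n = 6776 := by
    have := congrArg Int.natAbs h2
    rw [Int.natAbs_mul] at this
    exact this
  have h4 : n < 83 := by nlinarith
  have h5 : 82 < n := by nlinarith
  omega

end Matrix

/-- The only parameters (100, 22, l, m) are (100, 22, 0, 6). -/
theorem params {V : Type*} [Fintype V] {Γ : SimpleGraph V} [DecidableRel Γ.Adj] {l m : ℕ}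
    (h : Γ.IsSRGWith 100 22 l m) : l = 0 ∧ m = 6 := by
  classical
  have hne : Nonempty V := Fintype.card_pos_iff.1 (by rw [h.card]; norm_num)
  obtain ⟨x⟩ := hne
  obtain ⟨y, hy⟩ : ∃ y, Γ.Adj x y := by
    have : 0 < Γ.degree x := by rw [h.regular.degree_eq]; norm_num
    exact (Γ.degree_pos_iff_exists_adj x).1 this
  have hl : l < 22 := by
    have := hy.card_commonNeighbors_lt_degree
    rwa [h.of_adj x y hy, h.regular.degree_eq] at this
  have hp := SimpleGraph.IsSRGWith.param_eq Γ h (by norm_num)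
  have hmat := h.matrix_eq (α := ℝ)
  have hsum := Γ.one_add_adjMatrix_add_compl_adjMatrix_eq_of_one (α := ℝ)
  have hrow : ∀ i, ∑ j, Γ.adjMatrix ℝ i j = 22 := fun i => by
    have h0 := SimpleGraph.adjMatrix_mulVec_const_apply (G := Γ) (a := (1 : ℝ)) (v := i)
    simp [Matrix.mulVec, dotProduct, h.regular.degree_eq] at h0 ⊢
    exact_mod_cast h0
  have hcol : ∀ j, ∑ i, Γ.adjMatrix ℝ i j = 22 := fun j => by
    rw [← hrow j]
    exact Finset.sum_congr rfl fun i _ => by simp [SimpleGraph.adj_comm]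
  have hdiag : ∀ i, Γ.adjMatrix ℝ i i = 0 := fun i => by simp
  rw [pow_two] at hmat
  have hC : Γᶜ.adjMatrix ℝ =
      (Matrix.of fun _ _ => (1 : ℝ)) - 1 - Γ.adjMatrix ℝ := by
    show Γᶜ.adjMatrix ℝ = Matrix.of 1 - 1 - Γ.adjMatrix ℝ
    rw [← hsum, SimpleGraph.compl_adjMatrix_eq_adjMatrix_compl]; abel
  rw [hC] at hmat
  have hcases : (l = 21 ∧ m = 0) ∨ (l = 14 ∧ m = 2) ∨ (l = 7 ∧ m = 4) ∨ (l = 0 ∧ m = 6) := by
    omega
  rcases hcases with ⟨rfl, rfl⟩ | ⟨rfl, rfl⟩ | ⟨rfl, rfl⟩ | h'
  · exfalso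
    have htrans : ∀ u v w, Γ.Adj u v → Γ.Adj v w → u ≠ w → Γ.Adj u w := by
      intro u v w huv hvw huw
      by_contra hn
      have := h.of_not_adj huw hn
      rw [Fintype.card_eq_zero_iff] at this
      exact this.elim ⟨v, huv, hvw.symm⟩
    let S : Setoid V := ⟨fun u v => u = v ∨ Γ.Adj u v,
      fun _ => Or.inl rfl, fun {u v} e => e.elim (fun e => Or.inl e.symm) (fun e => Or.inr e.symm),
      fun {u v w} e1 e2 => by
        rcases e1 with rfl | e1
        · exact e2
        rcases e2 with rfl | e2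
        · exact Or.inr e1
        by_cases huw : u = w
        · exact Or.inl huw
        · exact Or.inr (htrans u v w e1 e2 huw)⟩
    have hfib : ∀ q : Quotient S,
        (Finset.univ.filter fun v => Quotient.mk S v = q).card = 23 := by
      intro q
      induction q using Quotient.inductionOn with
      | h u =>
        have e : (Finset.univ.filter fun v => Quotient.mk S v = Quotient.mk S u) =
            insert u (Γ.neighborFinset u) := by
          ext v
          simp only [Finset.mem_filter, Finset.mem_univ, true_and, Finset.mem_insert,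
            SimpleGraph.mem_neighborFinset, Quotient.eq]
          exact ⟨fun h => h.elim Or.inl (fun h => Or.inr h.symm),
            fun h => h.elim Or.inl (fun h => Or.inr h.symm)⟩
        rw [e, Finset.card_insert_of_notMem (by simp), SimpleGraph.card_neighborFinset_eq_degree,
          h.regular.degree_eq]
    have hc : Fintype.card V = ∑ q : Quotient S,
        (Finset.univ.filter fun v => Quotient.mk S v = q).card :=
      Finset.card_eq_sum_card_fiberwise fun v _ => Finset.mem_univ _
    rw [Finset.sum_congr rfl (fun q _ => hfib q), Finset.sum_const, smul_eq_mul, h.card] at hc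
    omega
  · exfalso
    refine no_fourteen h.card _ hrow hcol hdiag (hmat.trans ?_)
    module
  · exfalso
    refine no_seven h.card _ hrow hcol hdiag (hmat.trans ?_)
    module
  · exact h'

/-- The graph of the orbit of size 22. -/
theorem exists_srg {Ω : Type*} [Fintype Ω] (hΩ : Fintype.card Ω = 100)
    (G : Subgroup (Equiv.Perm Ω)) [MulAction.IsPretransitive G Ω] (a b c : Ω)
    (hb : (MulAction.orbit (MulAction.stabilizer G a) b).ncard = 22)
    (hc : (MulAction.orbit (MulAction.stabilizer G a) c).ncard = 77) :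
    ∃ (Γ : SimpleGraph Ω) (_ : DecidableRel Γ.Adj), Γ.IsSRGWith 100 22 0 6 ∧
      ∀ (g : G) (x y : Ω), Γ.Adj (g • x) (g • y) ↔ Γ.Adj x y := by
  classical
  set Ob := MulAction.orbit (MulAction.stabilizer G a) b with hOb
  set Oc := MulAction.orbit (MulAction.stabilizer G a) c with hOc
  have hfix : ∀ s : MulAction.stabilizer G a, (s : G) • a = a := fun s => s.2
  have horba : MulAction.orbit (MulAction.stabilizer G a) a = {a} := by
    ext z
    exact ⟨fun ⟨s, hs⟩ => hs.symm.trans (hfix s), fun (hz : z = a) => by rw [hz]; exact MulAction.mem_orbit_self a⟩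
  have haOb : a ∉ Ob := fun h => by
    have := MulAction.orbit_eq_iff.2 h
    rw [horba] at this
    rw [hOb, ← this, Set.ncard_singleton] at hb
    omega
  have haOc : a ∉ Oc := fun h => by
    have := MulAction.orbit_eq_iff.2 h
    rw [horba] at this
    rw [hOc, ← this, Set.ncard_singleton] at hc
    omega
  have hdisj : Disjoint Ob Oc := Set.disjoint_left.2 fun z h1 h2 => by
    have e : Ob = Oc := (MulAction.orbit_eq_iff.2 h1).symm.trans (MulAction.orbit_eq_iff.2 h2)
    rw [e, hc] at hb
    omega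
  have hcover : ∀ z, z ≠ a → z ∈ Ob ∨ z ∈ Oc := by
    intro z hz
    have hsub : Ob ∪ Oc ⊆ {a}ᶜ := by
      rintro w (hw | hw) (rfl : w = a)
      exacts [haOb hw, haOc hw]
    have heq : Ob ∪ Oc = {a}ᶜ := by
      refine Set.eq_of_subset_of_ncard_le hsub ?_ (Set.toFinite _)
      rw [Set.ncard_union_eq hdisj (Set.toFinite _) (Set.toFinite _), hb, hc, Set.ncard_compl,
        Set.ncard_singleton, Nat.card_eq_fintype_card, hΩ]
    have hm : z ∈ ({a}ᶜ : Set Ω) := hz
    rwa [← heq] at hm
  let R : Ω → Ω → Prop := fun x y => ∃ g : G, g • a = x ∧ g • b = y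
  have hRsmul : ∀ (g : G) x y, R x y → R (g • x) (g • y) := fun g x y ⟨k, h1, h2⟩ =>
    ⟨g * k, by rw [mul_smul, h1], by rw [mul_smul, h2]⟩
  have hRiff : ∀ (g : G) x y, R (g • x) (g • y) ↔ R x y := fun g x y =>
    ⟨fun h => by simpa [inv_smul_smul] using hRsmul g⁻¹ _ _ h, hRsmul g x y⟩
  have hout : ∀ z, R a z ↔ z ∈ Ob := fun z =>
    ⟨fun ⟨g, h1, h2⟩ => ⟨⟨g, h1⟩, h2⟩, fun ⟨s, hs⟩ => ⟨s, hfix s, hs⟩⟩
  have houtc : ∀ x, ({z | R x z} : Set Ω).ncard = 22 := by
    intro x
    obtain ⟨g, rfl⟩ := MulAction.exists_smul_eq G a x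
    have e : {z | R (g • a) z} = (fun z => g • z) '' Ob := by
      ext z
      constructor
      · intro hz
        refine ⟨g⁻¹ • z, (hout _).1 ?_, smul_inv_smul g z⟩
        simpa [inv_smul_smul] using hRsmul g⁻¹ _ _ hz
      · rintro ⟨w, hw, rfl⟩
        exact hRsmul g _ _ ((hout w).2 hw)
    rw [e, Set.ncard_image_of_injective _ (MulAction.injective g), hb]
  have hinc : ∀ y, ({z | R z y} : Set Ω).ncard = ({z | R z a} : Set Ω).ncard := by
    intro y
    obtain ⟨g, rfl⟩ := MulAction.exists_smul_eq G a y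
    have e : {z | R z (g • a)} = (fun z => g • z) '' {z | R z a} := by
      ext z
      constructor
      · intro hz
        refine ⟨g⁻¹ • z, ?_, smul_inv_smul g z⟩
        simpa [inv_smul_smul] using hRsmul g⁻¹ _ _ hz
      · rintro ⟨w, hw, rfl⟩
        exact hRsmul g _ _ hw
    rw [e, Set.ncard_image_of_injective _ (MulAction.injective g)]
  have hin22 : ({z | R z a} : Set Ω).ncard = 22 := by
    have h1 : ∑ x : Ω, (Finset.univ.bipartiteAbove R x).card =
        ∑ y : Ω, (Finset.univ.bipartiteBelow R y).card :=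
      Finset.sum_card_bipartiteAbove_eq_sum_card_bipartiteBelow R
    have e1 : ∀ x, (Finset.univ.bipartiteAbove R x).card = 22 := fun x => by
      rw [← houtc x, Set.ncard_eq_toFinset_card']
      congr 1
      ext z
      simp [Finset.bipartiteAbove]
    have e2 : ∀ y, (Finset.univ.bipartiteBelow R y).card = ({z | R z a} : Set Ω).ncard := fun y => by
      rw [← hinc y, Set.ncard_eq_toFinset_card']
      congr 1
      ext z
      simp [Finset.bipartiteBelow]
    rw [Finset.sum_congr rfl (fun x _ => e1 x), Finset.sum_congr rfl (fun y _ => e2 y),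
      Finset.sum_const, Finset.sum_const, Finset.card_univ, hΩ, smul_eq_mul, smul_eq_mul] at h1
    omega
  have hin : ∀ z, R z a → z ∈ Ob := by
    intro z hz
    have hza : z ≠ a := by
      rintro rfl
      exact haOb ((hout _).1 hz)
    refine (hcover z hza).resolve_right fun hzc => ?_
    have hsub : Oc ⊆ {w | R w a} := by
      intro w hw
      rw [hOc, ← MulAction.orbit_eq_iff.2 hzc] at hw
      obtain ⟨s, rfl⟩ := hw
      have := hRsmul (s : G) z a hz
      rwa [hfix s] at this
    have := Set.ncard_le_ncard hsub (Set.toFinite _)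
    omega
  have hsymm : ∀ x y, R x y → R y x := by
    intro x y h
    obtain ⟨g, rfl⟩ := MulAction.exists_smul_eq G a y
    have h' : R (g⁻¹ • x) a := by simpa [inv_smul_smul] using hRsmul g⁻¹ _ _ h
    have := hRsmul g _ _ ((hout _).2 (hin _ h'))
    simpa [smul_inv_smul] using this
  have hirr : ∀ x, ¬ R x x := by
    rintro x ⟨g, h1, h2⟩
    exact haOb (by
      have : b = a := smul_left_cancel g (h2.trans h1.symm)
      rw [hOb, this]; exact MulAction.mem_orbit_self a)
  let Γ : SimpleGraph Ω := { Adj := R, symm := ⟨hsymm⟩, loopless := ⟨hirr⟩ }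
  have hiff : ∀ (g : G) (x y : Ω), Γ.Adj (g • x) (g • y) ↔ Γ.Adj x y := hRiff
  letI : DecidableRel Γ.Adj := Classical.decRel _
  have hreg : Γ.IsRegularOfDegree 22 := by
    intro x
    rw [← SimpleGraph.card_neighborSet_eq_degree, ← Nat.card_eq_fintype_card,
      Nat.card_coe_set_eq]
    exact houtc x
  have hcn : ∀ (g : G) x y, Fintype.card (Γ.commonNeighbors (g • x) (g • y)) =
      Fintype.card (Γ.commonNeighbors x y) := by
    intro g x y
    refine Fintype.card_congr (Equiv.subtypeEquiv (MulAction.toPerm g⁻¹) fun z => ?_)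
    show Γ.Adj (g • x) z ∧ Γ.Adj (g • y) z ↔ Γ.Adj x (g⁻¹ • z) ∧ Γ.Adj y (g⁻¹ • z)
    rw [← hiff g x, ← hiff g y, smul_inv_smul]
  set l := Fintype.card (Γ.commonNeighbors a b) with hl
  set m := Fintype.card (Γ.commonNeighbors a c) with hm
  have hsrg : Γ.IsSRGWith 100 22 l m :=
    { card := hΩ
      regular := hreg
      of_adj := fun x y ⟨g, h1, h2⟩ => by rw [← h1, ← h2, hcn]
      of_not_adj := fun x y hxy hn => by
        obtain ⟨g, rfl⟩ := MulAction.exists_smul_eq G a x
        have h1 : g⁻¹ • y ≠ a := fun e => hxy (by rw [← e, smul_inv_smul])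
        have h2 : g⁻¹ • y ∈ Oc := (hcover _ h1).resolve_left fun h => hn (by
          have := hRsmul g _ _ ((hout _).2 h)
          rwa [smul_inv_smul] at this)
        obtain ⟨s, hs⟩ := h2
        have hy : g • ((s : G) • c) = y := by
          rw [show (s : G) • c = g⁻¹ • y from hs, smul_inv_smul]
        rw [← hy, hm, ← hcn (g * (s : G)) a c, mul_smul, mul_smul, hfix s] }
  obtain ⟨hl0, hm6⟩ := params hsrg
  rw [hl0, hm6] at hsrg
  exact ⟨Γ, inferInstance, hsrg, hiff⟩

/-- A group of order 44352000 preserving such a graph is isomorphic to any given simple subgroup of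
that order in the automorphism group of the graph of an S(3,6,22). -/
theorem nonempty_equiv_hs {α : Type*} [Fintype α] [DecidableEq α] {B : Set (Finset α)}
    (hα : Fintype.card α = 22) (hB : IsSteinerSystem 3 6 B)
    (H : Subgroup (pointBlockGraph B ≃g pointBlockGraph B)) (hH : IsHS H)
    {Ω : Type*} [Fintype Ω] {Γ : SimpleGraph Ω} [DecidableRel Γ.Adj]
    (hΓ : Γ.IsSRGWith 100 22 0 6) (G : Subgroup (Equiv.Perm Ω))
    (hG : ∀ (g : G) (x y : Ω), Γ.Adj (g • x) (g • y) ↔ Γ.Adj x y)
    (hcard : Nat.card G = 44352000) : Nonempty (G ≃* H) := by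
  classical
  have := Fintype.ofFinite B
  have hP := Steiner.BlockGraph.pointBlockGraph_srg hα hB
  have hne : Nonempty Ω := Fintype.card_pos_iff.1 (by rw [hΓ.card]; norm_num)
  obtain ⟨x⟩ := hne
  obtain ⟨ψ, -⟩ := Steiner.SRGHigmanSims.exists_iso hΓ hP x none
  let act : G → (Γ ≃g Γ) := fun g => ⟨(g : Equiv.Perm Ω), fun {u v} => hG g u v⟩
  let f : G →* (pointBlockGraph B ≃g pointBlockGraph B) :=
    { toFun := fun g => (ψ.symm.trans (act g)).trans ψ
      map_one' := RelIso.ext fun v => by
        show ψ (ψ.symm v) = v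
        exact RelIso.apply_symm_apply ψ v
      map_mul' := fun g k => RelIso.ext fun v => by
        show ψ ((g : Equiv.Perm Ω) ((k : Equiv.Perm Ω) (ψ.symm v))) =
          ψ ((g : Equiv.Perm Ω) (ψ.symm (ψ ((k : Equiv.Perm Ω) (ψ.symm v)))))
        rw [RelIso.symm_apply_apply] }
  have hinj : Function.Injective f := fun g k h => Subtype.ext <| Equiv.ext fun u => by
    have h' : ψ ((g : Equiv.Perm Ω) (ψ.symm (ψ u))) = ψ ((k : Equiv.Perm Ω) (ψ.symm (ψ u))) :=
      congrArg (fun F : pointBlockGraph B ≃g pointBlockGraph B => F (ψ u)) h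
    rw [RelIso.symm_apply_apply] at h'
    exact ψ.injective h'
  have : Finite (pointBlockGraph B ≃g pointBlockGraph B) :=
    Nat.finite_of_card_ne_zero (by rw [Steiner.HSAut.card_aut hα hB]; norm_num)
  set K := f.range with hK
  have hKc : Nat.card K = 44352000 :=
    (Nat.card_congr (MonoidHom.ofInjective hinj).toEquiv.symm).trans hcard
  have hidx : K.index = 2 := by
    have h := K.card_mul_index
    rw [hKc, Steiner.HSAut.card_aut hα hB] at h
    omega
  have hKn : K.Normal := Subgroup.normal_of_index_eq_two hidx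
  have hle : H ≤ K := by
    rcases hH.1.eq_bot_or_eq_top_of_normal (K.subgroupOf H) (hKn.subgroupOf H) with h | h
    · exfalso
      have hi : Function.Injective fun p : K × H => (p.1 : pointBlockGraph B ≃g pointBlockGraph B) * p.2 := by
        rintro ⟨k, s⟩ ⟨k', s'⟩ (e : (k : pointBlockGraph B ≃g pointBlockGraph B) * s = k' * s')
        have e' : (s : pointBlockGraph B ≃g pointBlockGraph B) * s'.1⁻¹ =
            (k : pointBlockGraph B ≃g pointBlockGraph B)⁻¹ * k' := by
          rw [mul_inv_eq_iff_eq_mul, mul_assoc, ← e, inv_mul_cancel_left]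
        have hmem : s * s'⁻¹ ∈ K.subgroupOf H := by
          rw [Subgroup.mem_subgroupOf, Subgroup.coe_mul, Subgroup.coe_inv, e']
          exact K.mul_mem (K.inv_mem k.2) k'.2
        rw [h, Subgroup.mem_bot, mul_inv_eq_one] at hmem
        subst hmem
        simpa using e
      have := Nat.card_le_card_of_injective _ hi
      rw [Nat.card_prod, hKc, hH.2, Steiner.HSAut.card_aut hα hB] at this
      omega
    · exact Subgroup.subgroupOf_eq_top.1 h
  have hHK : H = K := Subgroup.eq_of_le_of_card_ge hle (by rw [hKc, hH.2])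
  exact ⟨(MonoidHom.ofInjective hinj).trans (MulEquiv.subgroupCongr hHK.symm)⟩

/-- Any two rank three groups of degree 100, subdegrees 22 and 77 and order 44352000 are isomorphic. -/
theorem nonempty_equiv {Ω Ω' : Type*} [Fintype Ω] [Fintype Ω'] (hΩ : Fintype.card Ω = 100)
    (G : Subgroup (Equiv.Perm Ω)) [MulAction.IsPretransitive G Ω] (a b c : Ω)
    (hb : (MulAction.orbit (MulAction.stabilizer G a) b).ncard = 22)
    (hc : (MulAction.orbit (MulAction.stabilizer G a) c).ncard = 77)
    (hG : Nat.card G = 44352000) (hΩ' : Fintype.card Ω' = 100)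
    (G' : Subgroup (Equiv.Perm Ω')) [MulAction.IsPretransitive G' Ω'] (a' b' c' : Ω')
    (hb' : (MulAction.orbit (MulAction.stabilizer G' a') b').ncard = 22)
    (hc' : (MulAction.orbit (MulAction.stabilizer G' a') c').ncard = 77)
    (hG' : Nat.card G' = 44352000) : Nonempty (G ≃* G') := by
  classical
  obtain ⟨Γ, _, hΓ, hpres⟩ := exists_srg hΩ G a b c hb hc
  obtain ⟨Γ', _, hΓ', hpres'⟩ := exists_srg hΩ' G' a' b' c' hb' hc'
  have hα := Steiner.SRGHigmanSims.card_points hΓ a
  have hB := Steiner.SRGHigmanSims.isSteiner hΓ a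
  obtain ⟨H, hH⟩ := Steiner.HSGraph.exists_hs hα hB
  obtain ⟨e⟩ := nonempty_equiv_hs hα hB H hH hΓ G hpres hG
  obtain ⟨e'⟩ := nonempty_equiv_hs hα hB H hH hΓ' G' hpres' hG'
  exact ⟨e.trans e'.symm⟩

end CfsgLib.Sporadic.HSRankThree
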