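import Cfsg.Agent.Lib.Leech.Norm

/-! Short vectors of the Leech lattice congruent modulo twice the lattice. -/

set_option autoImplicit false

namespace CfsgLib.Sporadic.LeechShort

open Cfsg

theorem sqNorm_add_add_sub (v w : GolayPt → ℤ) :
    sqNorm (v + w) + sqNorm (v - w) = 2 * sqNorm v + 2 * sqNorm w := by
  simp only [sqNorm, Finset.mul_sum, ← Finset.sum_add_distrib]
  exact Finset.sum_congr rfl fun i _ => by simp only [Pi.add_apply, Pi.sub_apply]; ring

theorem sqNorm_add (v w : GolayPt → ℤ) :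
    sqNorm (v + w) = sqNorm v + 2 * dotInt v w + sqNorm w := by
  simp only [sqNorm, dotInt, Finset.mul_sum, ← Finset.sum_add_distrib]
  exact Finset.sum_congr rfl fun i _ => by simp only [Pi.add_apply]; ring

theorem sqNorm_two_smul (z : GolayPt → ℤ) : sqNorm (2 • z) = 4 * sqNorm z := by
  simp only [sqNorm, Finset.mul_sum]
  exact Finset.sum_congr rfl fun i _ => by simp only [Pi.smul_apply, nsmul_eq_mul]; push_cast; ring

theorem short_congruent {v w z : GolayPt → ℤ} (hv : v ∈ leechLattice) (hz : z ∈ leechLattice)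
    (hc : v - w = 2 • z) (hne : v ≠ w) (hne' : v ≠ -w) (hvn : sqNorm v ≤ 64) (hwn : sqNorm w ≤ 64) :
    sqNorm v = 64 ∧ sqNorm w = 64 ∧ dotInt v w = 0 := by
  have hsum : v + w = 2 • (v - z) := by
    rw [smul_sub, ← hc]; simp only [two_smul]; abel
  have h1 : z ≠ 0 := fun h => hne (sub_eq_zero.mp (by rw [hc, h, smul_zero]))
  have h2 : v - z ≠ 0 := fun h => hne' (eq_neg_of_add_eq_zero_left (by rw [hsum, h, smul_zero]))
  have b1 := CfsgLib.Leech.leech_min_norm hz h1
  have b2 := CfsgLib.Leech.leech_min_norm (sub_mem hv hz) h2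
  have e := sqNorm_add_add_sub v w
  have ea := sqNorm_add v w
  rw [hsum, hc, sqNorm_two_smul, sqNorm_two_smul] at e
  rw [hsum, sqNorm_two_smul] at ea
  exact ⟨by omega, by omega, by omega⟩

end CfsgLib.Sporadic.LeechShort
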