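import Cfsg.Prelude.Def_Sporadic_a

/-!
Steiner systems S(2,5,21): independent sets, hyperovals, and the coordinatisation of the plane by a
labelled hyperoval (duads, synthemes, totals).
-/

set_option autoImplicit false

namespace CfsgLib.Sporadic.PlaneFour

open Cfsg

/-! ### The model -/

/-- The fifteen synthemes, each encoded in base 8. -/
def synTable : List ℕ := [152769, 109313, 80193, 152090, 104994, 47146, 151635, 69987, 41259,
  100948, 66396, 34028, 14421, 8989, 5349]

/-- The partner of `i` in syntheme `t`. -/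
def syn (t : Fin 15) (i : Fin 6) : Fin 6 := Fin.ofNat 6 ((synTable.getD t.1 0) / 8 ^ i.1 % 8)

/-- The lines of the model plane, as bit masks. -/
def lineTable : List ℕ := [451, 3589, 28681, 229393, 1835041, 299014, 590346, 1057810, 149538,
  1179724, 540820, 74020, 264472, 33960, 4720, 345152, 567360, 402048, 1120384, 1098496, 660736]

/-- Incidence in the model. -/
def memLine (k v : Fin 21) : Bool := (lineTable.getD k.1 0).testBit v.1

/-- A hyperoval point of the model. -/
def hPt (i : Fin 6) : Fin 21 := ⟨i.1, Nat.lt_of_lt_of_le i.2 (by decide)⟩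

/-- A syntheme point of the model. -/
def sPt (t : Fin 15) : Fin 21 := ⟨6 + t.1, by omega⟩

/-- The line `k` of the model. -/
def modelLine (k : Fin 21) : Finset (Fin 21) := Finset.univ.filter fun v => memLine k v

/-- The lines of the model. -/
def modelLines : Finset (Finset (Fin 21)) := Finset.univ.image modelLine

/-- Two synthemes share no duad. -/
def compat (s t : Fin 15) : Bool := decide (∀ i, syn s i ≠ syn t i)

theorem secant_check : ∀ i j : Fin 6, i ≠ j → ∃ k : Fin 21, memLine k (hPt i) = true ∧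
    memLine k (hPt j) = true ∧ ∀ t, syn t i = j → memLine k (sPt t) = true := by
  decide +kernel

theorem total_check : ∀ a b : Fin 15, compat a b = true → ∃ k : Fin 21,
    memLine k (sPt a) = true ∧ memLine k (sPt b) = true ∧
      ∀ c, compat a c = true → compat b c = true → ∀ d, compat a d = true → compat b d = true →
        compat c d = true → memLine k (sPt c) = true := by
  decide +kernel

theorem line_card_check : ∀ k : Fin 21, (modelLine k).card = 5 := by
  decide +kernel

set_option maxRecDepth 4000 in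
set_option synthInstance.maxSize 2000 in
theorem syn_complete :
    ∀ a : Fin 6, a ≠ 0 → 
    ∀ b : Fin 6, b ≠ 1 → (a = 1 ↔ b = 0) → 
    ∀ c : Fin 6, c ≠ 2 → (a = 2 ↔ c = 0) → (b = 2 ↔ c = 1) → 
    ∀ d : Fin 6, d ≠ 3 → (a = 3 ↔ d = 0) → (b = 3 ↔ d = 1) → (c = 3 ↔ d = 2) → 
    ∀ e : Fin 6, e ≠ 4 → (a = 4 ↔ e = 0) → (b = 4 ↔ e = 1) → (c = 4 ↔ e = 2) → (d = 4 ↔ e = 3) → 
    ∀ f : Fin 6, f ≠ 5 → (a = 5 ↔ f = 0) → (b = 5 ↔ f = 1) → (c = 5 ↔ f = 2) → (d = 5 ↔ f = 3) → (e = 5 ↔ f = 4) → 
    ∃ t, syn t 0 = a ∧ syn t 1 = b ∧ syn t 2 = c ∧ syn t 3 = d ∧ syn t 4 = e ∧ syn t 5 = f := by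
  decide +kernel

theorem syn_exists {g : Fin 6 → Fin 6} (hg : ∀ i, g i ≠ i) (hgg : ∀ i j, g i = j → g j = i) :
    ∃ t, ∀ i, syn t i = g i := by
  obtain ⟨t, h0, h1, h2, h3, h4, h5⟩ := syn_complete (g 0) (hg 0)
    (g 1) (hg 1) ⟨hgg 0 1, hgg 1 0⟩
    (g 2) (hg 2) ⟨hgg 0 2, hgg 2 0⟩ ⟨hgg 1 2, hgg 2 1⟩
    (g 3) (hg 3) ⟨hgg 0 3, hgg 3 0⟩ ⟨hgg 1 3, hgg 3 1⟩ ⟨hgg 2 3, hgg 3 2⟩
    (g 4) (hg 4) ⟨hgg 0 4, hgg 4 0⟩ ⟨hgg 1 4, hgg 4 1⟩ ⟨hgg 2 4, hgg 4 2⟩ ⟨hgg 3 4, hgg 4 3⟩
    (g 5) (hg 5) ⟨hgg 0 5, hgg 5 0⟩ ⟨hgg 1 5, hgg 5 1⟩ ⟨hgg 2 5, hgg 5 2⟩ ⟨hgg 3 5, hgg 5 3⟩ ⟨hgg 4 5, hgg 5 4⟩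
  exact ⟨t, fun i => by fin_cases i <;> assumption⟩

theorem syn_ne : ∀ t i, syn t i ≠ i := by decide +kernel

/-! ### Planes of order four -/

variable {α : Type*} [Fintype α] [DecidableEq α]

/-- A Steiner system S(2,5,21), with a finset of lines. -/
structure IsPlane (Lf : Finset (Finset α)) : Prop where
  points : Fintype.card α = 21
  line_card : ∀ l ∈ Lf, l.card = 5
  line_unique : ∀ p q : α, p ≠ q → ∃! l, l ∈ Lf ∧ p ∈ l ∧ q ∈ l

theorem isPlane_of_steiner (hα : Fintype.card α = 21) {L : Set (Finset α)}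
    (hL : IsSteinerSystem 2 5 L) :
    ∃ Lf : Finset (Finset α), (Lf : Set (Finset α)) = L ∧ IsPlane Lf := by
  classical
  refine ⟨L.toFinite.toFinset, Set.Finite.coe_toFinset _, hα, fun l hl => ?_, fun p q hpq => ?_⟩
  · exact hL.1 l ((Set.Finite.mem_toFinset _).mp hl)
  · obtain ⟨l, ⟨hl, hsub⟩, huniq⟩ := hL.2 {p, q} (Finset.card_pair hpq)
    refine ⟨l, ⟨(Set.Finite.mem_toFinset _).mpr hl, hsub (by simp), hsub (by simp)⟩, ?_⟩
    rintro m ⟨hm, hp, hq⟩
    refine huniq m ⟨(Set.Finite.mem_toFinset _).mp hm, ?_⟩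
    intro x hx
    simp only [Finset.mem_insert, Finset.mem_singleton] at hx
    rcases hx with rfl | rfl <;> assumption

namespace IsPlane

variable {Lf : Finset (Finset α)} (hP : IsPlane Lf)

include hP

/-- The line joining two points. -/
theorem join_exists (p q : α) : ∃ l : Finset α, p ≠ q → l ∈ Lf ∧ p ∈ l ∧ q ∈ l := by
  by_cases h : p = q
  · exact ⟨∅, fun h' => absurd h h'⟩
  · obtain ⟨l, hl, -⟩ := hP.line_unique p q h
    exact ⟨l, fun _ => hl⟩

/-- The line joining two points. -/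
noncomputable def join (p q : α) : Finset α := (hP.join_exists p q).choose

theorem join_spec {p q : α} (h : p ≠ q) :
    hP.join p q ∈ Lf ∧ p ∈ hP.join p q ∧ q ∈ hP.join p q :=
  (hP.join_exists p q).choose_spec h

theorem join_eq {p q : α} (h : p ≠ q) {l : Finset α} (hl : l ∈ Lf) (hp : p ∈ l) (hq : q ∈ l) :
    l = hP.join p q :=
  (hP.line_unique p q h).unique ⟨hl, hp, hq⟩ (hP.join_spec h)

theorem lines_eq {p q : α} (h : p ≠ q) {l m : Finset α} (hl : l ∈ Lf) (hm : m ∈ Lf)
    (hpl : p ∈ l) (hql : q ∈ l) (hpm : p ∈ m) (hqm : q ∈ m) : l = m :=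
  (hP.join_eq h hl hpl hql).trans (hP.join_eq h hm hpm hqm).symm

theorem join_comm {p q : α} (h : p ≠ q) : hP.join q p = hP.join p q :=
  hP.join_eq h (hP.join_spec h.symm).1 (hP.join_spec h.symm).2.2 (hP.join_spec h.symm).2.1

theorem meet_eq {p q : α} {l m : Finset α} (hl : l ∈ Lf) (hm : m ∈ Lf) (hne : l ≠ m)
    (hpl : p ∈ l) (hpm : p ∈ m) (hql : q ∈ l) (hqm : q ∈ m) : p = q := by
  by_contra h
  exact hne (hP.lines_eq h hl hm hpl hql hpm hqm)

theorem lines_through (p : α) : (Lf.filter fun l => p ∈ l).card = 5 := by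
  have h1 : (Finset.univ.erase p) = (Lf.filter fun l => p ∈ l).biUnion fun l => l.erase p := by
    ext q
    simp only [Finset.mem_erase, Finset.mem_univ, and_true, Finset.mem_biUnion, Finset.mem_filter]
    constructor
    · intro hq
      exact ⟨hP.join p q, ⟨(hP.join_spec hq.symm).1, (hP.join_spec hq.symm).2.1⟩, hq,
        (hP.join_spec hq.symm).2.2⟩
    · rintro ⟨l, -, hq, -⟩; exact hq
  have h2 := congrArg Finset.card h1
  rw [Finset.card_erase_of_mem (Finset.mem_univ p), Finset.card_univ, hP.points,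
    Finset.card_biUnion] at h2
  · rw [Finset.sum_congr rfl (g := fun _ => 4), Finset.sum_const, smul_eq_mul] at h2
    · omega
    · intro l hl
      rw [Finset.mem_filter] at hl
      rw [Finset.card_erase_of_mem hl.2, hP.line_card l hl.1]
  · intro l hl m hm hne
    rw [Finset.mem_coe, Finset.mem_filter] at hl hm
    rw [Function.onFun, Finset.disjoint_left]
    intro q hql hqm
    rw [Finset.mem_erase] at hql hqm
    exact hql.1 (hP.meet_eq hl.1 hm.1 hne hql.2 hqm.2 hl.2 hm.2)

theorem card_lines : Lf.card = 21 := by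
  have h := Finset.sum_card_bipartiteAbove_eq_sum_card_bipartiteBelow (s := Lf)
    (t := (Finset.univ : Finset α)) (fun (l : Finset α) (p : α) => p ∈ l)
  rw [Finset.sum_congr rfl (g := fun _ => 5), Finset.sum_const,
    Finset.sum_congr rfl (g := fun _ => 5) (s₂ := (Finset.univ : Finset α)), Finset.sum_const,
    Finset.card_univ, hP.points] at h
  · simp only [smul_eq_mul] at h; omega
  · intro p _; exact hP.lines_through p
  · intro l hl
    rw [Finset.bipartiteAbove, Finset.filter_mem_eq_inter, Finset.univ_inter, hP.line_card l hl]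

theorem exists_meet {l m : Finset α} (hl : l ∈ Lf) (hm : m ∈ Lf) : ∃ q, q ∈ l ∧ q ∈ m := by
  obtain ⟨p, hp⟩ := Finset.card_pos.mp (show 0 < m.card by rw [hP.line_card m hm]; norm_num)
  by_cases hpl : p ∈ l
  · exact ⟨p, hpl, hp⟩
  have hsub : l.image (hP.join p) ⊆ Lf.filter fun k => p ∈ k := by
    intro k hk
    obtain ⟨q, hq, rfl⟩ := Finset.mem_image.mp hk
    have hpq : p ≠ q := fun h => hpl (h ▸ hq)
    exact Finset.mem_filter.mpr ⟨(hP.join_spec hpq).1, (hP.join_spec hpq).2.1⟩
  have heq := Finset.eq_of_subset_of_card_le hsub (by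
    rw [hP.lines_through, Finset.card_image_of_injOn, hP.line_card l hl]
    intro q hq q' hq' he
    have hpq : p ≠ q := fun h => hpl (h ▸ hq)
    have hpq' : p ≠ q' := fun h => hpl (h ▸ hq')
    refine hP.meet_eq hl (hP.join_spec hpq).1 (fun h => hpl (h ▸ (hP.join_spec hpq).2.1)) hq
      (hP.join_spec hpq).2.2 hq' ?_
    rw [he]; exact (hP.join_spec hpq').2.2)
  have hm' : m ∈ l.image (hP.join p) := heq ▸ Finset.mem_filter.mpr ⟨hm, hp⟩
  obtain ⟨q, hq, rfl⟩ := Finset.mem_image.mp hm'
  exact ⟨q, hq, (hP.join_spec (show p ≠ q from fun h => hpl (h ▸ hq))).2.2⟩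

omit hP

/-- A set of points no three of which are collinear. -/
def Indep (Lf : Finset (Finset α)) (S : Finset α) : Prop := ∀ l ∈ Lf, (l ∩ S).card ≤ 2

theorem indep_mono {Lf : Finset (Finset α)} {S T : Finset α} (h : Indep Lf T) (hST : S ⊆ T) :
    Indep Lf S :=
  fun l hl => le_trans (Finset.card_le_card (Finset.inter_subset_inter subset_rfl hST)) (h l hl)

theorem indep_no_three {Lf : Finset (Finset α)} {S : Finset α} (h : Indep Lf S) {l : Finset α}
    (hl : l ∈ Lf) {a b c : α} (ha : a ∈ S) (hb : b ∈ S) (hc : c ∈ S) (hab : a ≠ b) (hac : a ≠ c)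
    (hbc : b ≠ c) (hal : a ∈ l) (hbl : b ∈ l) (hcl : c ∈ l) : False := by
  have h1 : ({a, b, c} : Finset α) ⊆ l ∩ S := by
    intro x hx
    simp only [Finset.mem_insert, Finset.mem_singleton] at hx
    rcases hx with rfl | rfl | rfl <;> exact Finset.mem_inter.mpr ⟨by assumption, by assumption⟩
  have h2 := Finset.card_le_card h1
  rw [Finset.card_eq_three.mpr ⟨a, b, c, hab, hac, hbc, rfl⟩] at h2
  have := h l hl
  omega

theorem indep_of_no_three {Lf : Finset (Finset α)} {S : Finset α}
    (h : ∀ l ∈ Lf, ∀ a ∈ S, ∀ b ∈ S, ∀ c ∈ S, a ≠ b → a ≠ c → b ≠ c →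
      a ∈ l → b ∈ l → c ∈ l → False) : Indep Lf S := by
  intro l hl
  by_contra hlt
  obtain ⟨a, b, c, ha, hb, hc, hab, hac, hbc⟩ := Finset.two_lt_card_iff.mp (not_le.mp hlt)
  rw [Finset.mem_inter] at ha hb hc
  exact h l hl a ha.2 b hb.2 c hc.2 hab hac hbc ha.1 hb.1 hc.1

include hP

/-- In a hyperoval every line through one of its points meets it in a second point. -/
theorem hyperoval_line {H : Finset α} (hH : H.card = 6) (hI : Indep Lf H) {p : α} (hp : p ∈ H)
    {l : Finset α} (hl : l ∈ Lf) (hpl : p ∈ l) : ∃ q ∈ H, q ≠ p ∧ q ∈ l := by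
  have hsub : (H.erase p).image (hP.join p) ⊆ Lf.filter fun k => p ∈ k := by
    intro k hk
    obtain ⟨q, hq, rfl⟩ := Finset.mem_image.mp hk
    have hpq := (Finset.mem_erase.mp hq).1.symm
    exact Finset.mem_filter.mpr ⟨(hP.join_spec hpq).1, (hP.join_spec hpq).2.1⟩
  have heq := Finset.eq_of_subset_of_card_le hsub (by
    rw [hP.lines_through, Finset.card_image_of_injOn, Finset.card_erase_of_mem hp, hH]
    intro q hq q' hq' he
    rw [Finset.mem_coe, Finset.mem_erase] at hq hq'
    by_contra hne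
    refine indep_no_three hI (hP.join_spec hq.1.symm).1 hp hq.2 hq'.2 hq.1.symm hq'.1.symm hne
      (hP.join_spec hq.1.symm).2.1 (hP.join_spec hq.1.symm).2.2 ?_
    rw [he]; exact (hP.join_spec hq'.1.symm).2.2)
  have hl' : l ∈ (H.erase p).image (hP.join p) := heq ▸ Finset.mem_filter.mpr ⟨hl, hpl⟩
  obtain ⟨q, hq, rfl⟩ := Finset.mem_image.mp hl'
  exact ⟨q, (Finset.mem_erase.mp hq).2, (Finset.mem_erase.mp hq).1,
    (hP.join_spec (Finset.mem_erase.mp hq).1.symm).2.2⟩

/-- The points on no secant of `S`. -/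
noncomputable def rest (S : Finset α) : Finset α := by
  classical
  exact Finset.univ.filter fun x => ∀ a ∈ S, ∀ b ∈ S, a ≠ b → x ∉ hP.join a b

theorem mem_rest {S : Finset α} {x : α} :
    x ∈ hP.rest S ↔ ∀ a ∈ S, ∀ b ∈ S, a ≠ b → x ∉ hP.join a b := by
  simp [rest]

theorem rest_not_mem {S : Finset α} (hS : 1 < S.card) {x : α} (hx : x ∈ hP.rest S) : x ∉ S := by
  intro hxS
  obtain ⟨b, hb, hne⟩ := Finset.exists_mem_ne hS x
  exact hP.mem_rest.mp hx x hxS b hb hne.symm (hP.join_spec hne.symm).2.1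

/-- On a line through `p ∈ S` missing the rest of `S` there is exactly one point on no secant. -/
theorem rest_on_line {S : Finset α} (hS : S.card = 4) (hI : Indep Lf S) {p : α} (hp : p ∈ S)
    {m : Finset α} (hm : m ∈ Lf) (hpm : p ∈ m) (hmS : ∀ q ∈ S, q ∈ m → q = p) :
    (m ∩ hP.rest S).card = 1 := by
  obtain ⟨a, b, c, hab, hac, hbc, habc⟩ := Finset.card_eq_three.mp
    (show (S.erase p).card = 3 by rw [Finset.card_erase_of_mem hp, hS])
  have ha : a ∈ S.erase p := by rw [habc]; simp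
  have hb : b ∈ S.erase p := by rw [habc]; simp
  have hc : c ∈ S.erase p := by rw [habc]; simp
  rw [Finset.mem_erase] at ha hb hc
  have hne : ∀ {u v : α}, u ∈ S → u ≠ p → v ≠ u → m ≠ hP.join u v := fun {u v} hu hup hvu he =>
    hup (hmS u hu (he ▸ (hP.join_spec hvu.symm).2.1))
  obtain ⟨x, hxm, hxl⟩ := hP.exists_meet hm (hP.join_spec hab).1
  obtain ⟨y, hym, hyl⟩ := hP.exists_meet hm (hP.join_spec hac).1
  obtain ⟨w, hwm, hwl⟩ := hP.exists_meet hm (hP.join_spec hbc).1
  have hoff : ∀ {u v : α}, u ∈ S → v ∈ S → u ≠ p → v ≠ p → u ≠ v → p ∉ hP.join u v :=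
    fun {u v} hu hv hup hvp huv h =>
      indep_no_three hI (hP.join_spec huv).1 hp hu hv hup.symm hvp.symm huv h
        (hP.join_spec huv).2.1 (hP.join_spec huv).2.2
  have hxp : x ≠ p := fun h => hoff ha.2 hb.2 ha.1 hb.1 hab (h ▸ hxl)
  have hyp : y ≠ p := fun h => hoff ha.2 hc.2 ha.1 hc.1 hac (h ▸ hyl)
  have hwp : w ≠ p := fun h => hoff hb.2 hc.2 hb.1 hc.1 hbc (h ▸ hwl)
  have hlne : ∀ {u v u' v' : α}, u ∈ S → v ∈ S → v' ∈ S → u ≠ v → u = u' → u' ≠ v' → v ≠ v' →
      hP.join u v ≠ hP.join u' v' := by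
    intro u v u' v' hu hv hv' huv he huv' hvv h
    subst he
    exact indep_no_three hI (hP.join_spec huv).1 hu hv hv' huv huv' hvv (hP.join_spec huv).2.1
      (hP.join_spec huv).2.2 (h ▸ (hP.join_spec huv').2.2)
  have hxy : x ≠ y := by
    intro h; subst h
    have h1 := hlne ha.2 hb.2 hc.2 hab rfl hac hbc
    have : x = a := hP.meet_eq (hP.join_spec hab).1 (hP.join_spec hac).1 h1 hxl hyl
      (hP.join_spec hab).2.1 (hP.join_spec hac).2.1
    exact ha.1 (hmS a ha.2 (this ▸ hxm))
  have hxw : x ≠ w := by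
    intro h; subst h
    have h1 : hP.join b a ≠ hP.join b c := hlne hb.2 ha.2 hc.2 hab.symm rfl hbc hac
    rw [hP.join_comm hab] at h1
    have : x = b := hP.meet_eq (hP.join_spec hab).1 (hP.join_spec hbc).1 h1 hxl hwl
      (hP.join_spec hab).2.2 (hP.join_spec hbc).2.1
    exact hb.1 (hmS b hb.2 (this ▸ hxm))
  have hyw : y ≠ w := by
    intro h; subst h
    have h1 : hP.join c a ≠ hP.join c b := hlne hc.2 ha.2 hb.2 hac.symm rfl hbc.symm hab
    rw [hP.join_comm hac, hP.join_comm hbc] at h1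
    have : y = c := hP.meet_eq (hP.join_spec hac).1 (hP.join_spec hbc).1 h1 hyl hwl
      (hP.join_spec hac).2.2 (hP.join_spec hbc).2.2
    exact hc.1 (hmS c hc.2 (this ▸ hym))
  have hset : m ∩ hP.rest S = m \ {p, x, y, w} := by
    ext r
    simp only [Finset.mem_inter, Finset.mem_sdiff, Finset.mem_insert, Finset.mem_singleton,
      and_congr_right_iff]
    intro hrm
    constructor
    · intro hr
      rintro (rfl | rfl | rfl | rfl)
      · exact hP.rest_not_mem (by omega) hr hp
      · exact hP.mem_rest.mp hr a ha.2 b hb.2 hab hxl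
      · exact hP.mem_rest.mp hr a ha.2 c hc.2 hac hyl
      · exact hP.mem_rest.mp hr b hb.2 c hc.2 hbc hwl
    · intro hr
      push Not at hr
      rw [hP.mem_rest]
      intro u hu v hv huv hrl
      by_cases hup : u = p
      · subst hup
        exact hr.1 (hP.meet_eq hm (hP.join_spec huv).1 (fun h => huv (hmS v hv
          (h ▸ (hP.join_spec huv).2.2)).symm) hrm hrl hpm (hP.join_spec huv).2.1)
      by_cases hvp : v = p
      · subst hvp
        exact hr.1 (hP.meet_eq hm (hP.join_spec huv).1 (hne hu hup huv.symm) hrm hrl hpm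
          (hP.join_spec huv).2.2)
      have hu' : u ∈ S.erase p := Finset.mem_erase.mpr ⟨hup, hu⟩
      have hv' : v ∈ S.erase p := Finset.mem_erase.mpr ⟨hvp, hv⟩
      rw [habc] at hu' hv'
      simp only [Finset.mem_insert, Finset.mem_singleton] at hu' hv'
      have key : ∀ {u' v' z : α}, u' ∈ S → u' ≠ p → u' ≠ v' → z ∈ m → z ∈ hP.join u' v' →
          r ∈ hP.join u' v' → r = z := fun {u' v' z} h1 h2 h3 h4 h5 h6 =>
        hP.meet_eq hm (hP.join_spec h3).1 (hne h1 h2 h3.symm) hrm h6 h4 h5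
      rcases hu' with rfl | rfl | rfl <;> rcases hv' with rfl | rfl | rfl <;>
        try exact huv rfl
      · exact hr.2.1 (key ha.2 ha.1 hab hxm hxl hrl)
      · exact hr.2.2.1 (key ha.2 ha.1 hac hym hyl hrl)
      · exact hr.2.1 (key ha.2 ha.1 hab hxm hxl (hP.join_comm huv ▸ hrl))
      · exact hr.2.2.2 (key hb.2 hb.1 hbc hwm hwl hrl)
      · exact hr.2.2.1 (key ha.2 ha.1 hac hym hyl (hP.join_comm huv ▸ hrl))
      · exact hr.2.2.2 (key hb.2 hb.1 hbc hwm hwl (hP.join_comm huv ▸ hrl))
  rw [hset, Finset.card_sdiff_of_subset, hP.line_card m hm]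
  · have : ({p, x, y, w} : Finset α).card = 4 := by
      rw [Finset.card_insert_of_notMem, Finset.card_eq_three.mpr ⟨x, y, w, hxy, hxw, hyw, rfl⟩]
      simp [hxp.symm, hyp.symm, hwp.symm]
    omega
  · intro r hr
    simp only [Finset.mem_insert, Finset.mem_singleton] at hr
    rcases hr with rfl | rfl | rfl | rfl <;> assumption

/-- The lines through `p ∈ S` missing the rest of `S`. -/
theorem card_tangents {S : Finset α} (hI : Indep Lf S) {p : α} (hp : p ∈ S) :
    ((Lf.filter fun k => p ∈ k) \ (S.erase p).image (hP.join p)).card + S.card = 6 := by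
  rw [Finset.card_sdiff_of_subset, hP.lines_through, Finset.card_image_of_injOn,
    Finset.card_erase_of_mem hp]
  · have h1 : 0 < S.card := Finset.card_pos.mpr ⟨p, hp⟩
    have h2 : (S.erase p).card ≤ 5 := by
      rw [← hP.lines_through p]
      refine Finset.card_le_card_of_injOn (hP.join p) ?_ ?_
      · intro q hq
        rw [Finset.mem_coe, Finset.mem_erase] at hq
        exact Finset.mem_filter.mpr ⟨(hP.join_spec hq.1.symm).1, (hP.join_spec hq.1.symm).2.1⟩
      · intro q hq q' hq' he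
        rw [Finset.mem_coe, Finset.mem_erase] at hq hq'
        by_contra hne
        refine indep_no_three hI (hP.join_spec hq.1.symm).1 hp hq.2 hq'.2 hq.1.symm hq'.1.symm hne
          (hP.join_spec hq.1.symm).2.1 (hP.join_spec hq.1.symm).2.2 ?_
        rw [he]; exact (hP.join_spec hq'.1.symm).2.2
    rw [Finset.card_erase_of_mem hp] at h2
    omega
  · intro q hq q' hq' he
    rw [Finset.mem_coe, Finset.mem_erase] at hq hq'
    by_contra hne
    refine indep_no_three hI (hP.join_spec hq.1.symm).1 hp hq.2 hq'.2 hq.1.symm hq'.1.symm hne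
      (hP.join_spec hq.1.symm).2.1 (hP.join_spec hq.1.symm).2.2 ?_
    rw [he]; exact (hP.join_spec hq'.1.symm).2.2
  · intro k hk
    obtain ⟨q, hq, rfl⟩ := Finset.mem_image.mp hk
    have hpq := (Finset.mem_erase.mp hq).1.symm
    exact Finset.mem_filter.mpr ⟨(hP.join_spec hpq).1, (hP.join_spec hpq).2.1⟩

/-- An independent 4-set has two points on no secant, not collinear with any of its points. -/
theorem rest_spec {S : Finset α} (hS : S.card = 4) (hI : Indep Lf S) :
    (hP.rest S).card = 2 ∧ ∀ p ∈ S, ∀ x ∈ hP.rest S, ∀ y ∈ hP.rest S, x ≠ y →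
      y ∉ hP.join p x := by
  have hnm : ∀ {x}, x ∈ hP.rest S → x ∉ S := fun hx => hP.rest_not_mem (by omega) hx
  have hT : ∀ p ∈ S, ∀ x ∈ hP.rest S, ∀ q ∈ S, q ∈ hP.join p x → q = p := by
    intro p hp x hx q hq hqj
    by_contra hne
    have hpx : p ≠ x := fun h => hnm hx (h ▸ hp)
    refine hP.mem_rest.mp hx p hp q hq (Ne.symm hne) ?_
    rw [← hP.join_eq (Ne.symm hne) (hP.join_spec hpx).1 (hP.join_spec hpx).2.1 hqj]
    exact (hP.join_spec hpx).2.2
  refine ⟨?_, ?_⟩
  · obtain ⟨p, hp⟩ := Finset.card_pos.mp (show 0 < S.card by omega)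
    obtain ⟨M, hM⟩ : ∃ M, M = (Lf.filter fun k => p ∈ k) \ (S.erase p).image (hP.join p) := ⟨_, rfl⟩
    have hMmem : ∀ m, m ∈ M ↔ (m ∈ Lf ∧ p ∈ m) ∧ ∀ q ∈ S, q ∈ m → q = p := by
      intro m
      simp only [hM, Finset.mem_sdiff, Finset.mem_filter, Finset.mem_image, Finset.mem_erase]
      refine and_congr_right fun hm => ⟨fun h q hq hqm => ?_, fun h ⟨q, hq, he⟩ => ?_⟩
      · by_contra hne
        exact h ⟨q, ⟨hne, hq⟩, (hP.join_eq (Ne.symm hne) hm.1 hm.2 hqm).symm⟩
      · exact hq.1 (h q hq.2 (he ▸ (hP.join_spec hq.1.symm).2.2))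
    have hcard : M.card = 2 := by
      have := hP.card_tangents hI hp
      rw [← hM] at this
      omega
    have h1 : hP.rest S = M.biUnion fun m => m ∩ hP.rest S := by
      ext x
      simp only [Finset.mem_biUnion, Finset.mem_inter]
      refine ⟨fun hx => ?_, fun ⟨_, _, _, hx⟩ => hx⟩
      have hpx : p ≠ x := fun h => hnm hx (h ▸ hp)
      exact ⟨hP.join p x, (hMmem _).mpr ⟨⟨(hP.join_spec hpx).1, (hP.join_spec hpx).2.1⟩,
        hT p hp x hx⟩, (hP.join_spec hpx).2.2, hx⟩
    rw [h1, Finset.card_biUnion, Finset.sum_congr rfl (g := fun _ => 1), Finset.sum_const, hcard,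
      smul_eq_mul, mul_one]
    · intro m hm
      rw [hMmem] at hm
      exact hP.rest_on_line hS hI hp hm.1.1 hm.1.2 hm.2
    · intro m hm m' hm' hne
      rw [Finset.mem_coe, hMmem] at hm hm'
      rw [Function.onFun, Finset.disjoint_left]
      intro x hx hx'
      rw [Finset.mem_inter] at hx hx'
      exact hnm hx.2 ((hP.meet_eq hm.1.1 hm'.1.1 hne hx.1 hx'.1 hm.1.2 hm'.1.2) ▸ hp)
  · intro p hp x hx y hy hxy hyj
    have hpx : p ≠ x := fun h => hnm hx (h ▸ hp)
    have h := hP.rest_on_line hS hI hp (hP.join_spec hpx).1 (hP.join_spec hpx).2.1 (hT p hp x hx)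
    exact hxy ((Finset.card_le_one.mp (le_of_eq h)) x
      (Finset.mem_inter.mpr ⟨(hP.join_spec hpx).2.2, hx⟩) y (Finset.mem_inter.mpr ⟨hyj, hy⟩))

theorem hyperoval_existsUnique {S : Finset α} (hS : S.card = 4) (hI : Indep Lf S) :
    ∃! H : Finset α, (H.card = 6 ∧ Indep Lf H) ∧ S ⊆ H := by
  obtain ⟨hR2, hline⟩ := hP.rest_spec hS hI
  have hnm : ∀ {x}, x ∈ hP.rest S → x ∉ S := fun hx => hP.rest_not_mem (by omega) hx
  have hcard : (S ∪ hP.rest S).card = 6 := by
    rw [Finset.card_union_of_disjoint (Finset.disjoint_left.mpr fun x hxS hx => hnm hx hxS), hS, hR2]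
  refine ⟨S ∪ hP.rest S, ⟨⟨hcard, indep_of_no_three ?_⟩, Finset.subset_union_left⟩, ?_⟩
  · intro l hl a ha b hb c hc hab hac hbc hal hbl hcl
    -- at most one of the three points lies off `S`
    have two : ∀ {u v w}, u ∈ S → v ∈ S → u ≠ v → w ∈ hP.rest S → u ∈ l → v ∈ l → w ∈ l → False :=
      fun {u v w} hu hv huv hw hul hvl hwl =>
        hP.mem_rest.mp hw u hu v hv huv (hP.join_eq huv hl hul hvl ▸ hwl)
    have one : ∀ {u v w}, u ∈ S → v ∈ hP.rest S → w ∈ hP.rest S → v ≠ w → u ∈ l → v ∈ l → w ∈ l →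
        False := fun {u v w} hu hv hw hvw hul hvl hwl =>
      hline u hu v hv w hw hvw (hP.join_eq (show u ≠ v from fun h => hnm hv (h ▸ hu)) hl hul hvl ▸ hwl)
    rw [Finset.mem_union] at ha hb hc
    rcases ha with ha | ha <;> rcases hb with hb | hb <;> rcases hc with hc | hc
    · exact indep_no_three hI hl ha hb hc hab hac hbc hal hbl hcl
    · exact two ha hb hab hc hal hbl hcl
    · exact two ha hc hac hb hal hcl hbl
    · exact one ha hb hc hbc hal hbl hcl
    · exact two hb hc hbc ha hbl hcl hal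
    · exact one hb ha hc hac hbl hal hcl
    · exact one hc ha hb hab hcl hal hbl
    · have h2 : ({a, b, c} : Finset α) ⊆ hP.rest S := by
        intro x hx
        simp only [Finset.mem_insert, Finset.mem_singleton] at hx
        rcases hx with rfl | rfl | rfl <;> assumption
      have h3 := Finset.card_le_card h2
      rw [Finset.card_eq_three.mpr ⟨a, b, c, hab, hac, hbc, rfl⟩, hR2] at h3
      omega
  · rintro H ⟨⟨hH6, hHI⟩, hSH⟩
    refine Finset.eq_of_subset_of_card_le ?_ (by rw [hcard, hH6])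
    intro x hx
    rw [Finset.mem_union]
    by_cases hxS : x ∈ S
    · exact Or.inl hxS
    right
    rw [hP.mem_rest]
    intro a ha b hb hab hxj
    exact indep_no_three hHI (hP.join_spec hab).1 (hSH ha) (hSH hb) hx hab
      (fun h => hxS (h ▸ ha)) (fun h => hxS (h ▸ hb)) (hP.join_spec hab).2.1 (hP.join_spec hab).2.2 hxj

omit hP in
/-- The independent `k`-sets. -/
noncomputable def indepSets (Lf : Finset (Finset α)) (k : ℕ) : Finset (Finset α) := by
  classical
  exact Finset.univ.filter fun S => S.card = k ∧ Indep Lf S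

omit hP in
theorem mem_indepSets {Lf : Finset (Finset α)} {k : ℕ} {S : Finset α} :
    S ∈ indepSets Lf k ↔ S.card = k ∧ Indep Lf S := by
  simp [indepSets]

omit hP in
/-- Growing independent sets one point at a time. -/
theorem card_indep_succ {Lf : Finset (Finset α)} {k e : ℕ}
    (hext : ∀ S ∈ indepSets Lf k, ∀ R : Finset α,
      (∀ x, x ∈ R ↔ x ∉ S ∧ Indep Lf (insert x S)) → R.card = e) :
    (indepSets Lf (k + 1)).card * (k + 1) = (indepSets Lf k).card * e := by
  classical
  have h := Finset.sum_card_bipartiteAbove_eq_sum_card_bipartiteBelow (s := indepSets Lf (k + 1))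
    (t := indepSets Lf k) (fun (T S : Finset α) => S ⊆ T)
  rw [Finset.sum_congr rfl (g := fun _ => k + 1), Finset.sum_const,
    Finset.sum_congr rfl (g := fun _ => e) (s₂ := indepSets Lf k), Finset.sum_const] at h
  · exact h
  · intro S hS
    rw [Finset.bipartiteBelow]
    have hS' := mem_indepSets.mp hS
    rw [← hext S hS (Finset.univ.filter fun x => x ∉ S ∧ Indep Lf (insert x S)) (by simp)]
    symm
    refine Finset.card_bij (fun x _ => insert x S) ?_ ?_ ?_
    · intro x hx
      rw [Finset.mem_filter] at hx ⊢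
      rw [mem_indepSets, Finset.card_insert_of_notMem hx.2.1, hS'.1]
      exact ⟨⟨rfl, hx.2.2⟩, Finset.subset_insert x S⟩
    · intro x hx y _ he
      have : x ∈ insert y S := he ▸ Finset.mem_insert_self x S
      exact (Finset.mem_insert.mp this).resolve_right (Finset.mem_filter.mp hx).2.1
    · intro T hT
      rw [Finset.mem_filter, mem_indepSets] at hT
      obtain ⟨x, hx⟩ := Finset.card_eq_one.mp
        (show (T \ S).card = 1 by rw [Finset.card_sdiff_of_subset hT.2, hT.1.1, hS'.1]; omega)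
      have hTe : insert x S = T := by
        rw [← Finset.singleton_union, ← hx, Finset.sdiff_union_of_subset hT.2]
      have hxm : x ∈ T \ S := by rw [hx]; exact Finset.mem_singleton_self x
      exact ⟨x, Finset.mem_filter.mpr ⟨Finset.mem_univ x, (Finset.mem_sdiff.mp hxm).2,
        hTe.symm ▸ hT.1.2⟩, hTe⟩
  · intro T hT
    rw [Finset.bipartiteAbove]
    rw [mem_indepSets] at hT
    have h1 : (indepSets Lf k).filter (fun S => S ⊆ T) = T.powersetCard k := by
      ext S
      rw [Finset.mem_filter, mem_indepSets, Finset.mem_powersetCard]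
      exact ⟨fun h => ⟨h.2, h.1.1⟩, fun h => ⟨⟨h.2, indep_mono hT.2 h.1⟩, h.1⟩⟩
    rw [h1, Finset.card_powersetCard, hT.1, Nat.choose_succ_self_right]

theorem card_indep_two : (indepSets Lf 2).card = 210 := by
  have h1 : indepSets Lf 2 = (Finset.univ : Finset α).powersetCard 2 := by
    ext S
    rw [mem_indepSets, Finset.mem_powersetCard]
    refine ⟨fun h => ⟨Finset.subset_univ S, h.1⟩, fun h => ⟨h.2, fun l _ => ?_⟩⟩
    exact (Finset.card_le_card Finset.inter_subset_right).trans (le_of_eq h.2)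
  rw [h1, Finset.card_powersetCard, Finset.card_univ, hP.points]
  rfl

theorem card_indep_three : (indepSets Lf 3).card = 1120 := by
  classical
  have h := card_indep_succ (Lf := Lf) (k := 2) (e := 16) (by
    intro S hS R hR
    rw [mem_indepSets] at hS
    obtain ⟨a, b, hab, rfl⟩ := Finset.card_eq_two.mp hS.1
    have : R = Finset.univ \ hP.join a b := by
      ext x
      rw [hR, Finset.mem_sdiff]
      simp only [Finset.mem_univ, true_and, Finset.mem_insert, Finset.mem_singleton, not_or]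
      constructor
      · rintro ⟨⟨hxa, hxb⟩, hI⟩ hxj
        exact indep_no_three hI (hP.join_spec hab).1 (by simp : a ∈ insert x ({a, b} : Finset α))
          (by simp : b ∈ insert x ({a, b} : Finset α)) (by simp : x ∈ insert x ({a, b} : Finset α))
          hab (Ne.symm hxa) (Ne.symm hxb) (hP.join_spec hab).2.1 (hP.join_spec hab).2.2 hxj
      · intro hxj
        have hxa : x ≠ a := fun h => hxj (h ▸ (hP.join_spec hab).2.1)
        have hxb : x ≠ b := fun h => hxj (h ▸ (hP.join_spec hab).2.2)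
        refine ⟨⟨hxa, hxb⟩, fun l hl => ?_⟩
        by_contra hlt
        have hsub : insert x ({a, b} : Finset α) ⊆ l := by
          have h3 : (insert x ({a, b} : Finset α)).card ≤ (l ∩ insert x {a, b}).card := by
            rw [Finset.card_eq_three.mpr ⟨x, a, b, hxa, hxb, hab, rfl⟩]; omega
          have := Finset.eq_of_subset_of_card_le Finset.inter_subset_right h3
          rw [← this]; exact Finset.inter_subset_left
        exact hxj (hP.join_eq hab hl (hsub (by simp)) (hsub (by simp)) ▸ hsub (by simp))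
    rw [this, Finset.card_univ_sdiff, hP.points, hP.line_card _ (hP.join_spec hab).1])
  rw [hP.card_indep_two] at h
  change (indepSets Lf 3).card * 3 = 210 * 16 at h
  omega

theorem card_indep_four : (indepSets Lf 4).card = 2520 := by
  classical
  have h := card_indep_succ (Lf := Lf) (k := 3) (e := 9) (by
    intro S hS R hR
    rw [mem_indepSets] at hS
    obtain ⟨hS3, hI⟩ := hS
    obtain ⟨a, b, c, hab, hac, hbc, rfl⟩ := Finset.card_eq_three.mp hS3
    have memS : a ∈ ({a, b, c} : Finset α) ∧ b ∈ ({a, b, c} : Finset α) ∧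
        c ∈ ({a, b, c} : Finset α) := by simp
    obtain ⟨ma, mb, mc⟩ := memS
    have no : ∀ {l : Finset α}, l ∈ Lf → a ∈ l → b ∈ l → c ∈ l → False := fun hl h1 h2 h3 =>
      indep_no_three hI hl ma mb mc hab hac hbc h1 h2 h3
    obtain ⟨j1, j2, j3, hj1, hj2, hj3⟩ : ∃ j1 j2 j3, j1 = hP.join a b ∧ j2 = hP.join a c ∧
        j3 = hP.join b c := ⟨_, _, _, rfl, rfl, rfl⟩
    have s1 := hj1 ▸ hP.join_spec hab
    have s2 := hj2 ▸ hP.join_spec hac
    have s3 := hj3 ▸ hP.join_spec hbc
    have ne12 : j1 ≠ j2 := fun h => no s1.1 s1.2.1 s1.2.2 (h ▸ s2.2.2)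
    have ne13 : j1 ≠ j3 := fun h => no s1.1 s1.2.1 s1.2.2 (h ▸ s3.2.2)
    have ne23 : j2 ≠ j3 := fun h => no s2.1 s2.2.1 (h ▸ s3.2.1) s2.2.2
    have i12 : j1 ∩ j2 = {a} := Finset.eq_singleton_iff_unique_mem.mpr
      ⟨Finset.mem_inter.mpr ⟨s1.2.1, s2.2.1⟩, fun x hx => hP.meet_eq s1.1 s2.1 ne12
        (Finset.mem_inter.mp hx).1 (Finset.mem_inter.mp hx).2 s1.2.1 s2.2.1⟩
    have i3 : (j1 ∪ j2) ∩ j3 = {b, c} := by
      ext x
      simp only [Finset.mem_inter, Finset.mem_union, Finset.mem_insert, Finset.mem_singleton]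
      constructor
      · rintro ⟨h1 | h1, h3⟩
        · exact Or.inl (hP.meet_eq s1.1 s3.1 ne13 h1 h3 s1.2.2 s3.2.1)
        · exact Or.inr (hP.meet_eq s2.1 s3.1 ne23 h1 h3 s2.2.2 s3.2.2)
      · rintro (rfl | rfl)
        · exact ⟨Or.inl s1.2.2, s3.2.1⟩
        · exact ⟨Or.inr s2.2.2, s3.2.2⟩
    have : R = Finset.univ \ (j1 ∪ j2 ∪ j3) := by
      ext x
      rw [hR, Finset.mem_sdiff]
      simp only [Finset.mem_univ, true_and, Finset.mem_insert, Finset.mem_singleton, not_or,
        Finset.mem_union]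
      constructor
      · rintro ⟨⟨hxa, hxb, hxc⟩, hIx⟩
        have hx : x ∈ insert x ({a, b, c} : Finset α) := Finset.mem_insert_self _ _
        have hup : ∀ {u}, u ∈ ({a, b, c} : Finset α) → u ∈ insert x ({a, b, c} : Finset α) :=
          fun hu => Finset.mem_insert_of_mem hu
        refine ⟨⟨fun h => ?_, fun h => ?_⟩, fun h => ?_⟩
        · exact indep_no_three hIx s1.1 (hup ma) (hup mb) hx hab (Ne.symm hxa) (Ne.symm hxb)
            s1.2.1 s1.2.2 h
        · exact indep_no_three hIx s2.1 (hup ma) (hup mc) hx hac (Ne.symm hxa) (Ne.symm hxc)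
            s2.2.1 s2.2.2 h
        · exact indep_no_three hIx s3.1 (hup mb) (hup mc) hx hbc (Ne.symm hxb) (Ne.symm hxc)
            s3.2.1 s3.2.2 h
      · rintro ⟨⟨h1, h2⟩, h3⟩
        refine ⟨⟨fun h => h1 (h ▸ s1.2.1), fun h => h1 (h ▸ s1.2.2), fun h => h2 (h ▸ s2.2.2)⟩,
          indep_of_no_three ?_⟩
        intro l hl u hu v hv w hw huv huw hvw hul hvl hwl
        have case3 : ∀ {v w}, v ∈ ({a, b, c} : Finset α) → w ∈ ({a, b, c} : Finset α) → v ≠ w →
            x ∈ l → v ∈ l → w ∈ l → False := by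
          intro v w hv hw hvw hxl hvl hwl
          simp only [Finset.mem_insert, Finset.mem_singleton] at hv hw
          rcases hv with rfl | rfl | rfl <;> rcases hw with rfl | rfl | rfl <;>
            first
            | exact hvw rfl
            | (have he := hP.lines_eq hvw hl s1.1 hvl hwl (by first | exact s1.2.1 | exact s1.2.2)
                (by first | exact s1.2.1 | exact s1.2.2); exact h1 (he ▸ hxl))
            | (have he := hP.lines_eq hvw hl s2.1 hvl hwl (by first | exact s2.2.1 | exact s2.2.2)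
                (by first | exact s2.2.1 | exact s2.2.2); exact h2 (he ▸ hxl))
            | (have he := hP.lines_eq hvw hl s3.1 hvl hwl (by first | exact s3.2.1 | exact s3.2.2)
                (by first | exact s3.2.1 | exact s3.2.2); exact h3 (he ▸ hxl))
        rw [Finset.mem_insert] at hu hv hw
        rcases hu with hu | hu
        · subst hu
          exact case3 (hv.resolve_left huv.symm) (hw.resolve_left huw.symm) hvw hul hvl hwl
        rcases hv with hv | hv
        · subst hv
          exact case3 hu (hw.resolve_left hvw.symm) huw hvl hul hwl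
        rcases hw with hw | hw
        · subst hw
          exact case3 hu hv huv hwl hul hvl
        exact indep_no_three hI hl hu hv hw huv huw hvw hul hvl hwl
    have c12 : (j1 ∪ j2).card = 9 := by
      have := Finset.card_union_add_card_inter j1 j2
      rw [i12, Finset.card_singleton, hP.line_card _ s1.1, hP.line_card _ s2.1] at this
      omega
    have c123 : (j1 ∪ j2 ∪ j3).card = 12 := by
      have := Finset.card_union_add_card_inter (j1 ∪ j2) j3
      rw [i3, Finset.card_pair hbc, hP.line_card _ s3.1, c12] at this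
      omega
    rw [this, Finset.card_univ_sdiff, hP.points, c123])
  rw [hP.card_indep_three] at h
  change (indepSets Lf 4).card * 4 = 1120 * 9 at h
  omega

theorem card_hyperovals : (indepSets Lf 6).card = 168 := by
  classical
  have h := Finset.sum_card_bipartiteAbove_eq_sum_card_bipartiteBelow (s := indepSets Lf 6)
    (t := indepSets Lf 4) (fun (T S : Finset α) => S ⊆ T)
  rw [Finset.sum_congr rfl (g := fun _ => 15), Finset.sum_const,
    Finset.sum_congr rfl (g := fun _ => 1) (s₂ := indepSets Lf 4), Finset.sum_const,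
    hP.card_indep_four] at h
  · simp only [smul_eq_mul] at h; omega
  · intro S hS
    rw [mem_indepSets] at hS
    obtain ⟨H, hH, huniq⟩ := hP.hyperoval_existsUnique hS.1 hS.2
    rw [Finset.bipartiteBelow, Finset.card_eq_one]
    refine ⟨H, Finset.eq_singleton_iff_unique_mem.mpr ⟨?_, fun T hT => ?_⟩⟩
    · rw [Finset.mem_filter, mem_indepSets]; exact hH
    · rw [Finset.mem_filter, mem_indepSets] at hT; exact huniq T hT
  · intro T hT
    rw [Finset.bipartiteAbove]
    rw [mem_indepSets] at hT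
    have h1 : (indepSets Lf 4).filter (fun S => S ⊆ T) = T.powersetCard 4 := by
      ext S
      rw [Finset.mem_filter, mem_indepSets, Finset.mem_powersetCard]
      exact ⟨fun h => ⟨h.2, h.1.1⟩, fun h => ⟨⟨h.2, indep_mono hT.2 h.1⟩, h.1⟩⟩
    rw [h1, Finset.card_powersetCard, hT.1]
    rfl

theorem exists_labelling : ∃ e : Fin 6 ↪ α, Indep Lf (Finset.univ.map e) := by
  classical
  obtain ⟨H, hH⟩ := Finset.card_pos.mp
    (show 0 < (indepSets Lf 6).card by rw [hP.card_hyperovals]; norm_num)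
  rw [mem_indepSets] at hH
  refine ⟨(H.equivFinOfCardEq hH.1).symm.toEmbedding.trans (Function.Embedding.subtype _), ?_⟩
  have h1 : Finset.univ.map ((H.equivFinOfCardEq hH.1).symm.toEmbedding.trans
      (Function.Embedding.subtype _)) = H := by
    rw [← Finset.map_map, Finset.map_univ_equiv, Finset.univ_eq_attach, Finset.attach_map_val]
  rw [h1]
  exact hH.2

/-- Coordinates from a labelled hyperoval. -/
theorem exists_coordinates (e : Fin 6 ↪ α) (hI : Indep Lf (Finset.univ.map e)) :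
    ∃ φ : α ≃ Fin 21, (∀ i, φ (e i) = hPt i) ∧
      Lf.image (fun l => l.image φ) = modelLines := by
  classical
  obtain ⟨H, hH⟩ : ∃ H, H = Finset.univ.map e := ⟨_, rfl⟩
  have hH6 : H.card = 6 := by rw [hH, Finset.card_map, Finset.card_univ, Fintype.card_fin]
  rw [← hH] at hI
  have heH : ∀ i, e i ∈ H := fun i => by rw [hH]; exact Finset.mem_map_of_mem e (Finset.mem_univ i)
  have hHe : ∀ p ∈ H, ∃ i, e i = p := fun p hp => by
    rw [hH, Finset.mem_map] at hp
    obtain ⟨i, -, rfl⟩ := hp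
    exact ⟨i, rfl⟩
  have hne : ∀ {i j}, i ≠ j → e i ≠ e j := fun h => e.injective.ne h
  -- every point off `H` determines a syntheme
  have hcode : ∀ x, x ∉ H → ∃ t, ∀ i j, syn t i = j ↔ i ≠ j ∧ x ∈ hP.join (e i) (e j) := by
    intro x hx
    have hpart : ∀ i, ∃ j, i ≠ j ∧ x ∈ hP.join (e i) (e j) := by
      intro i
      have hix : e i ≠ x := fun h => hx (h ▸ heH i)
      obtain ⟨q, hqH, hqi, hql⟩ := hP.hyperoval_line hH6 hI (heH i) (hP.join_spec hix).1
        (hP.join_spec hix).2.1
      obtain ⟨j, rfl⟩ := hHe q hqH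
      refine ⟨j, fun h => hqi (h ▸ rfl), ?_⟩
      rw [← hP.join_eq hqi.symm (hP.join_spec hix).1 (hP.join_spec hix).2.1 hql]
      exact (hP.join_spec hix).2.2
    have huniq : ∀ {i j j'}, i ≠ j → i ≠ j' → x ∈ hP.join (e i) (e j) → x ∈ hP.join (e i) (e j') →
        j = j' := by
      intro i j j' hij hij' h1 h2
      by_contra hjj
      have heq := hP.lines_eq (fun h => hx (h ▸ heH i) : e i ≠ x) (hP.join_spec (hne hij)).1
        (hP.join_spec (hne hij')).1 (hP.join_spec (hne hij)).2.1 h1 (hP.join_spec (hne hij')).2.1 h2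
      exact indep_no_three hI (hP.join_spec (hne hij)).1 (heH i) (heH j) (heH j') (hne hij)
        (hne hij') (hne hjj) (hP.join_spec (hne hij)).2.1 (hP.join_spec (hne hij)).2.2
        (heq ▸ (hP.join_spec (hne hij')).2.2)
    choose g hg1 hg2 using hpart
    obtain ⟨t, ht⟩ := syn_exists (g := g) (fun i => (hg1 i).symm) (fun i j hij => by
      subst hij
      exact (huniq (hg1 i).symm (hg1 (g i)) (by rw [hP.join_comm (hne (hg1 i))]; exact hg2 i)
        (hg2 (g i))).symm)
    refine ⟨t, fun i j => ?_⟩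
    rw [ht]
    exact ⟨fun h => h ▸ ⟨hg1 i, hg2 i⟩, fun h => huniq (hg1 i) h.1 (hg2 i) h.2⟩
  choose code hcode' using hcode
  let φ₀ : α → Fin 21 := fun x => if h : x ∈ H then hPt (hHe x h).choose else sPt (code x h)
  have hφe : ∀ i, φ₀ (e i) = hPt i := by
    intro i
    simp only [φ₀, dif_pos (heH i)]
    rw [e.injective (hHe (e i) (heH i)).choose_spec]
  have hφx : ∀ x (h : x ∉ H), φ₀ x = sPt (code x h) := fun x h => by simp only [φ₀, dif_neg h]
  have hcodeinj : ∀ {x y} (hx : x ∉ H) (hy : y ∉ H), code x hx = code y hy → x = y := by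
    intro x y hx hy he
    -- two secants through both points
    obtain ⟨i, k, hik⟩ : ∃ i k : Fin 6, ¬(k = i ∨ k = syn (code x hx) i) := by
      refine ⟨0, ?_⟩
      by_contra hcon
      push Not at hcon
      have hsub : (Finset.univ : Finset (Fin 6)) ⊆ {0, syn (code x hx) 0} := fun k _ => by
        simpa using hcon k
      have := (Finset.card_le_card hsub).trans Finset.card_le_two
      simp at this
    push Not at hik
    obtain ⟨h1, h1x⟩ := (hcode' x hx i _).mp rfl
    obtain ⟨-, h1y⟩ := (hcode' y hy i _).mp (he ▸ rfl : syn (code y hy) i = syn (code x hx) i)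
    obtain ⟨h2, h2x⟩ := (hcode' x hx k _).mp rfl
    obtain ⟨-, h2y⟩ := (hcode' y hy k _).mp (he ▸ rfl : syn (code y hy) k = syn (code x hx) k)
    refine hP.meet_eq (hP.join_spec (hne h1)).1 (hP.join_spec (hne h2)).1 (fun heq => ?_) h1x h2x h1y h2y
    exact indep_no_three hI (hP.join_spec (hne h1)).1 (heH i) (heH _) (heH k) (hne h1)
      (hne hik.1.symm) (hne hik.2.symm) (hP.join_spec (hne h1)).2.1 (hP.join_spec (hne h1)).2.2
      (heq ▸ (hP.join_spec (hne h2)).2.1)
  have hinj : Function.Injective φ₀ := by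
    intro x y hxy
    by_cases hx : x ∈ H <;> by_cases hy : y ∈ H
    · obtain ⟨i, rfl⟩ := hHe x hx
      obtain ⟨j, rfl⟩ := hHe y hy
      rw [hφe, hφe] at hxy
      exact congrArg e (Fin.ext (by simpa [hPt] using congrArg Fin.val hxy))
    · obtain ⟨i, rfl⟩ := hHe x hx
      rw [hφe, hφx y hy] at hxy
      have := congrArg Fin.val hxy
      simp only [hPt, sPt] at this
      omega
    · obtain ⟨j, rfl⟩ := hHe y hy
      rw [hφe, hφx x hx] at hxy
      have := congrArg Fin.val hxy
      simp only [hPt, sPt] at this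
      omega
    · rw [hφx x hx, hφx y hy] at hxy
      refine hcodeinj hx hy (Fin.ext ?_)
      have := congrArg Fin.val hxy
      simp only [sPt] at this
      omega
  let φ : α ≃ Fin 21 := Equiv.ofBijective φ₀
    ((Fintype.bijective_iff_injective_and_card φ₀).mpr ⟨hinj, by rw [hP.points, Fintype.card_fin]⟩)
  have hφ : ∀ x, φ x = φ₀ x := fun x => rfl
  refine ⟨φ, fun i => hφe i, ?_⟩
  have hline : ∀ l ∈ Lf, ∃ k, ∀ x ∈ l, memLine k (φ₀ x) = true := by
    intro l hl
    by_cases hlH : ∃ p ∈ H, p ∈ l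
    · obtain ⟨p, hpH, hpl⟩ := hlH
      obtain ⟨q, hqH, hqp, hql⟩ := hP.hyperoval_line hH6 hI hpH hl hpl
      obtain ⟨i, rfl⟩ := hHe p hpH
      obtain ⟨j, rfl⟩ := hHe q hqH
      have hij : i ≠ j := fun h => hqp (h ▸ rfl)
      obtain ⟨k, hki, hkj, hkt⟩ := secant_check i j hij
      refine ⟨k, fun x hxl => ?_⟩
      by_cases hx : x ∈ H
      · obtain ⟨m, rfl⟩ := hHe x hx
        rw [hφe]
        by_cases hmi : m = i
        · rw [hmi]; exact hki
        by_cases hmj : m = j
        · rw [hmj]; exact hkj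
        exact (indep_no_three hI hl hpH hqH hx (Ne.symm hqp) (hne (Ne.symm hmi)) (hne (Ne.symm hmj))
          hpl hql hxl).elim
      · rw [hφx x hx]
        exact hkt _ ((hcode' x hx i j).mpr ⟨hij, hP.join_eq (hne hij) hl hpl hql ▸ hxl⟩)
    · push Not at hlH
      have hout : ∀ x ∈ l, x ∉ H := fun x hxl hxH => hlH x hxH hxl
      have hcomp : ∀ x (hx : x ∈ l) y (hy : y ∈ l), x ≠ y →
          compat (code x (hout x hx)) (code y (hout y hy)) = true := by
        intro x hx y hy hxy
        simp only [compat, decide_eq_true_eq]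
        intro i he
        obtain ⟨h1, h1x⟩ := (hcode' x (hout x hx) i _).mp rfl
        obtain ⟨-, h1y⟩ := (hcode' y (hout y hy) i _).mp he.symm
        exact hlH (e i) (heH i) ((hP.lines_eq hxy hl (hP.join_spec (hne h1)).1 hx hy h1x h1y) ▸
          (hP.join_spec (hne h1)).2.1)
      obtain ⟨x, hx, y, hy, hxy⟩ := Finset.one_lt_card.mp
        (show 1 < l.card by rw [hP.line_card l hl]; norm_num)
      obtain ⟨k, hka, hkb, hkc⟩ := total_check _ _ (hcomp x hx y hy hxy)
      refine ⟨k, fun w hw => ?_⟩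
      rw [hφx w (hout w hw)]
      by_cases hwx : w = x
      · subst hwx; exact hka
      by_cases hwy : w = y
      · subst hwy; exact hkb
      obtain ⟨d, hd, hd'⟩ := Finset.exists_mem_notMem_of_card_lt_card
        (show ({x, y, w} : Finset α).card < l.card from
          Finset.card_le_three.trans_lt (by rw [hP.line_card l hl]; norm_num))
      simp only [Finset.mem_insert, Finset.mem_singleton, not_or] at hd'
      exact hkc _ (hcomp x hx w hw (Ne.symm hwx)) (hcomp y hy w hw (Ne.symm hwy)) _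
        (hcomp x hx d hd (Ne.symm hd'.1)) (hcomp y hy d hd (Ne.symm hd'.2.1))
        (hcomp w hw d hd (Ne.symm hd'.2.2))
  have hsub : Lf.image (fun l => l.image φ) ⊆ modelLines := by
    intro s hs
    obtain ⟨l, hl, rfl⟩ := Finset.mem_image.mp hs
    obtain ⟨k, hk⟩ := hline l hl
    refine Finset.mem_image.mpr ⟨k, Finset.mem_univ k, (Finset.eq_of_subset_of_card_le ?_ ?_).symm⟩
    · intro v hv
      obtain ⟨x, hx, rfl⟩ := Finset.mem_image.mp hv
      exact Finset.mem_filter.mpr ⟨Finset.mem_univ _, hk x hx⟩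
    · rw [line_card_check, Finset.card_image_of_injective _ φ.injective, hP.line_card l hl]
  refine Finset.eq_of_subset_of_card_le hsub (le_trans Finset.card_image_le ?_)
  rw [Finset.card_univ, Fintype.card_fin, Finset.card_image_of_injective _
    (Finset.image_injective φ.injective), hP.card_lines]

/-- An automorphism fixing a hyperoval pointwise is trivial. -/
theorem eq_self_of_fix_hyperoval {H : Finset α} (hH : H.card = 6) (hI : Indep Lf H) (g : α ≃ α)
    (hg : ∀ l ∈ Lf, l.image g ∈ Lf) (hfix : ∀ p ∈ H, g p = p) (x : α) : g x = x := by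
  by_cases hx : x ∈ H
  · exact hfix x hx
  obtain ⟨p, hp⟩ := Finset.card_pos.mp (show 0 < H.card by omega)
  have hpx : p ≠ x := fun h => hx (h ▸ hp)
  obtain ⟨q, hq, hqp, hql⟩ := hP.hyperoval_line hH hI hp (hP.join_spec hpx).1 (hP.join_spec hpx).2.1
  obtain ⟨r, hr, hrp⟩ := Finset.exists_mem_notMem_of_card_lt_card
    (show ({p, q} : Finset α).card < H.card from Finset.card_le_two.trans_lt (by omega))
  simp only [Finset.mem_insert, Finset.mem_singleton, not_or] at hrp
  have hrx : r ≠ x := fun h => hx (h ▸ hr)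
  obtain ⟨s, hs, hsr, hsl⟩ := hP.hyperoval_line hH hI hr (hP.join_spec hrx).1 (hP.join_spec hrx).2.1
  have key : ∀ {a b : α} {l : Finset α}, a ∈ H → b ∈ H → a ≠ b → l ∈ Lf → a ∈ l → b ∈ l →
      x ∈ l → g x ∈ l := by
    intro a b l ha hb hab hl hal hbl hxl
    have h1 : l.image g = l := hP.lines_eq hab (hg l hl) hl
      (Finset.mem_image.mpr ⟨a, hal, hfix a ha⟩) (Finset.mem_image.mpr ⟨b, hbl, hfix b hb⟩) hal hbl
    rw [← h1]; exact Finset.mem_image_of_mem g hxl
  refine hP.meet_eq (hP.join_spec hpx).1 (hP.join_spec hrx).1 (fun h => ?_)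
    (key hp hq hqp.symm (hP.join_spec hpx).1 (hP.join_spec hpx).2.1 hql (hP.join_spec hpx).2.2)
    (key hr hs hsr.symm (hP.join_spec hrx).1 (hP.join_spec hrx).2.1 hsl (hP.join_spec hrx).2.2)
    (hP.join_spec hpx).2.2 (hP.join_spec hrx).2.2
  exact indep_no_three hI (hP.join_spec hpx).1 hp hq hr hqp.symm (Ne.symm hrp.1) (Ne.symm hrp.2)
    (hP.join_spec hpx).2.1 hql (h ▸ (hP.join_spec hrx).2.1)

end IsPlane

end CfsgLib.Sporadic.PlaneFour
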