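import Mathlib

/-!
Groups generated by three involutions `d, d*a, d*b` with all the relevant products of order
dividing 3: they have order at most 54, and exactly 54 when `a` and `b` do not commute.
-/

set_option autoImplicit false

namespace CfsgLib.ThreeGen

variable {G : Type*} [Group G]

/-- The relations on `d, a, b`. -/
structure Rel (d a b : G) : Prop where
  dd : d * d = 1
  aaa : a * a * a = 1
  bbb : b * b * b = 1
  dad : d * a = a * a * d
  dbd : d * b = b * b * d
  abab : a * b * (a * b) * (a * b) = 1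
  aabaab : a * a * b * (a * a * b) * (a * a * b) = 1

/-- The conjugate of `b` by `a`. -/
def bc (a b : G) : G := a * b * a⁻¹

/-- The normal form. -/
def nf (d a b : G) (p : Fin 3 × Fin 3 × Fin 3 × Fin 2) : G :=
  b ^ p.1.val * bc a b ^ p.2.1.val * a ^ p.2.2.1.val * d ^ p.2.2.2.val

/-- Right multiplication by `d`. -/
def stepD (p : Fin 3 × Fin 3 × Fin 3 × Fin 2) : Fin 3 × Fin 3 × Fin 3 × Fin 2 :=
  (p.1, p.2.1, p.2.2.1, p.2.2.2 + 1)

/-- Right multiplication by `a`. -/
def stepA : Fin 3 × Fin 3 × Fin 3 × Fin 2 → Fin 3 × Fin 3 × Fin 3 × Fin 2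
  | (i, j, k, 0) => (i, j, k + 1, 0)
  | (i, j, k, 1) => (i, j, k + 2, 1)

/-- Right multiplication by `b`. -/
def stepB : Fin 3 × Fin 3 × Fin 3 × Fin 2 → Fin 3 × Fin 3 × Fin 3 × Fin 2
  | (i, j, 0, 0) => (i + 1, j, 0, 0)
  | (i, j, 1, 0) => (i, j + 1, 1, 0)
  | (i, j, 2, 0) => (i + 2, j + 2, 2, 0)
  | (i, j, 0, 1) => (i + 2, j, 0, 1)
  | (i, j, 1, 1) => (i, j + 2, 1, 1)
  | (i, j, 2, 1) => (i + 1, j + 1, 2, 1)

theorem pow_val_add {x : G} {n : ℕ} [NeZero n] (hx : x ^ n = 1) (i j : Fin n) :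
    x ^ (i + j).val = x ^ i.val * x ^ j.val := by
  rw [Fin.val_add, ← pow_eq_pow_mod _ hx, pow_add]

namespace Rel

variable {d a b : G} (h : Rel d a b)

include h

theorem a3 : a ^ 3 = 1 := by rw [pow_succ, pow_two]; exact h.aaa
theorem b3 : b ^ 3 = 1 := by rw [pow_succ, pow_two]; exact h.bbb
theorem d2 : d ^ 2 = 1 := by rw [pow_two]; exact h.dd

theorem a_inv : a⁻¹ = a * a := inv_eq_of_mul_eq_one_left h.aaa

theorem bc3 : bc a b ^ 3 = 1 := by
  rw [bc, conj_pow, h.b3, mul_one, mul_inv_cancel]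

theorem a_mul_b : a * b = bc a b * a := by simp [bc, mul_assoc]

theorem prod_one : bc a b * (a * a * b * (a * a)⁻¹) * b = 1 := by
  have := h.abab
  calc bc a b * (a * a * b * (a * a)⁻¹) * b
      = a * b * (a * b) * (a⁻¹ * a⁻¹ * b) := by simp [bc, mul_assoc]
    _ = a * b * (a * b) * (a * b) := by
        congr 2
        rw [← mul_inv_rev, inv_eq_of_mul_eq_one_right h.aaa]
    _ = 1 := h.abab

theorem prod_one' : a * a * b * (a * a)⁻¹ * bc a b * b = 1 := by
  calc a * a * b * (a * a)⁻¹ * bc a b * b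
      = a * a * b * (a⁻¹ * b) * (a⁻¹ * b) := by simp [bc, mul_assoc]
    _ = a * a * b * (a * a * b) * (a * a * b) := by rw [h.a_inv]
    _ = 1 := h.aabaab

theorem comm_b : b * bc a b = bc a b * b := by
  set x := bc a b
  set y := a * a * b * (a * a)⁻¹
  have h1 : x * y * b = 1 := h.prod_one
  have h2 : y * x * b = 1 := h.prod_one'
  have e1 : y = x⁻¹ * b⁻¹ := by
    rw [eq_inv_mul_iff_mul_eq, eq_inv_iff_mul_eq_one]; exact h1
  rw [e1] at h2
  have h3 : x⁻¹ * b⁻¹ * x * b = 1 := h2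
  calc b * x = b * x * (x⁻¹ * b⁻¹ * x * b) := by rw [h3, mul_one]
    _ = x * b := by group

theorem aab : a * a * b = b ^ 2 * bc a b ^ 2 * (a * a) := by
  have h1 := h.prod_one
  have hc := h.comm_b
  have e1 : a * a * b * (a * a)⁻¹ = (bc a b)⁻¹ * b⁻¹ := by
    rw [eq_inv_mul_iff_mul_eq, eq_inv_iff_mul_eq_one]; exact h1
  have hc' : Commute b (bc a b) := hc
  have hinv : (b * bc a b)⁻¹ = b ^ 2 * bc a b ^ 2 := by
    refine inv_eq_of_mul_eq_one_right ?_
    calc b * bc a b * (b ^ 2 * bc a b ^ 2) = b * (bc a b * b ^ 2) * bc a b ^ 2 := by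
          simp [mul_assoc]
      _ = b * (b ^ 2 * bc a b) * bc a b ^ 2 := by rw [((hc'.symm).pow_right 2).eq]
      _ = b ^ 3 * bc a b ^ 3 := by simp [pow_succ, mul_assoc]
      _ = 1 := by rw [h.b3, h.bc3, one_mul]
  rw [← hinv, mul_inv_rev, ← e1, inv_mul_cancel_right]

theorem nf_d (p : Fin 3 × Fin 3 × Fin 3 × Fin 2) : nf d a b p * d = nf d a b (stepD p) := by
  obtain ⟨i, j, k, l⟩ := p
  simp only [nf, stepD, pow_val_add h.d2]
  simp [mul_assoc]

theorem nf_a (p : Fin 3 × Fin 3 × Fin 3 × Fin 2) : nf d a b p * a = nf d a b (stepA p) := by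
  obtain ⟨i, j, k, l⟩ := p
  fin_cases l
  · simp [nf, stepA, pow_val_add h.a3, mul_assoc]
  · simp [nf, stepA, pow_val_add h.a3, mul_assoc, pow_two, h.dad]

theorem db : d * b = b ^ 2 * d := by rw [pow_two]; exact h.dbd

theorem nf_b (p : Fin 3 × Fin 3 × Fin 3 × Fin 2) : nf d a b p * b = nf d a b (stepB p) := by
  obtain ⟨i, j, k, l⟩ := p
  have hc : Commute b (bc a b) := h.comm_b
  have hj : Commute (bc a b ^ j.val) b := (hc.symm).pow_left _
  have v1 : ∀ i : Fin 3, b ^ (i + 1).val = b ^ i.val * b := fun i => by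
    simp [pow_val_add h.b3]
  have v2 : ∀ i : Fin 3, b ^ (i + 2).val = b ^ i.val * b ^ 2 := fun i => by
    rw [pow_val_add h.b3]; rfl
  have w1 : ∀ i : Fin 3, bc a b ^ (i + 1).val = bc a b ^ i.val * bc a b := fun i => by
    simp [pow_val_add h.bc3]
  have w2 : ∀ i : Fin 3, bc a b ^ (i + 2).val = bc a b ^ i.val * bc a b ^ 2 := fun i => by
    rw [pow_val_add h.bc3]; rfl
  have c1 := hj.eq
  have c2 := (hj.pow_right 2).eq
  have c1' : ∀ z, bc a b ^ j.val * (b * z) = b * (bc a b ^ j.val * z) := fun z => by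
    rw [← mul_assoc, c1, mul_assoc]
  have c2' : ∀ z, bc a b ^ j.val * (b ^ 2 * z) = b ^ 2 * (bc a b ^ j.val * z) := fun z => by
    rw [← mul_assoc, c2, mul_assoc]
  fin_cases l <;> fin_cases k
  · simp [nf, stepB, v1, mul_assoc, c1]
  · simp [nf, stepB, w1, mul_assoc, h.a_mul_b]
  · show b ^ i.val * bc a b ^ j.val * a ^ 2 * d ^ 0 * b =
      b ^ (i + 2).val * bc a b ^ (j + 2).val * a ^ 2 * d ^ 0
    rw [v2, w2, pow_zero, mul_one, mul_one, pow_two a, mul_assoc _ (a * a) b, h.aab]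
    simp [mul_assoc, c2']
  · show b ^ i.val * bc a b ^ j.val * a ^ 0 * d ^ 1 * b =
      b ^ (i + 2).val * bc a b ^ j.val * a ^ 0 * d ^ 1
    rw [v2, pow_zero, mul_one, mul_one, pow_one, mul_assoc _ d b, h.db]
    simp [mul_assoc, c2']
  · show b ^ i.val * bc a b ^ j.val * a ^ 1 * d ^ 1 * b =
      b ^ i.val * bc a b ^ (j + 2).val * a ^ 1 * d ^ 1
    have : a * b ^ 2 = bc a b ^ 2 * a := by
      simp [pow_two, bc, mul_assoc]
    rw [w2, pow_one, pow_one, mul_assoc _ d b, h.db, ← mul_assoc, mul_assoc _ a (b ^ 2), this]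
    simp [mul_assoc]
  · show b ^ i.val * bc a b ^ j.val * a ^ 2 * d ^ 1 * b =
      b ^ (i + 1).val * bc a b ^ (j + 1).val * a ^ 2 * d ^ 1
    have : a * a * b ^ 2 = b * bc a b * (a * a) := by
      have hcc : Commute (b ^ 2) (bc a b ^ 2) := hc.pow_pow 2 2
      calc a * a * b ^ 2 = (a * a * b) * (a * a)⁻¹ * (a * a * b) := by simp [pow_two, mul_assoc]
        _ = (b ^ 2 * bc a b ^ 2) * (b ^ 2 * bc a b ^ 2) * (a * a) := by
            rw [h.aab]; simp [mul_assoc]
        _ = b ^ 4 * bc a b ^ 4 * (a * a) := by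
            rw [← pow_two (b ^ 2 * bc a b ^ 2), hcc.mul_pow, ← pow_mul, ← pow_mul]
        _ = b * bc a b * (a * a) := by
            rw [pow_succ b 3, pow_succ (bc a b) 3, h.b3, h.bc3, one_mul, one_mul]
    rw [v1, w1, pow_one, pow_two a, mul_assoc _ d b, h.db, ← mul_assoc,
      mul_assoc _ (a * a) (b ^ 2), this]
    simp [mul_assoc, c1']

theorem range_closed : ∀ g ∈ Subgroup.closure ({d, a, b} : Set G), g ∈ Set.range (nf d a b) := by
  intro g hg
  have key : ∀ x ∈ Set.range (nf d a b), x * d ∈ Set.range (nf d a b) ∧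
      x * a ∈ Set.range (nf d a b) ∧ x * b ∈ Set.range (nf d a b) := by
    rintro _ ⟨p, rfl⟩
    exact ⟨⟨_, (h.nf_d p).symm⟩, ⟨_, (h.nf_a p).symm⟩, ⟨_, (h.nf_b p).symm⟩⟩
  induction hg using Subgroup.closure_induction_right with
  | one => exact ⟨(0, 0, 0, 0), by simp [nf]⟩
  | mul_right x _ y hy hx =>
    rcases hy with rfl | rfl | rfl
    exacts [(key x hx).1, (key x hx).2.1, (key x hx).2.2]
  | mul_inv_cancel x _ y hy hx =>
    rcases hy with rfl | rfl | rfl
    · rw [inv_eq_of_mul_eq_one_left h.dd]; exact (key x hx).1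
    · rw [h.a_inv, ← mul_assoc]; exact (key _ (key x hx).2.1).2.1
    · rw [inv_eq_of_mul_eq_one_left h.bbb, ← mul_assoc]; exact (key _ (key x hx).2.2).2.2

theorem nf_mem (p : Fin 3 × Fin 3 × Fin 3 × Fin 2) :
    nf d a b p ∈ Subgroup.closure ({d, a, b} : Set G) := by
  have md : d ∈ Subgroup.closure ({d, a, b} : Set G) := Subgroup.subset_closure (by simp)
  have ma : a ∈ Subgroup.closure ({d, a, b} : Set G) := Subgroup.subset_closure (by simp)
  have mb : b ∈ Subgroup.closure ({d, a, b} : Set G) := Subgroup.subset_closure (by simp)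
  exact mul_mem (mul_mem (mul_mem (pow_mem mb _) (pow_mem (mul_mem (mul_mem ma mb) (inv_mem ma)) _))
    (pow_mem ma _)) (pow_mem md _)

theorem card_le : Nat.card (Subgroup.closure ({d, a, b} : Set G)) ≤ 54 := by
  have := Nat.card_le_card_of_surjective
    (fun p => (⟨nf d a b p, h.nf_mem p⟩ : Subgroup.closure ({d, a, b} : Set G)))
    (fun g => by
      obtain ⟨p, hp⟩ := h.range_closed g g.2
      exact ⟨p, Subtype.ext hp⟩)
  simpa using this

theorem finite_closure : Finite (Subgroup.closure ({d, a, b} : Set G)) :=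
  Finite.of_surjective
    (fun p => (⟨nf d a b p, h.nf_mem p⟩ : Subgroup.closure ({d, a, b} : Set G)))
    (fun g => by
      obtain ⟨p, hp⟩ := h.range_closed g g.2
      exact ⟨p, Subtype.ext hp⟩)

theorem isPGroup_ab : IsPGroup 3 (Subgroup.closure ({a, b} : Set G)) := by
  have hz : ∀ x : G, x ^ 3 = 1 → IsPGroup 3 (Subgroup.zpowers x) := fun x hx y => by
    obtain ⟨n, hn⟩ := Subgroup.mem_zpowers_iff.1 y.2
    refine ⟨1, Subtype.ext ?_⟩
    push_cast
    rw [← hn, ← zpow_natCast, ← zpow_mul, mul_comm, zpow_mul, zpow_natCast, hx, one_zpow]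
  have hN : IsPGroup 3 ↥(Subgroup.zpowers b ⊔ Subgroup.zpowers (bc a b)) := by
    refine (hz _ h.b3).to_sup_of_normal_right' (hz _ h.bc3) ?_
    intro x hx
    obtain ⟨n, rfl⟩ := Subgroup.mem_zpowers_iff.1 hx
    rw [Subgroup.mem_normalizer_iff]
    intro y
    constructor <;> intro hy
    · obtain ⟨m, rfl⟩ := Subgroup.mem_zpowers_iff.1 hy
      have hcm : Commute b (bc a b) := h.comm_b
      rw [((hcm.zpow_zpow n m)).eq, mul_inv_cancel_right]
      exact Subgroup.zpow_mem _ (Subgroup.mem_zpowers _) _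
    · obtain ⟨m, hm⟩ := Subgroup.mem_zpowers_iff.1 hy
      have hcm : Commute (b ^ n) (bc a b ^ m) := Commute.zpow_zpow h.comm_b n m
      have : y = bc a b ^ m := by
        have h1 : b ^ n * y * (b ^ n)⁻¹ = b ^ n * bc a b ^ m * (b ^ n)⁻¹ := by
          rw [hcm.eq, mul_inv_cancel_right, hm]
        exact mul_left_cancel (mul_right_cancel h1)
      rw [this]
      exact Subgroup.zpow_mem _ (Subgroup.mem_zpowers _) _
  set N := Subgroup.zpowers b ⊔ Subgroup.zpowers (bc a b) with hNdef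
  have mb : b ∈ N := Subgroup.mem_sup_left (Subgroup.mem_zpowers _)
  have mc : bc a b ∈ N := Subgroup.mem_sup_right (Subgroup.mem_zpowers _)
  have hconj : N.map (MulAut.conj a).toMonoidHom ≤ N := by
    rw [hNdef, Subgroup.map_sup, sup_le_iff, MonoidHom.map_zpowers, MonoidHom.map_zpowers,
      Subgroup.zpowers_le, Subgroup.zpowers_le, ← hNdef]
    refine ⟨by simpa [bc] using mc, ?_⟩
    have : a * bc a b * a⁻¹ = b ^ 2 * bc a b ^ 2 := by
      have := congrArg (· * (a * a)⁻¹) h.aab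
      simpa [bc, mul_assoc] using this
    simpa [this] using mul_mem (pow_mem mb 2) (pow_mem mc 2)
  have hnorm : Subgroup.zpowers a ≤ Subgroup.normalizer (N : Set G) := by
    rw [Subgroup.zpowers_le, Subgroup.mem_normalizer_iff]
    have f1 : ∀ y ∈ N, a * y * a⁻¹ ∈ N := fun y hy => by
      simpa using hconj (Subgroup.mem_map_of_mem _ hy)
    intro y
    refine ⟨f1 y, fun hy => ?_⟩
    have h3 : a * (a * (a * y * a⁻¹) * a⁻¹) * a⁻¹ = a * a * a * y * (a * a * a)⁻¹ := by
      group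
    have := f1 _ (f1 _ hy)
    rw [h3, h.aaa, one_mul, inv_one, mul_one] at this
    exact this
  refine ((hz _ h.a3).to_sup_of_normal_right' hN hnorm).to_le ?_
  rw [Subgroup.closure_le]
  rintro x (rfl | rfl)
  exacts [Subgroup.mem_sup_left (Subgroup.mem_zpowers _), Subgroup.mem_sup_right mb]

theorem card_eq (hd : d ≠ 1) (hab : a * b ≠ b * a) :
    Nat.card (Subgroup.closure ({d, a, b} : Set G)) = 54 := by
  have := h.finite_closure
  have : Fact (Nat.Prime 3) := ⟨Nat.prime_three⟩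
  refine le_antisymm h.card_le ?_
  set K := Subgroup.closure ({d, a, b} : Set G) with hK
  set P := Subgroup.closure ({a, b} : Set G) with hP
  have hPK : P ≤ K := Subgroup.closure_mono (by simp [Set.subset_def])
  haveI : Finite P := Finite.of_injective _ (Subgroup.inclusion_injective hPK)
  obtain ⟨n, hn⟩ := h.isPGroup_ab.exists_card_eq
  rw [← hP] at hn
  have hn3 : 3 ≤ n := by
    by_contra hlt
    push Not at hlt
    have ma : a ∈ P := Subgroup.subset_closure (by simp)
    have mb : b ∈ P := Subgroup.subset_closure (by simp)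
    refine hab (congrArg Subtype.val (?_ : (⟨a, ma⟩ : P) * ⟨b, mb⟩ = ⟨b, mb⟩ * ⟨a, ma⟩))
    interval_cases n
    · haveI : Subsingleton P := (Nat.card_eq_one_iff_unique.1 (by simpa using hn)).1
      exact Subsingleton.elim _ _
    · haveI := isCyclic_of_prime_card (α := P) (p := 3) (by simpa using hn)
      exact IsMulCommutative.is_comm.comm _ _
    · exact IsPGroup.commutative_of_card_eq_prime_sq (p := 3) hn _ _
  have hne : P ≠ K := by
    intro he
    have hdP : d ∈ P := he ▸ Subgroup.subset_closure (by simp)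
    obtain ⟨m, hm⟩ := h.isPGroup_ab ⟨d, hdP⟩
    have hm' : d ^ 3 ^ m = 1 := by simpa using congrArg Subtype.val hm
    have hodd : Odd (3 ^ m) := Odd.pow (by decide)
    obtain ⟨r, hr⟩ := hodd
    rw [hr, pow_succ, pow_mul, h.d2, one_pow, one_mul] at hm'
    exact hd hm'
  have hdvd : Nat.card P ∣ Nat.card K := Subgroup.card_dvd_of_le hPK
  obtain ⟨c, hc⟩ := hdvd
  have hc1 : c ≠ 1 := fun hc1 => hne (Subgroup.eq_of_le_of_card_ge hPK (by rw [hc, hc1, mul_one]))
  have hc0 : c ≠ 0 := fun hc0 => by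
    have := Nat.card_pos (α := K)
    rw [hc, hc0] at this
    omega
  rw [hc, hn]
  calc 54 = 3 ^ 3 * 2 := by norm_num
    _ ≤ 3 ^ n * c := Nat.mul_le_mul (Nat.pow_le_pow_right (by norm_num) hn3) (by omega)

end Rel

/-- The bijection given by the normal form. -/
noncomputable def nfEquiv {d a b : G} (h : Rel d a b) (hg : Subgroup.closure ({d, a, b} : Set G) = ⊤)
    (hc : Nat.card G = 54) : (Fin 3 × Fin 3 × Fin 3 × Fin 2) ≃ G :=
  haveI : Finite G := Nat.finite_of_card_ne_zero (by omega)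
  Equiv.ofBijective (nf d a b)
    ((Nat.bijective_iff_surjective_and_card _).2
      ⟨fun g => h.range_closed g (hg ▸ Subgroup.mem_top g), by simp [hc]⟩)

theorem nfEquiv_apply {d a b : G} (h : Rel d a b) (hg : Subgroup.closure ({d, a, b} : Set G) = ⊤)
    (hc : Nat.card G = 54) (p) : nfEquiv h hg hc p = nf d a b p := rfl

theorem nonempty_mulEquiv {H : Type*} [Group H] {d a b : G} {d' a' b' : H}
    (h : Rel d a b) (hg : Subgroup.closure ({d, a, b} : Set G) = ⊤) (hc : Nat.card G = 54)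
    (h' : Rel d' a' b') (hg' : Subgroup.closure ({d', a', b'} : Set H) = ⊤)
    (hc' : Nat.card H = 54) : Nonempty (G ≃* H) := by
  set e := (nfEquiv h hg hc).symm.trans (nfEquiv h' hg' hc') with he
  have enf : ∀ p, e (nf d a b p) = nf d' a' b' p := fun p => by
    show nfEquiv h' hg' hc' ((nfEquiv h hg hc).symm (nf d a b p)) = _
    rw [← nfEquiv_apply h hg hc p, Equiv.symm_apply_apply, nfEquiv_apply]
  have hd : ∀ x, e (x * d) = e x * d' := fun x => by
    obtain ⟨p, rfl⟩ := (nfEquiv h hg hc).surjective x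
    rw [nfEquiv_apply, h.nf_d, enf, enf, h'.nf_d]
  have ha : ∀ x, e (x * a) = e x * a' := fun x => by
    obtain ⟨p, rfl⟩ := (nfEquiv h hg hc).surjective x
    rw [nfEquiv_apply, h.nf_a, enf, enf, h'.nf_a]
  have hb : ∀ x, e (x * b) = e x * b' := fun x => by
    obtain ⟨p, rfl⟩ := (nfEquiv h hg hc).surjective x
    rw [nfEquiv_apply, h.nf_b, enf, enf, h'.nf_b]
  have e1 : e 1 = 1 := by
    have h1 : nf d a b (0, 0, 0, 0) = 1 := by simp [nf]
    rw [← h1, enf]; simp [nf]
  have hm : ∀ y ∈ Subgroup.closure ({d, a, b} : Set G), ∀ x, e (x * y) = e x * e y := by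
    intro y hy
    induction hy using Subgroup.closure_induction with
    | mem y hy =>
      intro x
      rcases hy with rfl | rfl | rfl
      · rw [hd, show e y = d' by simpa [e1] using hd 1]
      · rw [ha, show e y = a' by simpa [e1] using ha 1]
      · rw [hb, show e y = b' by simpa [e1] using hb 1]
    | one => simp [e1]
    | mul y z _ _ hy hz => intro x; rw [← mul_assoc, hz, hy, hz, mul_assoc]
    | inv y _ hy =>
      intro x
      have h1 := hy (x * y⁻¹)
      rw [inv_mul_cancel_right] at h1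
      have h2 := hy y⁻¹
      rw [inv_mul_cancel, e1] at h2
      rw [eq_inv_of_mul_eq_one_left h2.symm, eq_mul_inv_iff_mul_eq, ← h1]
  exact ⟨{ e with map_mul' := fun x y => hm y (hg ▸ Subgroup.mem_top y) x }⟩

/-- The relations from three involutions. -/
theorem rel_of_involutions {d e f : G} (hd : d * d = 1) (he : e * e = 1) (hf : f * f = 1)
    (hde : (d * e) ^ 3 = 1) (hdf : (d * f) ^ 3 = 1) (hef : (e * f) ^ 3 = 1)
    (hq : (d * e * (d * f)) ^ 3 = 1) : Rel d (d * e) (d * f) := by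
  have p3 : ∀ x : G, x ^ 3 = x * x * x := fun x => by rw [pow_succ, pow_two]
  have ie : d * e * (d * e) = e * d := by
    have hinv : (d * e)⁻¹ = e * d := by
      rw [mul_inv_rev, inv_eq_of_mul_eq_one_left hd, inv_eq_of_mul_eq_one_left he]
    rw [← hinv, eq_inv_iff_mul_eq_one, ← p3]; exact hde
  have i_f : d * f * (d * f) = f * d := by
    have hinv : (d * f)⁻¹ = f * d := by
      rw [mul_inv_rev, inv_eq_of_mul_eq_one_left hd, inv_eq_of_mul_eq_one_left hf]
    rw [← hinv, eq_inv_iff_mul_eq_one, ← p3]; exact hdf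
  refine ⟨hd, (p3 _).symm.trans hde, (p3 _).symm.trans hdf, ?_, ?_, (p3 _).symm.trans hq, ?_⟩
  · rw [ie, mul_assoc e d d, hd, mul_one, ← mul_assoc, hd, one_mul]
  · rw [i_f, mul_assoc f d d, hd, mul_one, ← mul_assoc, hd, one_mul]
  · have : d * e * (d * e) * (d * f) = e * f := by
      rw [ie, mul_assoc e d, ← mul_assoc d d f, hd, one_mul]
    rw [this, ← p3]; exact hef

end CfsgLib.ThreeGen
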