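import Mathlib
import Cfsg.Prelude.Def_Classical
import Cfsg.Agent.Lib.SylowU3.Model
import Cfsg.Agent.Lib.Classical.Herm.Apps
import Cfsg.Agent.Lib.Sporadic.ThreeGen

/-!
The derived group of `SU₃(2)`: order 54, generated by three monomial involutions.
-/

set_option autoImplicit false

open Matrix CfsgLib.SylowU3

namespace CfsgLib.SUThreeTwo

open scoped commutatorElement

variable {F : Type*} [Field F] [Fintype F]

theorem two_eq_zero (hF : Fintype.card F = 4) : (2 : F) = 0 := by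
  have h := Nat.cast_card_eq_zero F
  rw [hF] at h
  have : (2 : F) * 2 = 0 := by rw [← h]; norm_num
  rcases mul_eq_zero.1 this with h | h <;> exact h

theorem exists_omega (hF : Fintype.card F = 4) : ∃ w : F, w * w + w + 1 = 0 ∧ w ≠ 1 ∧ w ≠ 0 := by
  classical
  obtain ⟨w, hw⟩ : ∃ w : F, w ∉ ({0, 1} : Finset F) := by
    by_contra hc
    push Not at hc
    have := Finset.card_le_card (show (Finset.univ : Finset F) ⊆ {0, 1} from fun x _ => hc x)
    have h2 := (Finset.card_le_two (a := (0 : F)) (b := 1))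
    rw [Finset.card_univ, hF] at this
    omega
  simp only [Finset.mem_insert, Finset.mem_singleton, not_or] at hw
  refine ⟨w, ?_, hw.2, hw.1⟩
  have h3 : w ^ 3 = 1 := by
    have := FiniteField.pow_card_sub_one_eq_one w hw.1
    rwa [hF] at this
  have : (w - 1) * (w * w + w + 1) = 0 := by linear_combination h3
  rcases mul_eq_zero.1 this with h | h
  · exact absurd (sub_eq_zero.1 h) hw.2
  · exact h

/-- Squaring, as a ring endomorphism. -/
def sq (h2 : (2 : F) = 0) : F →+* F where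
  toFun x := x ^ 2
  map_one' := one_pow _
  map_mul' x y := mul_pow x y 2
  map_zero' := zero_pow (by norm_num)
  map_add' x y := by linear_combination (x * y) * h2

theorem mem_SU_of (h2 : (2 : F) = 0) (g : SpecialLinearGroup (Fin 3) F)
    (h : (g : Matrix (Fin 3) (Fin 3) F)ᵀ * (g : Matrix (Fin 3) (Fin 3) F).map (sq h2) = 1) :
    g ∈ Cfsg.SU 3 F 2 :=
  (mem_SU3_iff (sq h2) 2 (fun _ => rfl) g).2 h

theorem ext3 {A B : Cfsg.SU 3 F 2}
    (h : (A.1 : Matrix (Fin 3) (Fin 3) F) = (B.1 : Matrix (Fin 3) (Fin 3) F)) : A = B :=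
  Subtype.ext (Subtype.ext h)

theorem coe_mulSU (A B : Cfsg.SU 3 F 2) : ((A * B).1 : Matrix (Fin 3) (Fin 3) F) =
    (A.1 : Matrix (Fin 3) (Fin 3) F) * (B.1 : Matrix (Fin 3) (Fin 3) F) := rfl

theorem coe_oneSU : ((1 : Cfsg.SU 3 F 2).1 : Matrix (Fin 3) (Fin 3) F) = 1 := rfl

theorem card_su (hF : Fintype.card F = 4) : Nat.card (Cfsg.SU 3 F 2) = 216 := by
  have hF' : Fintype.card F = 2 ^ 2 := by simpa using hF
  have h := CfsgLib.Classical.Herm.card_unit_eq_mul_su (q := 2) hF' (n := 3) (by norm_num)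
  rw [CfsgLib.Classical.Herm.card_unit hF' 3] at h
  simp [Finset.prod_range_succ, Nat.even_iff] at h
  omega

theorem mul3 {R : Type*} [CommSemiring R]
    (a00 a01 a02 a10 a11 a12 a20 a21 a22 b00 b01 b02 b10 b11 b12 b20 b21 b22 : R) :
    !![a00, a01, a02; a10, a11, a12; a20, a21, a22] *
      !![b00, b01, b02; b10, b11, b12; b20, b21, b22] =
    !![a00 * b00 + a01 * b10 + a02 * b20, a00 * b01 + a01 * b11 + a02 * b21,
        a00 * b02 + a01 * b12 + a02 * b22;
       a10 * b00 + a11 * b10 + a12 * b20, a10 * b01 + a11 * b11 + a12 * b21,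
        a10 * b02 + a11 * b12 + a12 * b22;
       a20 * b00 + a21 * b10 + a22 * b20, a20 * b01 + a21 * b11 + a22 * b21,
        a20 * b02 + a21 * b12 + a22 * b22] := by
  ext i j
  fin_cases i <;> fin_cases j <;> simp [Matrix.mul_apply, Fin.sum_univ_three]

section Mat

variable (F)

/-- The first involution. -/
def dM : Matrix (Fin 3) (Fin 3) F := !![0, 1, 0; 1, 0, 0; 0, 0, 1]
/-- The second involution. -/
def eM : Matrix (Fin 3) (Fin 3) F := !![0, 0, 1; 0, 1, 0; 1, 0, 0]
/-- The product of the first two involutions. -/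
def aM : Matrix (Fin 3) (Fin 3) F := !![0, 1, 0; 0, 0, 1; 1, 0, 0]

variable {F}

/-- The third involution. -/
def fM (w : F) : Matrix (Fin 3) (Fin 3) F := !![0, w, 0; w * w, 0, 0; 0, 0, 1]
/-- The product of the first and third involutions. -/
def bM (w : F) : Matrix (Fin 3) (Fin 3) F := !![w * w, 0, 0; 0, w, 0; 0, 0, 1]
/-- An element of order four. -/
def hM (w : F) : Matrix (Fin 3) (Fin 3) F := !![1, 1, 1; 1, w, w * w; 1, w * w, w]
/-- A second element of order four. -/
def kM (w : F) : Matrix (Fin 3) (Fin 3) F :=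
  !![1, w * w, w * w; w, w, w * w; w, w * w, w]

variable {w : F} (h2 : (2 : F) = 0) (hw : w * w + w + 1 = 0)

omit [Fintype F]

theorem d_mul_e : dM F * eM F = aM F := by
  simp only [dM, eM, aM, mul3]; simp

theorem d_mul_f : dM F * fM w = bM w := by
  simp only [dM, fM, bM, mul3]; simp

theorem d_sq : dM F * dM F = 1 := by
  rw [Matrix.one_fin_three]; simp only [dM, mul3]; simp

theorem e_sq : eM F * eM F = 1 := by
  rw [Matrix.one_fin_three]; simp only [eM, mul3]; simp

include h2 hw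

theorem f_sq : fM w * fM w = 1 := by
  rw [Matrix.one_fin_three]; simp only [fM, mul3]; simp; grind

theorem a_cube : aM F * aM F * aM F = 1 := by
  rw [Matrix.one_fin_three]; simp only [aM, mul3]; simp

theorem b_cube : bM w * bM w * bM w = 1 := by
  rw [Matrix.one_fin_three]; simp only [bM, mul3]; simp; grind

theorem ef_cube : eM F * fM w * (eM F * fM w) * (eM F * fM w) = 1 := by
  rw [Matrix.one_fin_three]; simp only [eM, fM, mul3]; simp; grind

theorem ab_cube : aM F * bM w * (aM F * bM w) * (aM F * bM w) = 1 := by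
  rw [Matrix.one_fin_three]; simp only [aM, bM, mul3]; simp; grind

theorem h_four : hM w * hM w * (hM w * hM w) = 1 := by
  rw [Matrix.one_fin_three]; simp only [hM, mul3]; simp; grind

theorem h_mul_a : hM w * aM F = aM F * aM F * bM w * aM F * hM w := by
  simp only [aM, bM, hM, mul3]; simp; grind

theorem h_mul_b : hM w * bM w = aM F * bM w * bM w * aM F * bM w * hM w := by
  simp only [aM, bM, hM, mul3]; simp; grind

theorem h_mul_k : hM w * kM w = aM F * dM F * kM w * hM w := by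
  simp only [aM, dM, kM, hM, mul3]; simp; grind

end Mat

/-- The facts about `SU₃(2)` that pin down its derived group. -/
theorem exists_gens (hF : Fintype.card F = 4) : ∃ d e f H K : Cfsg.SU 3 F 2,
    d * d = 1 ∧ e * e = 1 ∧ f * f = 1 ∧ d ≠ 1 ∧
    (d * e) ^ 3 = 1 ∧ (d * f) ^ 3 = 1 ∧ (e * f) ^ 3 = 1 ∧ (d * e * (d * f)) ^ 3 = 1 ∧
    d * e * (d * f) ≠ d * f * (d * e) ∧
    H * H ≠ 1 ∧ H * H * (H * H) = 1 ∧
    H * (d * e) = d * e * (d * e) * (d * f) * (d * e) * H ∧
    H * (d * f) = d * e * (d * f) * (d * f) * (d * e) * (d * f) * H ∧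
    H * K * (H⁻¹ * K⁻¹) * d = d * e := by
  have h2 := two_eq_zero hF
  obtain ⟨w, hw, hw1, hw0⟩ := exists_omega hF
  have hmk : ∀ M ∈ [dM F, eM F, fM w, hM w, kM w],
      ∃ g : Cfsg.SU 3 F 2, (g.1 : Matrix (Fin 3) (Fin 3) F) = M := by
    intro M hM'
    have hdet : M.det = 1 := by
      fin_cases hM' <;> · simp [dM, eM, fM, hM, kM, Matrix.det_fin_three]; grind
    refine ⟨⟨⟨M, hdet⟩, mem_SU_of h2 _ ?_⟩, rfl⟩
    show Mᵀ * M.map (sq h2) = 1
    clear hdet
    fin_cases hM' <;>
    · ext i j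
      fin_cases i <;> fin_cases j <;>
        simp [dM, eM, fM, hM, kM, sq, Matrix.mul_apply, Fin.sum_univ_three] <;> grind
  obtain ⟨d, hd⟩ := hmk (dM F) (by simp)
  obtain ⟨e, he⟩ := hmk (eM F) (by simp)
  obtain ⟨f, hf⟩ := hmk (fM w) (by simp)
  obtain ⟨H, hH⟩ := hmk (hM w) (by simp)
  obtain ⟨K, hK⟩ := hmk (kM w) (by simp)
  clear hmk
  have p3 : ∀ x : Cfsg.SU 3 F 2, x ^ 3 = x * x * x := fun x => by rw [pow_succ, pow_two]
  have ha : ((d * e).1 : Matrix (Fin 3) (Fin 3) F) = aM F := by rw [coe_mulSU, hd, he, d_mul_e]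
  have hb : ((d * f).1 : Matrix (Fin 3) (Fin 3) F) = bM w := by rw [coe_mulSU, hd, hf, d_mul_f]
  have dd : d * d = 1 := ext3 (by rw [coe_mulSU, hd, d_sq, coe_oneSU])
  refine ⟨d, e, f, H, K, dd, ext3 ?_, ext3 ?_, ?_, ?_, ?_, ?_, ?_, ?_, ?_, ext3 ?_, ext3 ?_,
    ext3 ?_, ?_⟩
  · rw [coe_mulSU, he, e_sq, coe_oneSU]
  · rw [coe_mulSU, hf, f_sq h2 hw, coe_oneSU]
  · intro h
    have := congrArg (fun g : Cfsg.SU 3 F 2 => (g.1 : Matrix (Fin 3) (Fin 3) F) 0 0) h
    simp [hd, dM] at this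
  · rw [p3]; refine ext3 ?_
    rw [coe_mulSU, coe_mulSU, ha, a_cube h2 hw, coe_oneSU]
  · rw [p3]; refine ext3 ?_
    rw [coe_mulSU (d * f * (d * f)), coe_mulSU (d * f), hb, b_cube h2 hw, coe_oneSU]
  · rw [p3]; refine ext3 ?_
    simp only [coe_mulSU, he, hf, coe_oneSU]; exact ef_cube h2 hw
  · rw [p3]; refine ext3 ?_
    rw [coe_mulSU (d * e * (d * f) * (d * e * (d * f))), coe_mulSU (d * e * (d * f)),
      coe_mulSU (d * e), ha, hb, ab_cube h2 hw, coe_oneSU]
  · intro h
    have hm := congrArg (fun g : Cfsg.SU 3 F 2 => (g.1 : Matrix (Fin 3) (Fin 3) F) 0 1) h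
    simp only [coe_mulSU (d * e), coe_mulSU (d * f), ha, hb, aM, bM, mul3] at hm
    simp at hm
    grind
  · intro h
    have hm := congrArg (fun g : Cfsg.SU 3 F 2 => (g.1 : Matrix (Fin 3) (Fin 3) F) 1 2) h
    simp only [coe_mulSU, coe_oneSU, hH, hM, mul3] at hm
    simp at hm
    grind
  · simp only [coe_mulSU, coe_oneSU, hH]; exact h_four h2 hw
  · generalize ea : d * e = x at ha ⊢
    generalize eb : d * f = y at hb ⊢
    simp only [coe_mulSU, hH, ha, hb]; exact h_mul_a h2 hw
  · generalize ea : d * e = x at ha ⊢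
    generalize eb : d * f = y at hb ⊢
    simp only [coe_mulSU, hH, ha, hb]; exact h_mul_b h2 hw
  · have hswap : H * K = d * e * d * K * H := by
      refine ext3 ?_
      rw [coe_mulSU, coe_mulSU (d * e * d * K), coe_mulSU (d * e * d), coe_mulSU (d * e), ha, hd,
        hH, hK, h_mul_k h2 hw]
    rw [hswap]
    calc d * e * d * K * H * (H⁻¹ * K⁻¹) * d = d * e * (d * d) := by group
      _ = d * e := by rw [dd, mul_one]

/-- The derived group of `SU₃(2)` has order 54 and is a `ThreeGen` group. -/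
theorem exists_commutator_gens (hF : Fintype.card F = 4) :
    ∃ d a b : ↥(commutator ↥(Cfsg.SU 3 F 2)), ThreeGen.Rel d a b ∧ d ≠ 1 ∧ a * b ≠ b * a ∧
      Subgroup.closure ({d, a, b} : Set ↥(commutator ↥(Cfsg.SU 3 F 2))) = ⊤ ∧
      Nat.card ↥(commutator ↥(Cfsg.SU 3 F 2)) = 54 := by
  obtain ⟨d, e, f, H, K, dd, ee, ff, hd1, hde, hdf, hef, hq, hab, hH2, hH4, hHa, hHb,
    hHK⟩ := exists_gens hF
  have hR := ThreeGen.rel_of_involutions dd ee ff hde hdf hef hq
  set a := d * e with ha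
  set b := d * f with hb
  have : Finite ↥(Cfsg.SU 3 F 2) := Nat.finite_of_card_ne_zero (by rw [card_su hF]; norm_num)
  have hS : Nat.card (Cfsg.SU 3 F 2) = 216 := card_su hF
  set M : Subgroup ↥(Cfsg.SU 3 F 2) := Subgroup.closure ({d, a, b} : Set ↥(Cfsg.SU 3 F 2)) with hM
  set P : Subgroup ↥(Cfsg.SU 3 F 2) := Subgroup.closure ({a, b} : Set ↥(Cfsg.SU 3 F 2)) with hP
  have hMcard : Nat.card M = 54 := hR.card_eq hd1 hab
  have : Fact (Nat.Prime 3) := ⟨Nat.prime_three⟩
  have : Fact (Nat.Prime 2) := ⟨Nat.prime_two⟩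
  have ma : a ∈ P := Subgroup.subset_closure (by simp)
  have mb : b ∈ P := Subgroup.subset_closure (by simp)
  -- `P` is normalised by `d` and `H`
  have normal_of : ∀ x : ↥(Cfsg.SU 3 F 2), x * a * x⁻¹ ∈ P → x * b * x⁻¹ ∈ P →
      x ∈ Subgroup.normalizer (P : Set ↥(Cfsg.SU 3 F 2)) := by
    intro x h1 h2
    rw [Subgroup.mem_normalizer_iff]
    have hle : P.map (MulAut.conj x).toMonoidHom ≤ P := by
      rw [hP, MonoidHom.map_closure, Subgroup.closure_le]
      rintro _ ⟨y, rfl | rfl, rfl⟩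
      · simpa using h1
      · simpa using h2
    have heq : P.map (MulAut.conj x).toMonoidHom = P :=
      Subgroup.eq_of_le_of_card_ge hle
        (le_of_eq (Nat.card_congr (P.equivMapOfInjective _ (MulAut.conj x).injective).toEquiv))
    intro y
    conv_rhs => rw [← heq]
    simp [Subgroup.mem_map]
  have hdN : d ∈ Subgroup.normalizer (P : Set ↥(Cfsg.SU 3 F 2)) := by
    refine normal_of d ?_ ?_
    · rw [hR.dad, mul_inv_cancel_right]; exact mul_mem ma ma
    · rw [hR.dbd, mul_inv_cancel_right]; exact mul_mem mb mb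
  have hHN : H ∈ Subgroup.normalizer (P : Set ↥(Cfsg.SU 3 F 2)) := by
    refine normal_of H ?_ ?_
    · rw [hHa, mul_inv_cancel_right]; exact mul_mem (mul_mem (mul_mem ma ma) mb) ma
    · rw [hHb, mul_inv_cancel_right]
      exact mul_mem (mul_mem (mul_mem (mul_mem ma mb) mb) ma) mb
  obtain ⟨n, hn⟩ := hR.isPGroup_ab.exists_card_eq
  rw [← hP] at hn
  have hPM : P ≤ M := Subgroup.closure_mono (by simp [Set.subset_def])
  have hn27 : Nat.card P = 27 := by
    have hdvd : Nat.card P ∣ 54 := hMcard ▸ Subgroup.card_dvd_of_le hPM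
    have hn_le : n ≤ 3 := by
      by_contra hlt
      push Not at hlt
      have : 3 ^ 4 ∣ 54 := (pow_dvd_pow 3 hlt).trans (hn ▸ hdvd)
      norm_num at this
    have hn_ge : 3 ≤ n := by
      by_contra hlt
      push Not at hlt
      refine hab (congrArg Subtype.val (?_ : (⟨a, ma⟩ : P) * ⟨b, mb⟩ = ⟨b, mb⟩ * ⟨a, ma⟩))
      interval_cases n
      · have : Subsingleton P := (Nat.card_eq_one_iff_unique.1 (by simpa using hn)).1
        exact Subsingleton.elim _ _
      · have := isCyclic_of_prime_card (α := P) (p := 3) (by simpa using hn)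
        exact IsMulCommutative.is_comm.comm _ _
      · exact IsPGroup.commutative_of_card_eq_prime_sq (p := 3) hn _ _
    rw [hn, le_antisymm hn_le hn_ge]; norm_num
  have hPN : P.Normal := by
    rw [← Subgroup.normalizer_eq_top_iff]
    set N := Subgroup.normalizer (P : Set ↥(Cfsg.SU 3 F 2))
    have hord : orderOf H = 2 ^ (1 + 1) :=
      orderOf_eq_prime_pow (by simpa [pow_two] using hH2)
        (by rw [show (2 : ℕ) ^ (1 + 1) = 4 from rfl, ← hH4]; simp [pow_succ, mul_assoc])
    have h4 : 4 ∣ Nat.card N := by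
      have := Subgroup.card_dvd_of_le (Subgroup.zpowers_le.2 hHN)
      rwa [Nat.card_zpowers, hord] at this
    have h27 : 27 ∣ Nat.card N := hn27 ▸ Subgroup.card_dvd_of_le Subgroup.le_normalizer
    have h108 : 108 ∣ Nat.card N := (Nat.Coprime.mul_dvd_of_dvd_of_dvd (by norm_num : Nat.Coprime 4 27) h4 h27)
    let Q : Sylow 3 ↥(Cfsg.SU 3 F 2) := Sylow.ofCard P (by
      rw [hn27, hS, show (216 : ℕ) = 3 ^ 3 * 8 from rfl, Nat.factorization_mul (by norm_num) (by norm_num),
        Finsupp.add_apply, Nat.Prime.factorization_pow Nat.prime_three, Finsupp.single_eq_same,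
        Nat.factorization_eq_zero_of_not_dvd (by norm_num : ¬ 3 ∣ 8)]
      norm_num)
    have hQ : (Q : Subgroup ↥(Cfsg.SU 3 F 2)) = P := rfl
    have hmod : Nat.card (Sylow 3 ↥(Cfsg.SU 3 F 2)) ≡ 1 [MOD 3] := card_sylow_modEq_one 3 ↥(Cfsg.SU 3 F 2)
    have hidx : Nat.card (Sylow 3 ↥(Cfsg.SU 3 F 2)) = N.index := Sylow.card_eq_index_normalizer Q
    have hmul := N.card_mul_index
    rw [hS] at hmul
    obtain ⟨c, hc⟩ := h108
    rw [hc, mul_assoc] at hmul
    have : c * N.index = 2 := by omega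
    have hi : N.index ∣ 2 := ⟨c, by rw [mul_comm]; omega⟩
    rcases (Nat.dvd_prime Nat.prime_two).1 hi with h | h
    · exact Subgroup.index_eq_one.1 h
    · rw [hidx, h] at hmod
      exact absurd hmod (by decide)
  -- lower bound
  have hac : a ∈ commutator ↥(Cfsg.SU 3 F 2) := by
    have key : ∀ x : ↥(Cfsg.SU 3 F 2), d * x * d⁻¹ * x⁻¹ ∈ commutator ↥(Cfsg.SU 3 F 2) := fun x =>
      Subgroup.commutator_mem_commutator (Subgroup.mem_top d) (Subgroup.mem_top x)
    have : a = d * a * d⁻¹ * a⁻¹ := by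
      rw [hR.dad, mul_inv_cancel_right, mul_inv_cancel_right]
    rw [this]; exact key a
  have hbc : b ∈ commutator ↥(Cfsg.SU 3 F 2) := by
    have : b = d * b * d⁻¹ * b⁻¹ := by
      rw [hR.dbd, mul_inv_cancel_right, mul_inv_cancel_right]
    rw [this]
    exact Subgroup.commutator_mem_commutator (Subgroup.mem_top d) (Subgroup.mem_top b)
  have hdc : d ∈ commutator ↥(Cfsg.SU 3 F 2) := by
    have hx : H * K * (H⁻¹ * K⁻¹) ∈ commutator ↥(Cfsg.SU 3 F 2) := by
      rw [← mul_assoc]
      exact Subgroup.commutator_mem_commutator (Subgroup.mem_top H) (Subgroup.mem_top K)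
    have : d = (H * K * (H⁻¹ * K⁻¹))⁻¹ * a := by rw [← hHK]; group
    rw [this]; exact mul_mem (inv_mem hx) hac
  have hMC : M ≤ commutator ↥(Cfsg.SU 3 F 2) := by
    rw [hM, Subgroup.closure_le]
    rintro x (rfl | rfl | rfl) <;> assumption
  -- upper bound
  have hC : Nat.card (commutator ↥(Cfsg.SU 3 F 2)) ≤ 54 := by
    let π := QuotientGroup.mk' P
    have hQcard : Nat.card (↥(Cfsg.SU 3 F 2) ⧸ P) = 8 := by
      have := P.card_eq_card_quotient_mul_card_subgroup
      rw [hS, hn27] at this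
      omega
    have hbound : Nat.card (commutator (↥(Cfsg.SU 3 F 2) ⧸ P)) ≤ 2 := by
      have hp : IsPGroup 2 (↥(Cfsg.SU 3 F 2) ⧸ P) := IsPGroup.of_card (n := 3) (by rw [hQcard]; norm_num)
      have : Nontrivial (↥(Cfsg.SU 3 F 2) ⧸ P) := Finite.one_lt_card_iff_nontrivial.1 (by rw [hQcard]; norm_num)
      have : Nontrivial (Subgroup.center (↥(Cfsg.SU 3 F 2) ⧸ P)) := hp.center_nontrivial
      set Z := Subgroup.center (↥(Cfsg.SU 3 F 2) ⧸ P) with hZ
      have hz1 : 1 < Nat.card Z := Finite.one_lt_card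
      have hmul := Z.card_eq_card_quotient_mul_card_subgroup
      rw [hQcard] at hmul
      have hle4 : Nat.card ((↥(Cfsg.SU 3 F 2) ⧸ P) ⧸ Z) ≤ 4 := by
        by_contra hgt
        push Not at hgt
        have : 5 * 2 ≤ Nat.card ((↥(Cfsg.SU 3 F 2) ⧸ P) ⧸ Z) * Nat.card Z := Nat.mul_le_mul hgt hz1
        omega
      have hdvd8 : Nat.card ((↥(Cfsg.SU 3 F 2) ⧸ P) ⧸ Z) ∣ 2 ^ 3 := by rw [show 2 ^ 3 = 8 from rfl, hmul]; exact dvd_mul_right _ _
      obtain ⟨k, hk3, hk⟩ := (Nat.dvd_prime_pow Nat.prime_two).1 hdvd8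
      rw [hk] at hle4 hmul
      interval_cases k
      · have hcyc : IsCyclic ((↥(Cfsg.SU 3 F 2) ⧸ P) ⧸ Z) := by
          have : Subsingleton ((↥(Cfsg.SU 3 F 2) ⧸ P) ⧸ Z) := (Nat.card_eq_one_iff_unique.1 (by simpa using hk)).1
          exact isCyclic_of_subsingleton
        have : commutator (↥(Cfsg.SU 3 F 2) ⧸ P) = ⊥ := by
          rw [commutator_eq_bot_iff_center_eq_top, eq_top_iff]
          intro x _
          rw [Subgroup.mem_center_iff]
          intro y
          exact commutative_of_cyclic_center_quotient (QuotientGroup.mk' Z) (by simp [hZ]) y x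
        rw [this]; simp
      · have hcyc : IsCyclic ((↥(Cfsg.SU 3 F 2) ⧸ P) ⧸ Z) := isCyclic_of_prime_card (p := 2) (by simpa using hk)
        have : commutator (↥(Cfsg.SU 3 F 2) ⧸ P) = ⊥ := by
          rw [commutator_eq_bot_iff_center_eq_top, eq_top_iff]
          intro x _
          rw [Subgroup.mem_center_iff]
          intro y
          exact commutative_of_cyclic_center_quotient (QuotientGroup.mk' Z) (by simp [hZ]) y x
        rw [this]; simp
      · have hle : commutator (↥(Cfsg.SU 3 F 2) ⧸ P) ≤ Z := by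
          rw [commutator_def, Subgroup.commutator_le]
          intro x _ y _
          rw [← QuotientGroup.eq_one_iff, ← QuotientGroup.mk'_apply, map_commutatorElement,
            commutatorElement_eq_one_iff_mul_comm]
          exact IsPGroup.commutative_of_card_eq_prime_sq (p := 2) (by simpa using hk) _ _
        have hle' := Subgroup.card_le_of_le hle
        omega
      · norm_num at hle4
    have hmap : (commutator ↥(Cfsg.SU 3 F 2)).map π = commutator (↥(Cfsg.SU 3 F 2) ⧸ P) := by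
      rw [commutator_def, Subgroup.map_commutator, ← MonoidHom.range_eq_map,
        MonoidHom.range_eq_top.2 (QuotientGroup.mk'_surjective P), commutator_def]
    have hPC : P ≤ commutator ↥(Cfsg.SU 3 F 2) := hPM.trans hMC
    have hrange := Subgroup.card_eq_card_quotient_mul_card_subgroup
      ((π.comp (commutator ↥(Cfsg.SU 3 F 2)).subtype).ker)
    have hk : ((π.comp (commutator ↥(Cfsg.SU 3 F 2)).subtype).ker) = P.subgroupOf (commutator ↥(Cfsg.SU 3 F 2)) := by
      ext x; simp [π, Subgroup.mem_subgroupOf]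
    rw [Nat.card_congr (QuotientGroup.quotientKerEquivRange _).toEquiv, hk,
      Nat.card_congr (Subgroup.subgroupOfEquivOfLe hPC).toEquiv, hn27,
      MonoidHom.range_comp, Subgroup.range_subtype, hmap] at hrange
    omega
  have hCM : M = commutator ↥(Cfsg.SU 3 F 2) := Subgroup.eq_of_le_of_card_ge hMC (by rw [hMcard]; exact hC)
  refine ⟨⟨d, hdc⟩, ⟨a, hac⟩, ⟨b, hbc⟩, ?_, ?_, ?_, ?_, by rw [← hCM]; exact hMcard⟩
  · exact ⟨Subtype.ext hR.dd, Subtype.ext hR.aaa, Subtype.ext hR.bbb, Subtype.ext hR.dad,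
      Subtype.ext hR.dbd, Subtype.ext hR.abab, Subtype.ext hR.aabaab⟩
  · exact fun h => hd1 (congrArg Subtype.val h)
  · exact fun h => hab (congrArg Subtype.val h)
  · refine Subgroup.map_injective (f := (commutator ↥(Cfsg.SU 3 F 2)).subtype) Subtype.val_injective ?_
    rw [MonoidHom.map_closure, ← MonoidHom.range_eq_map, Subgroup.range_subtype,
      Set.image_insert_eq, Set.image_insert_eq, Set.image_singleton]
    exact hCM

end CfsgLib.SUThreeTwo
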