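import Cfsg.Prelude.Def_Transfer
import Cfsg.Agent.Lib.Solvable.Core

/-!
Large extraspecial 2-subgroups `Q u = O₂(C(u))` over singular involutions: orthogonality is
symmetric; the joins and intersections attached to singular subgroups.
-/

set_option autoImplicit false

open scoped commutatorElement

namespace CfsgLib.Sporadic.Singular

variable {G : Type*} [Group G]

/-- The properties of `Q u` used for singular involutions. -/
structure Large (Q : G → Subgroup G) (u : G) : Prop where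
  ne_one : u ≠ 1
  sq_eq : u * u = 1
  mem : u ∈ Q u
  commute_self : ∀ q ∈ Q u, q * u = u * q
  self_centralizing : ∀ g, (∀ q ∈ Q u, g * q = q * g) → g ∈ Q u
  center_mem : ∀ q ∈ Q u, (∀ p ∈ Q u, q * p = p * q) → q = 1 ∨ q = u
  comm : ∀ p ∈ Q u, ∀ q ∈ Q u, p * q * p⁻¹ = q ∨ p * q * p⁻¹ = u * q
  normal : ∀ g, g * u = u * g → ∀ q ∈ Q u, g * q * g⁻¹ ∈ Q u

/-- `Q` commutes with conjugation. -/
def Equivariant (Q : G → Subgroup G) : Prop :=
  ∀ (g x y : G), y ∈ Q (g * x * g⁻¹) ↔ g⁻¹ * y * g ∈ Q x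

theorem equivariant_of_eq (Q : G → Subgroup G)
    (hQ : ∀ x : G, Q x = (Cfsg.pCore 2 ↥(Subgroup.centralizer ({x} : Set G))).map
      (Subgroup.centralizer ({x} : Set G)).subtype) : Equivariant Q := by
  intro g x y
  have hmap : Subgroup.centralizer ({g * x * g⁻¹} : Set G) =
      (Subgroup.centralizer ({x} : Set G)).map (MulAut.conj g).toMonoidHom := by
    ext t
    simp only [Subgroup.mem_map_equiv, Subgroup.mem_centralizer_singleton_iff,
      MulAut.conj_symm_apply]
    constructor <;> intro h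
    · calc g⁻¹ * t * g * x = g⁻¹ * (t * (g * x * g⁻¹)) * g := by group
        _ = x * (g⁻¹ * t * g) := by rw [h]; group
    · calc t * (g * x * g⁻¹) = g * (g⁻¹ * t * g * x) * g⁻¹ := by group
        _ = g * x * g⁻¹ * t := by rw [h]; group
  have key : ∀ (K L : Subgroup G) (φ : G ≃* G), L = K.map φ.toMonoidHom →
      (Cfsg.pCore 2 ↥L).map L.subtype = ((Cfsg.pCore 2 ↥K).map K.subtype).map φ.toMonoidHom := by
    rintro K L φ rfl
    let e : ↥K ≃* ↥(K.map φ.toMonoidHom) := φ.subgroupMap K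
    rw [← CfsgLib.Solvable.map_pCore_mulEquiv e, Subgroup.map_map, Subgroup.map_map]
    rfl
  rw [hQ, hQ, key _ _ (MulAut.conj g) hmap, Subgroup.mem_map_equiv, MulAut.conj_symm_apply]

theorem Large.conjugate {Q : G → Subgroup G} {z : G} (hz : Large Q z) (heq : Equivariant Q)
    (g : G) : Large Q (g * z * g⁻¹) := by
  have back : ∀ y : G, g * (g⁻¹ * y * g) * g⁻¹ = y := fun y => by group
  have conj_mul : ∀ a b : G, (g * a * g⁻¹) * (g * b * g⁻¹) = g * (a * b) * g⁻¹ := fun a b => by group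
  have into : ∀ a ∈ Q z, g * a * g⁻¹ ∈ Q (g * z * g⁻¹) := fun a ha => by
    rw [heq, show g⁻¹ * (g * a * g⁻¹) * g = a by group]
    exact ha
  have cancel : ∀ a b : G, g * a * g⁻¹ = g * b * g⁻¹ → a = b := fun a b h => by simpa using h
  refine ⟨?_, ?_, into z hz.mem, ?_, ?_, ?_, ?_, ?_⟩
  · intro h; exact hz.ne_one (cancel z 1 (by rw [h]; group))
  · rw [conj_mul, hz.sq_eq]; group
  · intro q hq
    rw [heq] at hq
    rw [← back q, conj_mul, conj_mul, hz.commute_self _ hq]
  · intro y hy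
    rw [heq]
    refine hz.self_centralizing _ fun a ha => ?_
    apply cancel
    rw [← conj_mul (g⁻¹ * y * g) a, ← conj_mul a, back, hy _ (into a ha)]
  · intro q hq hc
    rw [heq] at hq
    rcases hz.center_mem _ hq (fun p hp => cancel _ _ (by
      rw [← conj_mul (g⁻¹ * q * g) p, ← conj_mul p, back, hc _ (into p hp)])) with h | h
    · left; rw [← back q, h]; group
    · right; rw [← back q, h]
  · intro p hp q hq
    rw [heq] at hp hq
    rcases hz.comm _ hp _ hq with h | h
    · left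
      calc p * q * p⁻¹ = g * ((g⁻¹ * p * g) * (g⁻¹ * q * g) * (g⁻¹ * p * g)⁻¹) * g⁻¹ := by group
        _ = q := by rw [h]; group
    · right
      calc p * q * p⁻¹ = g * ((g⁻¹ * p * g) * (g⁻¹ * q * g) * (g⁻¹ * p * g)⁻¹) * g⁻¹ := by group
        _ = g * z * g⁻¹ * q := by rw [h]; group
  · intro y hy q hq
    rw [heq] at hq ⊢
    have h1 : (g⁻¹ * y * g) * z = z * (g⁻¹ * y * g) := cancel _ _ (by
      rw [← conj_mul (g⁻¹ * y * g) z, ← conj_mul z, back, hy])
    rw [show g⁻¹ * (y * q * y⁻¹) * g = (g⁻¹ * y * g) * (g⁻¹ * q * g) * (g⁻¹ * y * g)⁻¹ by group]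
    exact hz.normal _ h1 _ hq

theorem large_of_extraspecial (Q : G → Subgroup G)
    (hQ : ∀ x : G, Q x = (Cfsg.pCore 2 ↥(Subgroup.centralizer ({x} : Set G))).map
      (Subgroup.centralizer ({x} : Set G)).subtype)
    (z : G) (hz : orderOf z = 2) (hE : Cfsg.IsExtraspecial 2 ↥(Q z))
    (hC : Subgroup.centralizer ((Q z : Subgroup G) : Set G) ≤ Q z) : Large Q z := by
  have hzz : z * z = 1 := by rw [← pow_two, ← hz, pow_orderOf_eq_one]
  have hz1 : z ≠ 1 := by rintro rfl; simp at hz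
  have hcomm : ∀ q ∈ Q z, q * z = z * q := by
    intro q hq
    rw [hQ, Subgroup.mem_map] at hq
    obtain ⟨⟨q, hq'⟩, -, rfl⟩ := hq
    exact Subgroup.mem_centralizer_singleton_iff.mp hq'
  have hself : ∀ g, (∀ q ∈ Q z, g * q = q * g) → g ∈ Q z := fun g hg =>
    hC (Subgroup.mem_centralizer_iff.mpr fun q hq => (hg q hq).symm)
  have hmem : z ∈ Q z := hself z fun q hq => (hcomm q hq).symm
  have hzc : (⟨z, hmem⟩ : ↥(Q z)) ∈ Subgroup.center ↥(Q z) :=
    Subgroup.mem_center_iff.mpr fun q => Subtype.ext (hcomm q q.2)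
  obtain ⟨⟨-, -, hder⟩, hcard⟩ := hE
  have hcen : ∀ q : ↥(Q z), q ∈ Subgroup.center ↥(Q z) → (q : G) = 1 ∨ (q : G) = z := by
    intro q hq
    have h2 : ({⟨1, (Subgroup.center ↥(Q z)).one_mem⟩, ⟨⟨z, hmem⟩, hzc⟩} :
        Set ↥(Subgroup.center ↥(Q z))) = Set.univ := by
      have hne : (⟨1, (Subgroup.center ↥(Q z)).one_mem⟩ : ↥(Subgroup.center ↥(Q z))) ≠
          ⟨⟨z, hmem⟩, hzc⟩ := by
        intro h
        exact hz1 (congrArg (fun t : ↥(Subgroup.center ↥(Q z)) => ((t : ↥(Q z)) : G)) h).symm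
      have : Finite ↥(Subgroup.center ↥(Q z)) :=
        Nat.finite_of_card_ne_zero (by rw [hcard]; norm_num)
      exact Set.eq_of_subset_of_ncard_le (Set.subset_univ _)
        (by rw [Set.ncard_univ, hcard, Set.ncard_pair hne])
    have h3 : (⟨q, hq⟩ : ↥(Subgroup.center ↥(Q z))) ∈ Set.univ := Set.mem_univ _
    rw [← h2] at h3
    rcases h3 with h | h
    · left; exact congrArg (fun t : ↥(Subgroup.center ↥(Q z)) => ((t : ↥(Q z)) : G)) h
    · right; exact congrArg (fun t : ↥(Subgroup.center ↥(Q z)) => ((t : ↥(Q z)) : G)) h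
  refine ⟨hz1, hzz, hmem, hcomm, hself, ?_, ?_, ?_⟩
  · intro q hq hc
    exact hcen ⟨q, hq⟩ (Subgroup.mem_center_iff.mpr fun p => Subtype.ext (hc p p.2).symm)
  · intro p hp q hq
    have h1 : ⁅(⟨p, hp⟩ : ↥(Q z)), ⟨q, hq⟩⁆ ∈ Subgroup.center ↥(Q z) := by
      rw [← hder, commutator_def]
      exact Subgroup.commutator_mem_commutator (Subgroup.mem_top _) (Subgroup.mem_top _)
    rcases hcen _ h1 with h | h
    · left
      exact mul_inv_eq_one.mp h
    · right
      exact mul_inv_eq_iff_eq_mul.mp h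
  · intro g hg q hq
    rw [hQ, Subgroup.mem_map] at hq ⊢
    obtain ⟨q, hq', rfl⟩ := hq
    exact ⟨_, (CfsgLib.Solvable.pCore_normal (p := 2) _).conj_mem q hq'
      ⟨g, Subgroup.mem_centralizer_singleton_iff.mpr hg⟩, rfl⟩

/-- The double centralizer property inside `Q u`. -/
theorem Large.mem_closure_of_forall_commute {Q : G → Subgroup G} {u : G} (hu : Large Q u)
    (s : Finset G) (hs : ∀ a ∈ s, a ∈ Q u) :
    ∀ x ∈ Q u, (∀ h ∈ Q u, (∀ a ∈ s, h * a = a * h) → h * x = x * h) →
      x ∈ Subgroup.closure (insert u (s : Set G)) := by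
  classical
  induction s using Finset.induction_on with
  | empty =>
    intro x hx hcom
    rcases hu.center_mem x hx (fun p hp => (hcom p hp (by simp)).symm) with rfl | rfl
    · exact one_mem _
    · exact Subgroup.subset_closure (Set.mem_insert _ _)
  | @insert a s has ih =>
    intro x hx hcom
    have hsQ : ∀ b ∈ s, b ∈ Q u := fun b hb => hs b (Finset.mem_insert_of_mem hb)
    have haQ := hs a (Finset.mem_insert_self a s)
    have hle : Subgroup.closure (insert u (s : Set G)) ≤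
        Subgroup.closure (insert u ((insert a s : Finset G) : Set G)) :=
      Subgroup.closure_mono (Set.insert_subset_insert (by simp))
    have ha_mem : a ∈ Subgroup.closure (insert u ((insert a s : Finset G) : Set G)) :=
      Subgroup.subset_closure (by simp)
    by_cases hall : ∀ h ∈ Q u, (∀ b ∈ s, h * b = b * h) → h * a = a * h
    · apply hle
      refine ih hsQ x hx fun h hh hb => hcom h hh ?_
      intro b hb'
      rcases Finset.mem_insert.mp hb' with rfl | hb'
      exacts [hall h hh hb, hb b hb']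
    · push Not at hall
      obtain ⟨h0, hh0, hb0, hna⟩ := hall
      have h0a : h0 * a * h0⁻¹ = u * a :=
        (hu.comm h0 hh0 a haQ).resolve_left fun h => hna (mul_inv_eq_iff_eq_mul.mp h)
      -- `y` is `x` or `x * a`, chosen to commute with `h0`
      obtain ⟨y, hyQ, hy0, hyx⟩ : ∃ y ∈ Q u, h0 * y = y * h0 ∧ (y = x ∨ y = x * a) := by
        rcases hu.comm h0 hh0 x hx with h | h
        · exact ⟨x, hx, mul_inv_eq_iff_eq_mul.mp h, Or.inl rfl⟩
        · refine ⟨x * a, mul_mem hx haQ, mul_inv_eq_iff_eq_mul.mp ?_, Or.inr rfl⟩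
          calc h0 * (x * a) * h0⁻¹ = (h0 * x * h0⁻¹) * (h0 * a * h0⁻¹) := by group
            _ = (x * u) * (u * a) := by rw [h, h0a, hu.commute_self x hx]
            _ = x * (u * u) * a := by group
            _ = x * a := by rw [hu.sq_eq, mul_one]
      have hy : ∀ h ∈ Q u, (∀ b ∈ insert a s, h * b = b * h) → h * y = y * h := by
        intro h hh hb
        rcases hyx with rfl | rfl
        · exact hcom h hh hb
        · rw [← mul_assoc, hcom h hh hb, mul_assoc, hb a (Finset.mem_insert_self a s), mul_assoc]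
      have hyc : y ∈ Subgroup.closure (insert u (s : Set G)) := by
        refine ih hsQ y hyQ fun h hh hb => ?_
        rcases hu.comm h hh a haQ with h1 | h1
        · refine hy h hh fun b hb' => ?_
          rcases Finset.mem_insert.mp hb' with rfl | hb'
          exacts [mul_inv_eq_iff_eq_mul.mp h1, hb b hb']
        · have h2 : (h0⁻¹ * h) * y = y * (h0⁻¹ * h) := by
            refine hy _ (mul_mem (inv_mem hh0) hh) fun b hb' => ?_
            rcases Finset.mem_insert.mp hb' with rfl | hb'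
            · calc h0⁻¹ * h * b = h0⁻¹ * (h * b * h⁻¹) * h := by group
                _ = h0⁻¹ * (h0 * b * h0⁻¹) * h := by rw [h1, h0a]
                _ = b * (h0⁻¹ * h) := by group
            · calc h0⁻¹ * h * b = h0⁻¹ * (b * h) := by rw [mul_assoc, hb b hb']
                _ = h0⁻¹ * (b * h0) * (h0⁻¹ * h) := by group
                _ = b * (h0⁻¹ * h) := by rw [← hb0 b hb']; group
          calc h * y = h0 * ((h0⁻¹ * h) * y) := by group
            _ = (h0 * y) * (h0⁻¹ * h) := by rw [h2]; group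
            _ = y * h := by rw [hy0]; group
      rcases hyx with rfl | rfl
      · exact hle hyc
      · have := mul_mem (hle hyc) (inv_mem ha_mem)
        rwa [mul_inv_cancel_right] at this

/-- Joint cores: `Q u ⊓ Q v ≤ Q (u * v)`. -/
theorem Large.mem_of_mem_pair {Q : G → Subgroup G} {u v : G} (hu : Large Q u) (heq : Equivariant Q)
    (hv : v ∈ Q u) (hv1 : v ≠ 1) (hvu : v ≠ u) (huw : u ∈ Q (u * v))
    {a : G} (hau : a ∈ Q u) (hav : a ∈ Q v) : a ∈ Q (u * v) := by
  obtain ⟨g, hg, hgv⟩ : ∃ g ∈ Q u, g * v * g⁻¹ = u * v := by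
    by_contra hcon
    push Not at hcon
    refine (hu.center_mem v hv fun p hp => ?_).elim hv1 hvu
    exact (mul_inv_eq_iff_eq_mul.mp ((hu.comm p hp v hv).resolve_right (hcon p hp))).symm
  have h1 : g * a * g⁻¹ ∈ Q (u * v) := by
    rw [← hgv, heq, show g⁻¹ * (g * a * g⁻¹) * g = a by group]
    exact hav
  rcases hu.comm g hg a hau with h | h
  · rwa [h] at h1
  · rw [h] at h1
    have := mul_mem (inv_mem huw) h1
    rwa [inv_mul_cancel_left] at this

theorem Large.sq_mem {Q : G → Subgroup G} {u : G} (hu : Large Q u) {p : G} (hp : p ∈ Q u) :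
    p * p = 1 ∨ p * p = u := by
  refine hu.center_mem _ (mul_mem hp hp) fun q hq => ?_
  rcases hu.comm p hp q hq with h | h
  · have h1 : p * q = q * p := mul_inv_eq_iff_eq_mul.mp h
    rw [mul_assoc, h1, ← mul_assoc, h1, mul_assoc]
  · apply mul_inv_eq_iff_eq_mul.mp
    calc p * p * q * (p * p)⁻¹ = p * (p * q * p⁻¹) * p⁻¹ := by group
      _ = p * (u * q) * p⁻¹ := by rw [h]
      _ = (p * u * p⁻¹) * (p * q * p⁻¹) := by group
      _ = u * (u * q) := by rw [h, hu.commute_self p hp, mul_inv_cancel_right]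
      _ = q := by rw [← mul_assoc, hu.sq_eq, one_mul]

theorem Large.pow_four {Q : G → Subgroup G} {u : G} (hu : Large Q u) {p : G} (hp : p ∈ Q u) :
    p ^ 4 = 1 := by
  rw [show p ^ 4 = (p * p) * (p * p) by simp only [pow_succ, pow_zero, one_mul, mul_assoc]]
  rcases hu.sq_mem hp with h | h <;> rw [h]
  · rw [one_mul]
  · exact hu.sq_eq

/-- An element of `Q z` commuting with `C_{Q z}(x)` is one of `1, z, x, z * x`. -/
theorem Large.four_of_forall_commute {Q : G → Subgroup G} {z x : G} (hz : Large Q z)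
    (hx : x ∈ Q z) (hxx : x * x = 1) {y : G} (hy : y ∈ Q z)
    (hc : ∀ h ∈ Q z, h * x = x * h → h * y = y * h) :
    y = 1 ∨ y = z ∨ y = x ∨ y = z * x := by
  classical
  have h1 := hz.mem_closure_of_forall_commute {x} (by simpa using hx) y hy
    (fun h hh hb => hc h hh (hb x (by simp)))
  rw [Finset.coe_singleton] at h1
  have hxz : x * z = z * x := hz.commute_self x hx
  have hzz := hz.sq_eq
  let K : Subgroup G :=
    { carrier := {t | t = 1 ∨ t = z ∨ t = x ∨ t = z * x}
      one_mem' := Or.inl rfl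
      mul_mem' := by
        have e1 : z * (z * x) = x := by rw [← mul_assoc, hzz, one_mul]
        have e2 : x * (z * x) = z := by rw [← mul_assoc, hxz, mul_assoc, hxx, mul_one]
        have e3 : z * x * z = x := by rw [mul_assoc, hxz, e1]
        have e4 : z * x * x = z := by rw [mul_assoc, hxx, mul_one]
        have e5 : z * x * (z * x) = 1 := by rw [mul_assoc, e2, hzz]
        rintro a b (rfl | rfl | rfl | rfl) (rfl | rfl | rfl | rfl) <;>
          simp [hzz, hxx, hxz, e1, e2, e3, e4, e5]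
      inv_mem' := by
        rintro a (rfl | rfl | rfl | rfl)
        · exact Or.inl inv_one
        · exact Or.inr (Or.inl (inv_eq_of_mul_eq_one_right hzz))
        · exact Or.inr (Or.inr (Or.inl (inv_eq_of_mul_eq_one_right hxx)))
        · refine Or.inr (Or.inr (Or.inr ?_))
          rw [mul_inv_rev, inv_eq_of_mul_eq_one_right hzz, inv_eq_of_mul_eq_one_right hxx, hxz] }
  have hle : Subgroup.closure (insert z ({x} : Set G)) ≤ K := by
    rw [Subgroup.closure_le]
    rintro t (rfl | rfl)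
    · exact Or.inr (Or.inl rfl)
    · exact Or.inr (Or.inr (Or.inl rfl))
  exact hle h1

/-- The order-eight case: every element centralizing `z` then has order dividing 16. -/
theorem Large.pow_sixteen_of_small {Q : G → Subgroup G} {z x y : G} (hz : Large Q z)
    (hx : x ∈ Q z) (hxx : x * x = 1) (hx1 : x ≠ 1) (hxz : x ≠ z) (hy : y ∈ Q z)
    (hyy : y * y = z) (hyx : y * x * y⁻¹ = z * x)
    (hsmall : ∀ h ∈ Q z, h * x = x * h → h = 1 ∨ h = z ∨ h = x ∨ h = z * x)
    (g : G) (hg : g * z = z * g) : g ^ 16 = 1 := by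
  have hzz := hz.sq_eq
  have czx : Commute z x := (hz.commute_self x hx).symm
  have czy : Commute z y := (hz.commute_self y hy).symm
  have hzy' : y⁻¹ = z * y := inv_eq_of_mul_eq_one_right (by
    rw [← mul_assoc, ← czy.eq, mul_assoc, hyy, hzz])
  have all : ∀ p ∈ Q z, p = 1 ∨ p = z ∨ p = x ∨ p = z * x ∨
      p = y ∨ p = z * y ∨ p = x * y ∨ p = z * (x * y) := by
    intro p hp
    rcases hz.comm p hp x hx with h | h
    · rcases hsmall p hp (mul_inv_eq_iff_eq_mul.mp h) with h' | h' | h' | h'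
      exacts [Or.inl h', Or.inr (Or.inl h'), Or.inr (Or.inr (Or.inl h')),
        Or.inr (Or.inr (Or.inr (Or.inl h')))]
    · have h1 : p * y * x * (p * y)⁻¹ = x := by
        calc p * y * x * (p * y)⁻¹ = p * (y * x * y⁻¹) * p⁻¹ := by group
          _ = (p * z * p⁻¹) * (p * x * p⁻¹) := by rw [hyx]; group
          _ = z * (z * x) := by rw [h, hz.commute_self p hp, mul_inv_cancel_right]
          _ = x := by rw [← mul_assoc, hzz, one_mul]
      have hp' : p = p * y * (z * y) := by rw [← hzy', mul_inv_cancel_right]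
      rcases hsmall _ (mul_mem hp hy) (mul_inv_eq_iff_eq_mul.mp h1) with h' | h' | h' | h' <;>
        rw [h'] at hp'
      · rw [one_mul] at hp'; simp [hp']
      · rw [← mul_assoc, hzz, one_mul] at hp'; simp [hp']
      · rw [← mul_assoc, ← czx.eq, mul_assoc] at hp'; simp [hp']
      · rw [← mul_assoc, mul_assoc z x z, ← czx.eq, ← mul_assoc, hzz, one_mul] at hp'; simp [hp']
  have hxyxy : x * y * (x * y) = 1 := by
    calc x * y * (x * y) = x * (y * x * y⁻¹) * (y * y) := by group
      _ = x * (z * x) * z := by rw [hyx, hyy]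
      _ = x * (x * z) * z := by rw [czx.eq]
      _ = (x * x) * (z * z) := by group
      _ = 1 := by rw [hxx, hzz, one_mul]
  have imy : g * y * g⁻¹ = y ∨ g * y * g⁻¹ = z * y := by
    have h2 : g * y * g⁻¹ * (g * y * g⁻¹) = z := by
      calc g * y * g⁻¹ * (g * y * g⁻¹) = g * (y * y) * g⁻¹ := by group
        _ = z := by rw [hyy, hg, mul_inv_cancel_right]
    rcases all _ (hz.normal g hg y hy) with h | h | h | h | h | h | h | h
    · rw [h, one_mul] at h2; exact absurd h2.symm hz.ne_one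
    · rw [h, hzz] at h2; exact absurd h2.symm hz.ne_one
    · rw [h, hxx] at h2; exact absurd h2.symm hz.ne_one
    · rw [h, czx.symm.mul_mul_mul_comm, hzz, hxx, one_mul] at h2; exact absurd h2.symm hz.ne_one
    · exact Or.inl h
    · exact Or.inr h
    · rw [h, hxyxy] at h2; exact absurd h2.symm hz.ne_one
    · rw [h, (czx.mul_right czy).symm.mul_mul_mul_comm, hzz, hxyxy, one_mul] at h2
      exact absurd h2.symm hz.ne_one
  have imx : g * x * g⁻¹ = x ∨ g * x * g⁻¹ = z * x ∨ g * x * g⁻¹ = x * y ∨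
      g * x * g⁻¹ = z * (x * y) := by
    have h2 : g * x * g⁻¹ * (g * x * g⁻¹) = 1 := by
      calc g * x * g⁻¹ * (g * x * g⁻¹) = g * (x * x) * g⁻¹ := by group
        _ = 1 := by rw [hxx]; group
    rcases all _ (hz.normal g hg x hx) with h | h | h | h | h | h | h | h
    · exact absurd (show x = 1 by
        calc x = g⁻¹ * (g * x * g⁻¹) * g := by group
          _ = 1 := by rw [h]; group) hx1
    · exact absurd (show x = z by
        calc x = g⁻¹ * (g * x * g⁻¹) * g := by group
          _ = g⁻¹ * (z * g) := by rw [h]; group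
          _ = z := by rw [← hg, inv_mul_cancel_left]) hxz
    · exact Or.inl h
    · exact Or.inr (Or.inl h)
    · rw [h, hyy] at h2; exact absurd h2 hz.ne_one
    · rw [h, czy.symm.mul_mul_mul_comm, hzz, hyy, one_mul] at h2; exact absurd h2 hz.ne_one
    · exact Or.inr (Or.inr (Or.inl h))
    · exact Or.inr (Or.inr (Or.inr h))
  have gz : g * z * g⁻¹ = z := by rw [hg, mul_inv_cancel_right]
  have mulc : ∀ a b : G, g * (a * b) * g⁻¹ = (g * a * g⁻¹) * (g * b * g⁻¹) := fun a b => by group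
  have e1 : ∀ t : G, z * (z * t) = t := fun t => by rw [← mul_assoc, hzz, one_mul]
  have hy2 : (g * g) * y * (g * g)⁻¹ = y := by
    rw [show g * g * y * (g * g)⁻¹ = g * (g * y * g⁻¹) * g⁻¹ by group]
    rcases imy with h | h
    · rw [h, h]
    · rw [h, mulc, gz, h, e1]
  have hx2 : (g * g) * x * (g * g)⁻¹ = x ∨ (g * g) * x * (g * g)⁻¹ = z * x := by
    rw [show g * g * x * (g * g)⁻¹ = g * (g * x * g⁻¹) * g⁻¹ by group]
    rcases imx with h | h | h | h <;> rcases imy with h' | h' <;> rw [h]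
    · exact Or.inl h
    · exact Or.inl h
    · rw [mulc, gz, h, e1]; exact Or.inl rfl
    · rw [mulc, gz, h, e1]; exact Or.inl rfl
    · rw [mulc, h, h', mul_assoc, hyy, ← czx.eq]; exact Or.inr rfl
    · rw [mulc, h, h', mul_assoc, ← mul_assoc y, ← czy.eq, mul_assoc z y, hyy, hzz, mul_one]
      exact Or.inl rfl
    · rw [mulc, gz, mulc, h, h', mul_assoc z, e1, mul_assoc, hyy, ← czx.eq]; exact Or.inr rfl
    · rw [mulc, gz, mulc, h, h', mul_assoc z, e1, mul_assoc, ← mul_assoc y, ← czy.eq,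
        mul_assoc z y, hyy, hzz, mul_one]
      exact Or.inl rfl
  obtain ⟨k, hk⟩ : ∃ k, k = g * g * (g * g) := ⟨_, rfl⟩
  have hgz2 : g * g * z * (g * g)⁻¹ = z := by
    rw [show g * g * z * (g * g)⁻¹ = g * (g * z * g⁻¹) * g⁻¹ by group, gz, gz]
  have kx : k * x = x * k := mul_inv_eq_iff_eq_mul.mp (by
    rw [hk, show g * g * (g * g) * x * (g * g * (g * g))⁻¹ =
      (g * g) * ((g * g) * x * (g * g)⁻¹) * (g * g)⁻¹ by group]
    rcases hx2 with h | h
    · rw [h, h]
    · rw [h, show g * g * (z * x) * (g * g)⁻¹ =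
        (g * g * z * (g * g)⁻¹) * (g * g * x * (g * g)⁻¹) by group, hgz2, h, e1])
  have ky : k * y = y * k := mul_inv_eq_iff_eq_mul.mp (by
    rw [hk, show g * g * (g * g) * y * (g * g * (g * g))⁻¹ =
      (g * g) * ((g * g) * y * (g * g)⁻¹) * (g * g)⁻¹ by group, hy2, hy2])
  have kz : k * z = z * k := mul_inv_eq_iff_eq_mul.mp (by
    rw [hk, show g * g * (g * g) * z * (g * g * (g * g))⁻¹ =
      (g * g) * ((g * g) * z * (g * g)⁻¹) * (g * g)⁻¹ by group, hgz2, hgz2])
  have hkQ : k ∈ Q z := by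
    refine hz.self_centralizing k fun p hp => ?_
    have cx : Commute k x := kx
    have cy : Commute k y := ky
    have cz : Commute k z := kz
    rcases all p hp with rfl | rfl | rfl | rfl | rfl | rfl | rfl | rfl
    exacts [Commute.one_right k, cz, cx, cz.mul_right cx, cy, cz.mul_right cy, cx.mul_right cy,
      cz.mul_right (cx.mul_right cy)]
  calc g ^ 16 = k ^ 4 := by
        rw [hk, show g * g * (g * g) = g ^ 4 by simp only [pow_succ, pow_zero, one_mul, mul_assoc],
          ← pow_mul]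
    _ = 1 := hz.pow_four hkQ

/-- Orthogonality of singular involutions is symmetric. -/
theorem Large.symm {Q : G → Subgroup G} {z : G} (hz : Large Q z) (heq : Equivariant Q)
    (h2 : ∀ u : G, (∀ t : G, t * u = u * t → t ^ 16 = 1) → ∀ t : G, t * u = u * t → t ∈ Q u)
    (g : G) (hxQ : g * z * g⁻¹ ∈ Q z) : z ∈ Q (g * z * g⁻¹) := by
  obtain ⟨x, hx⟩ : ∃ x, x = g * z * g⁻¹ := ⟨_, rfl⟩
  rw [← hx] at hxQ ⊢
  by_cases hxz : x = z
  · rw [hxz]; exact hz.mem
  by_contra hzR
  have hX : Large Q x := hx ▸ hz.conjugate heq g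
  have hzz := hz.sq_eq
  have hxx := hX.sq_eq
  have hzi : z⁻¹ = z := inv_eq_of_mul_eq_one_right hzz
  have czx : Commute z x := (hz.commute_self x hxQ).symm
  -- some element of `Q z` carries `x` to `z * x`
  obtain ⟨q, hq, hqx⟩ : ∃ q ∈ Q z, q * x * q⁻¹ = z * x := by
    by_contra hcon
    push Not at hcon
    refine (hz.center_mem x hxQ fun p hp => ?_).elim hX.ne_one hxz
    exact (mul_inv_eq_iff_eq_mul.mp ((hz.comm p hp x hxQ).resolve_right (hcon p hp))).symm
  -- no element of `Q x` carries `z` to `z * x`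
  have trick : ∀ r ∈ Q x, r * z * r⁻¹ ≠ z * x := by
    intro r hr hrz
    obtain ⟨y, hy⟩ : ∃ y, y = z * x := ⟨_, rfl⟩
    have hrx : r * x * r⁻¹ = x := by rw [hX.commute_self r hr, mul_inv_cancel_right]
    have hry : r * y * r⁻¹ = z := by
      calc r * y * r⁻¹ = (r * z * r⁻¹) * (r * x * r⁻¹) := by rw [hy]; group
        _ = z * (x * x) := by rw [hrz, hrx, mul_assoc]
        _ = z := by rw [hxx, mul_one]
    have hzy : z ∈ Q y := by
      have hyQ : y ∈ Q z := hy ▸ mul_mem hz.mem hxQ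
      rw [hy, ← hrz, heq, show r⁻¹ * z * r = y by rw [← hry]; group]
      exact hyQ
    apply hzR
    have : x = q⁻¹ * y * (q⁻¹)⁻¹ := by rw [hy, ← hqx]; group
    rw [this, heq, show q⁻¹⁻¹ * z * q⁻¹ = z by rw [inv_inv, hz.commute_self q hq, mul_inv_cancel_right]]
    exact hzy
  have hzxc : z * x = x * z := czx
  have zR : ∀ r ∈ Q x, z * r * z⁻¹ ∈ Q x := fun r hr => hX.normal z hzxc r hr
  have fixz : ∀ r ∈ Q x, z * r * z⁻¹ = r ∨ z * r * z⁻¹ = x * r → r * z = z * r := by
    intro r hr h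
    rcases h with h | h
    · exact (mul_inv_eq_iff_eq_mul.mp h).symm
    · exfalso
      apply trick r hr
      have h1 : r * z = x * (z * r) := by
        rw [mul_inv_eq_iff_eq_mul.mp h, ← mul_assoc, ← mul_assoc, hxx, one_mul]
      rw [h1, ← mul_assoc, mul_inv_cancel_right, hzxc]
  -- commutators with `z` are centralized by `z`
  have hM : ∀ r ∈ Q x, (z * r * z⁻¹ * r⁻¹) * z = z * (z * r * z⁻¹ * r⁻¹) := by
    intro r hr
    obtain ⟨t, ht⟩ : ∃ t, t = z * r * z⁻¹ * r⁻¹ := ⟨_, rfl⟩
    have htR : t ∈ Q x := ht ▸ mul_mem (zR r hr) (inv_mem hr)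
    rw [← ht]
    refine fixz t htR ?_
    have h1 : z * t * z⁻¹ = t⁻¹ := by
      rw [ht, mul_inv_rev, mul_inv_rev, mul_inv_rev, inv_inv, hzi]
      calc z * (z * r * z * r⁻¹) * z = (z * z) * r * z * r⁻¹ * z := by group
        _ = r * (z * (r⁻¹ * z)) := by rw [hzz]; group
        _ = r * (z⁻¹ * (r⁻¹ * z)) := by rw [hzi]
    rw [h1]
    rcases hX.sq_mem htR with h | h
    · exact Or.inl (inv_eq_of_mul_eq_one_right h)
    · right
      apply inv_eq_of_mul_eq_one_right
      rw [← mul_assoc, hX.commute_self t htR, mul_assoc, h, hxx]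
  -- whatever centralizes `C_{Q x}(z)` in `Q x` centralizes `z`
  have hW : ∀ y ∈ Q x, (∀ w ∈ Q x, w * z = z * w → y * w = w * y) → y * z = z * y := by
    intro y hy hc
    refine fixz y hy ?_
    have hs : y⁻¹ * (z * y * z⁻¹) ∈ Q x := mul_mem (inv_mem hy) (zR y hy)
    have hcen : ∀ p ∈ Q x, y⁻¹ * (z * y * z⁻¹) * p = p * (y⁻¹ * (z * y * z⁻¹)) := by
      intro p hp
      obtain ⟨r, hr, rfl⟩ : ∃ r ∈ Q x, z * r * z⁻¹ = p :=
        ⟨z * p * z⁻¹, zR p hp, by rw [hzi]; calc
          z * (z * p * z) * z = (z * z) * p * (z * z) := by group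
          _ = p := by rw [hzz]; group⟩
      obtain ⟨t, ht⟩ : ∃ t, t = z * r * z⁻¹ * r⁻¹ := ⟨_, rfl⟩
      have htR : t ∈ Q x := ht ▸ mul_mem (zR r hr) (inv_mem hr)
      have hyt : y * t = t * y := hc t htR (ht ▸ hM r hr)
      have hzrt : z * r * z⁻¹ = t * r := by rw [ht]; group
      obtain ⟨e, hee, he⟩ : ∃ e, (e = 1 ∨ e = x) ∧ y * r * y⁻¹ = e * r := by
        rcases hX.comm y hy r hr with h | h
        · exact ⟨1, Or.inl rfl, by rw [h, one_mul]⟩
        · exact ⟨x, Or.inr rfl, h⟩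
      have hze : z * e * z⁻¹ = e := by
        rcases hee with rfl | rfl
        · group
        · rw [hzxc, mul_inv_cancel_right]
      have het : e * t = t * e := by
        rcases hee with rfl | rfl
        · rw [one_mul, mul_one]
        · exact (hX.commute_self t htR).symm
      have key : (z * y * z⁻¹) * (z * r * z⁻¹) * (z * y * z⁻¹)⁻¹ = y * (z * r * z⁻¹) * y⁻¹ := by
        calc (z * y * z⁻¹) * (z * r * z⁻¹) * (z * y * z⁻¹)⁻¹ =
              z * (y * r * y⁻¹) * z⁻¹ := by group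
          _ = (z * e * z⁻¹) * (z * r * z⁻¹) := by rw [he]; group
          _ = t * (e * r) := by rw [hze, hzrt, ← mul_assoc, het, mul_assoc]
          _ = (y * t * y⁻¹) * (y * r * y⁻¹) := by rw [he, hyt, mul_inv_cancel_right]
          _ = y * (z * r * z⁻¹) * y⁻¹ := by rw [hzrt]; group
      calc y⁻¹ * (z * y * z⁻¹) * (z * r * z⁻¹)
          = y⁻¹ * ((z * y * z⁻¹) * (z * r * z⁻¹) * (z * y * z⁻¹)⁻¹) * (z * y * z⁻¹) := by group
        _ = z * r * z⁻¹ * (y⁻¹ * (z * y * z⁻¹)) := by rw [key]; group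
    rcases hX.center_mem _ hs hcen with h | h
    · exact Or.inl (inv_mul_eq_one.mp h).symm
    · right
      rw [inv_mul_eq_iff_eq_mul.mp h, hX.commute_self y hy]
  -- `Q z ⊓ Q x = {1, x}`
  have hB : ∀ b ∈ Q z, b ∈ Q x → b = 1 ∨ b = x := by
    intro b hbz hbx
    have hcK : ∀ h ∈ Q z, h * x = x * h → h * b = b * h := by
      intro h hh hhx
      rcases hz.comm h hh b hbz with h' | h'
      · exact mul_inv_eq_iff_eq_mul.mp h'
      · exfalso
        apply hzR
        have := mul_mem (hX.normal h hhx b hbx) (inv_mem hbx)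
        rwa [h', mul_inv_cancel_right] at this
    rcases hz.four_of_forall_commute hxQ hxx hbz hcK with h | h | h | h
    · exact Or.inl h
    · exact absurd (h ▸ hbx) hzR
    · exact Or.inr h
    · exfalso; apply hzR
      have := mul_mem hbx hX.mem
      rwa [h, mul_assoc, hxx, mul_one] at this
  -- each element of `K` moves `r` inside `r · C(z)`
  have hK : ∀ a ∈ Q z, a * x = x * a → ∀ r ∈ Q x,
      (r⁻¹ * (a * r * a⁻¹)) * z = z * (r⁻¹ * (a * r * a⁻¹)) ∧
      ∀ w ∈ Q x, w * z = z * w → r⁻¹ * (a * r * a⁻¹) * w = w * (r⁻¹ * (a * r * a⁻¹)) := by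
    intro a ha hax r hr
    have hall : ∀ w ∈ Q x, w * z = z * w →
        r⁻¹ * (a * r * a⁻¹) * w = w * (r⁻¹ * (a * r * a⁻¹)) := by
      intro w hw hwz
      obtain ⟨ε, hε, haw⟩ : ∃ ε, (ε = 1 ∨ ε = x) ∧ a * w * a⁻¹ = ε * w := by
        refine ⟨a * w * a⁻¹ * w⁻¹, hB _ ?_ ?_, by group⟩
        · rw [mul_assoc a w, mul_assoc a]
          exact mul_mem ha (hz.normal w hwz a⁻¹ (inv_mem ha))
        · exact mul_mem (hX.normal a hax w hw) (inv_mem hw)
      obtain ⟨e, hee, he⟩ : ∃ e, (e = 1 ∨ e = x) ∧ r * w * r⁻¹ = e * w := by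
        rcases hX.comm r hr w hw with h | h
        · exact ⟨1, Or.inl rfl, by rw [h, one_mul]⟩
        · exact ⟨x, Or.inr rfl, h⟩
      have cent : ∀ d, (d = 1 ∨ d = x) → a * d * a⁻¹ = d ∧ (∀ p ∈ Q x, p * d = d * p) := by
        rintro d (rfl | rfl)
        · exact ⟨by group, fun p _ => by rw [one_mul, mul_one]⟩
        · exact ⟨by rw [hax, mul_inv_cancel_right], fun p hp => hX.commute_self p hp⟩
      have hεQ : ε ∈ Q x := by rcases hε with rfl | rfl; exacts [one_mem _, hX.mem]
      have haR := hX.normal a hax r hr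
      obtain ⟨r', hr'⟩ : ∃ r', r' = a * r * a⁻¹ := ⟨_, rfl⟩
      rw [← hr'] at haR ⊢
      have h1 : r' * (ε * w) * r'⁻¹ = e * (ε * w) := by
        rw [← haw, hr']
        calc a * r * a⁻¹ * (a * w * a⁻¹) * (a * r * a⁻¹)⁻¹ = a * (r * w * r⁻¹) * a⁻¹ := by group
          _ = (a * e * a⁻¹) * (a * w * a⁻¹) := by rw [he]; group
          _ = e * (a * w * a⁻¹) := by rw [(cent e hee).1]
      have h2 : r' * w * r'⁻¹ = e * w := by
        have h3 : r' * ε = ε * r' := (cent ε hε).2 r' haR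
        have h4 : e * ε = ε * e := by
          rcases hee with rfl | rfl
          · rw [one_mul, mul_one]
          · exact (hX.commute_self ε hεQ).symm
        apply mul_left_cancel (a := ε)
        calc ε * (r' * w * r'⁻¹) = r' * (ε * w) * r'⁻¹ := by
              rw [← mul_assoc r' ε w, h3]; group
          _ = ε * (e * w) := by rw [h1, ← mul_assoc, h4, mul_assoc]
      calc r⁻¹ * r' * w = r⁻¹ * (r' * w * r'⁻¹) * r' := by group
        _ = r⁻¹ * (r * w * r⁻¹) * r' := by rw [h2, he]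
        _ = w * (r⁻¹ * r') := by group
    exact ⟨hW _ (mul_mem (inv_mem hr) (hX.normal a hax r hr)) hall, hall⟩
  -- `K` is abelian
  have hab : ∀ a ∈ Q z, a * x = x * a → ∀ b ∈ Q z, b * x = x * b → b * a = a * b := by
    intro a ha hax b hb hbx
    rcases hz.comm a ha b hb with h | h
    · exact (mul_inv_eq_iff_eq_mul.mp h).symm
    exfalso
    have habz : a * b = z * (b * a) := by rw [mul_inv_eq_iff_eq_mul.mp h, mul_assoc]
    apply hzR
    refine hX.self_centralizing z fun p hp => ?_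
    obtain ⟨r, hr, hrp⟩ : ∃ r ∈ Q x, b * a * r * (b * a)⁻¹ = p := by
      have hbax : (b * a)⁻¹ * x = x * (b * a)⁻¹ :=
        ((show Commute b x from hbx).mul_left (show Commute a x from hax)).inv_left.eq
      exact ⟨(b * a)⁻¹ * p * ((b * a)⁻¹)⁻¹, hX.normal _ hbax p hp, by group⟩
    obtain ⟨ta, hta⟩ : ∃ t, t = r⁻¹ * (a * r * a⁻¹) := ⟨_, rfl⟩
    obtain ⟨tb, htb⟩ : ∃ t, t = r⁻¹ * (b * r * b⁻¹) := ⟨_, rfl⟩
    have htaR : ta ∈ Q x := hta ▸ mul_mem (inv_mem hr) (hX.normal a hax r hr)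
    have htbR : tb ∈ Q x := htb ▸ mul_mem (inv_mem hr) (hX.normal b hbx r hr)
    have htaz : ta * z = z * ta := hta ▸ (hK a ha hax r hr).1
    have htbz : tb * z = z * tb := htb ▸ (hK b hb hbx r hr).1
    have htab : ta * tb = tb * ta := hta ▸ (hK a ha hax r hr).2 tb htbR htbz
    have eps : ∀ c ∈ Q z, c * x = x * c → ∀ w ∈ Q x, w * z = z * w →
        ∃ ε, (ε = 1 ∨ ε = x) ∧ c * w * c⁻¹ = ε * w := by
      intro c hc hcx w hw hwz
      refine ⟨c * w * c⁻¹ * w⁻¹, hB _ ?_ ?_, by group⟩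
      · rw [mul_assoc c w, mul_assoc c]
        exact mul_mem hc (hz.normal w hwz c⁻¹ (inv_mem hc))
      · exact mul_mem (hX.normal c hcx w hw) (inv_mem hw)
    obtain ⟨ε, hε, haε⟩ := eps a ha hax tb htbR htbz
    obtain ⟨δ, hδ, hbδ⟩ := eps b hb hbx ta htaR htaz
    have cent : ∀ d, (d = 1 ∨ d = x) → ∀ t ∈ Q x, t * d = d * t := by
      rintro d (rfl | rfl) t ht
      · rw [one_mul, mul_one]
      · exact hX.commute_self t ht
    have eab : z * p * z⁻¹ = r * ta * (ε * tb) := by
      rw [← hrp, ← haε, hta, htb]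
      calc z * (b * a * r * (b * a)⁻¹) * z⁻¹ = (z * (b * a)) * r * (z * (b * a))⁻¹ := by group
        _ = (a * b) * r * (a * b)⁻¹ := by rw [← habz]
        _ = r * (r⁻¹ * (a * r * a⁻¹)) * (a * (r⁻¹ * (b * r * b⁻¹)) * a⁻¹) := by group
    have eba : p = r * tb * (δ * ta) := by
      rw [← hrp, ← hbδ, hta, htb]; group
    have hsame : z * p * z⁻¹ = ε * δ * p := by
      have hδQ : δ ∈ Q x := by rcases hδ with rfl | rfl; exacts [one_mem _, hX.mem]
      have hεQ : ε ∈ Q x := by rcases hε with rfl | rfl; exacts [one_mem _, hX.mem]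
      have hδδ : δ * δ = 1 := by rcases hδ with rfl | rfl; exacts [one_mul 1, hxx]
      rw [eab, eba]
      calc r * ta * (ε * tb) = r * (ta * ε) * tb := by group
        _ = r * ε * (ta * tb) := by rw [cent ε hε ta htaR]; group
        _ = ε * (δ * δ) * r * (tb * ta) := by rw [hδδ, cent ε hε r hr, htab, mul_one]
        _ = ε * δ * (δ * (r * tb)) * ta := by group
        _ = ε * δ * ((r * tb) * δ) * ta := by rw [cent δ hδ (r * tb) (mul_mem hr htbR)]
        _ = ε * δ * (r * tb * (δ * ta)) := by group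
    have : p * z = z * p := by
      refine fixz p hp ?_
      rw [hsame]
      rcases hε with rfl | rfl <;> rcases hδ with rfl | rfl
      · left; rw [one_mul, one_mul]
      · right; rw [one_mul]
      · right; rw [mul_one]
      · left; rw [hxx, one_mul]
    exact this.symm
  have hsmall : ∀ h ∈ Q z, h * x = x * h → h = 1 ∨ h = z ∨ h = x ∨ h = z * x :=
    fun h hh hhx => hz.four_of_forall_commute hxQ hxx hh (fun k hk hkx => hab h hh hhx k hk hkx)
  have hqq : q * q = 1 ∨ q * q = z := hz.sq_mem hq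
  obtain ⟨y, hy, hyy, hyx⟩ : ∃ y ∈ Q z, y * y = z ∧ y * x * y⁻¹ = z * x := by
    rcases hqq with h | h
    · refine ⟨q * x, mul_mem hq hxQ, ?_, ?_⟩
      · calc q * x * (q * x) = (q * x * q⁻¹) * (q * q) * x := by group
          _ = z := by rw [hqx, h, mul_one, mul_assoc, hxx, mul_one]
      · calc q * x * x * (q * x)⁻¹ = q * (x * x) * x⁻¹ * q⁻¹ := by group
          _ = z * x := by rw [hxx, mul_one, inv_eq_of_mul_eq_one_right hxx, hqx]
    · exact ⟨q, hq, h, hqx⟩
  have hall : ∀ t : G, t * x = x * t → t ^ 16 = 1 := by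
    intro t ht
    have h1 : g⁻¹ * t * g * z = z * (g⁻¹ * t * g) := by
      calc g⁻¹ * t * g * z = g⁻¹ * (t * (g * z * g⁻¹)) * g := by group
        _ = z * (g⁻¹ * t * g) := by rw [← hx, ht, hx]; group
    have h3 := hz.pow_sixteen_of_small hxQ hxx hX.ne_one hxz hy hyy hyx hsmall _ h1
    calc t ^ 16 = (g * (g⁻¹ * t * g) * g⁻¹) ^ 16 := by
          rw [show g * (g⁻¹ * t * g) * g⁻¹ = t by group]
      _ = 1 := by rw [conj_pow, h3]; group
  exact hzR (h2 x hall z hzxc)

end CfsgLib.Sporadic.Singular
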