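import Mathlib
import Cfsg.Agent.Lib.Sporadic.ThreeGen

/-!
Groups `X = P⟨d⟩` (`P` a normal 3-group) generated by a class of involutions, acting faithfully
on an elementary abelian 2-group `W` so that a product of two distinct class members fixes only
vectors fixed by both: `X` is generated by a triple of `ThreeGen` relations, of order 6 or 54.
-/

set_option autoImplicit false

namespace CfsgLib.ThreeTwoClassify

/-- In a finite nilpotent group generated by a conjugacy class, one member generates. -/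
theorem zpowers_eq_top_of_class {G : Type*} [Group G] [Finite G] [Group.IsNilpotent G] {d : G}
    (h : Subgroup.closure (conjugatesOf d) = ⊤) : Subgroup.zpowers d = ⊤ := by
  by_contra hne
  obtain ⟨M, hM, hle⟩ := (eq_top_or_exists_le_coatom (Subgroup.zpowers d)).resolve_left hne
  have hn : M.Normal := Subgroup.NormalizerCondition.normal_of_coatom M
    Group.normalizerCondition_of_isNilpotent hM
  refine hM.1 (eq_top_iff.2 (h ▸ (Subgroup.closure_le _).2 ?_))
  intro x hx
  obtain ⟨c, rfl⟩ := isConj_iff.1 (show IsConj d x from hx)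
  exact hn.conj_mem d (hle (Subgroup.mem_zpowers d)) c

variable {X W : Type*} [Group X] [Finite X] [CommGroup W]

/-- If an involution-like element fixes the fixed points of the four lines of `⟨s, t⟩`, it fixes all. -/
theorem fix_all (ρ : X →* MulAut W) (hW : ∀ w : W, w * w = 1) {r s t : X} (U : Subgroup W)
    (hs : s * s * s = 1) (ht : t * t * t = 1)
    (hst : ∀ u ∈ U, ρ (t * s) u = ρ (s * t) u)
    (hsU : ∀ u ∈ U, ρ s u ∈ U) (htU : ∀ u ∈ U, ρ t u ∈ U)
    (h1 : ∀ u ∈ U, ρ s u = u → ρ r u = u) (h2 : ∀ u ∈ U, ρ t u = u → ρ r u = u)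
    (h3 : ∀ u ∈ U, ρ (s * t) u = u → ρ r u = u)
    (h4 : ∀ u ∈ U, ρ (s * s * t) u = u → ρ r u = u) : ∀ u ∈ U, ρ r u = u := by
  set S := ρ s with hS
  set T := ρ t with hT
  have S3 : ∀ u, S (S (S u)) = u := fun u => by
    have := congrArg (fun g => ρ g u) hs
    simpa [hS] using this
  have T3 : ∀ u, T (T (T u)) = u := fun u => by
    have := congrArg (fun g => ρ g u) ht
    simpa [hT] using this
  have TS : ∀ u ∈ U, T (S u) = S (T u) := fun u hu => by
    simpa [hS, hT] using hst u hu
  intro u hu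
  have mS : ∀ v ∈ U, S v ∈ U := hsU
  have mT : ∀ v ∈ U, T v ∈ U := htU
  -- the nine translates
  have e00 := hu
  have e10 := mS _ e00
  have e20 := mS _ e10
  have e01 := mT _ e00
  have e02 := mT _ e01
  have e11 := mS _ e01
  have e21 := mS _ e11
  have e12 := mS _ e02
  have e22 := mS _ e12
  have TS2 : ∀ v ∈ U, T (S (S v)) = S (S (T v)) := fun v hv => by
    rw [TS _ (mS v hv), TS v hv]
  set Ns := u * S u * S (S u) with hNs
  set Nt := u * T u * T (T u) with hNt
  set Nst := u * S (T u) * S (S (T (T u))) with hNst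
  set Nst' := u * S (S (T u)) * S (T (T u)) with hNst'
  set Na := (u * S u * S (S u)) * (T u * S (T u) * S (S (T u))) *
    (T (T u) * S (T (T u)) * S (S (T (T u)))) with hNa
  have mNs : Ns ∈ U := mul_mem (mul_mem e00 e10) e20
  have mNt : Nt ∈ U := mul_mem (mul_mem e00 e01) e02
  have mNst : Nst ∈ U := mul_mem (mul_mem e00 e11) e22
  have mNst' : Nst' ∈ U := mul_mem (mul_mem e00 e21) e12
  have mNa : Na ∈ U := mul_mem (mul_mem (mul_mem (mul_mem e00 e10) e20)
    (mul_mem (mul_mem e01 e11) e21)) (mul_mem (mul_mem e02 e12) e22)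
  have f1 : ρ r Ns = Ns := h1 _ mNs (by
    show S Ns = Ns
    simp only [hNs, map_mul, S3]
    ac_rfl)
  have f2 : ρ r Nt = Nt := h2 _ mNt (by
    show T Nt = Nt
    simp only [hNt, map_mul, T3]
    ac_rfl)
  have f3 : ρ r Nst = Nst := h3 _ mNst (by
    show ρ (s * t) Nst = Nst
    simp only [map_mul, MulAut.mul_apply, ← hS, ← hT, hNst]
    rw [TS _ e01, TS2 _ e02, T3]
    simp only [S3]
    ac_rfl)
  have f4 : ρ r Nst' = Nst' := h4 _ mNst' (by
    show ρ (s * s * t) Nst' = Nst'
    simp only [map_mul, MulAut.mul_apply, ← hS, ← hT, hNst']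
    rw [TS2 _ e01, TS _ e02, T3]
    simp only [S3]
    ac_rfl)
  have f5 : ρ r Na = Na := h1 _ mNa (by
    show S Na = Na
    simp only [hNa, map_mul, S3]
    ac_rfl)
  have hprod : Ns * Nt * Nst * Nst' = u * Na := by
    have h3' : u * u * u = u := by rw [hW, one_mul]
    calc Ns * Nt * Nst * Nst' = (u * u * u) * Na := by
          simp only [hNs, hNt, hNst, hNst', hNa]; ac_rfl
      _ = u * Na := by rw [h3']
  have : ρ r (u * Na) = u * Na := by rw [← hprod, map_mul, map_mul, map_mul, f1, f2, f3, f4]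
  rw [map_mul, f5] at this
  exact mul_right_cancel this

/-- The classification. -/
theorem classify (ρ : X →* MulAut W) (hρ : Function.Injective ρ) (hW : ∀ w : W, w * w = 1)
    (D : Set X) (hD2 : ∀ x ∈ D, x * x = 1) (hD1 : ∀ x ∈ D, x ≠ 1)
    (hDne : ∃ d, d ∈ D ∧ D = conjugatesOf d) (hgen : Subgroup.closure D = ⊤)
    (hprod : ∀ x ∈ D, ∀ y ∈ D, (x * y) ^ 2 = 1 ∨ (x * y) ^ 3 = 1)
    (P : Subgroup X) [P.Normal] (hP : IsPGroup 3 P) (hP1 : P ≠ ⊥) (hPi : ∃ k, P.index = 2 ^ k)
    (key : ∀ x ∈ D, ∀ y ∈ D, x ≠ y → ∀ w, ρ (x * y) w = w → ρ x w = w) :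
    (∃ d a : X, d * d = 1 ∧ a * a * a = 1 ∧ a ≠ 1 ∧ d ≠ 1 ∧ d * a = a * a * d ∧
      Subgroup.closure ({d, a} : Set X) = ⊤) ∨
    ∃ d a b : X, ThreeGen.Rel d a b ∧ d ≠ 1 ∧ a * b ≠ b * a ∧
      Subgroup.closure ({d, a, b} : Set X) = ⊤ := by
  classical
  have : Fact (Nat.Prime 2) := ⟨Nat.prime_two⟩
  have : Fact (Nat.Prime 3) := ⟨Nat.prime_three⟩
  obtain ⟨d, hdD, hcls⟩ := hDne
  have dd := hD2 d hdD
  have dinv : d⁻¹ = d := inv_eq_of_mul_eq_one_left dd
  have p3 : ∀ x : X, x ^ 3 = x * x * x := fun x => by rw [pow_succ, pow_two]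
  have conjD : ∀ x ∈ D, ∀ g, g * x * g⁻¹ ∈ D := by
    intro x hx g
    rw [hcls] at hx ⊢
    exact IsConj.trans (show IsConj d x from hx) (isConj_iff.2 ⟨g, rfl⟩)
  -- elements of odd order
  have odd_eq_one : ∀ x ∈ P, x * x = 1 → x = 1 := by
    intro x hx hxx
    obtain ⟨m, hm⟩ := hP ⟨x, hx⟩
    have hm' : x ^ 3 ^ m = 1 := by simpa using congrArg Subtype.val hm
    obtain ⟨r, hr⟩ : Odd (3 ^ m) := Odd.pow (by decide)
    rwa [hr, pow_succ, pow_mul, pow_two, hxx, one_pow, one_mul] at hm'
  have dP : d ∉ P := fun h => hD1 d hdD (odd_eq_one d h dd)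
  -- `X = P ∪ P d`
  have hcover : ∀ x, x ∈ P ∨ x * d ∈ P := by
    obtain ⟨k, hk⟩ := hPi
    have hp2 : IsPGroup 2 (X ⧸ P) := IsPGroup.of_card (n := k) (by rw [← hk]; rfl)
    have := hp2.isNilpotent
    have htop : Subgroup.zpowers (d : X ⧸ P) = ⊤ := by
      refine zpowers_eq_top_of_class (eq_top_iff.2 ?_)
      rw [← MonoidHom.range_eq_top.2 (QuotientGroup.mk'_surjective P), MonoidHom.range_eq_map,
        ← hgen, MonoidHom.map_closure]
      refine Subgroup.closure_mono ?_
      rintro _ ⟨x, hx, rfl⟩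
      rw [hcls] at hx
      obtain ⟨c, rfl⟩ := isConj_iff.1 (show IsConj d x from hx)
      exact isConj_iff.2 ⟨QuotientGroup.mk' P c, by simp⟩
    intro x
    obtain ⟨n, hn⟩ := Subgroup.mem_zpowers_iff.1 (htop ▸ Subgroup.mem_top (x : X ⧸ P))
    have hd2 : (d : X ⧸ P) ^ (2 : ℤ) = 1 := by
      rw [← QuotientGroup.mk_zpow, zpow_two, dd, QuotientGroup.mk_one]
    rcases Int.even_or_odd n with ⟨m, rfl⟩ | ⟨m, rfl⟩
    · left
      rw [← two_mul, zpow_mul, hd2, one_zpow, eq_comm, QuotientGroup.eq_one_iff] at hn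
      exact hn
    · right
      rw [zpow_add, zpow_mul, hd2, one_zpow, one_mul, zpow_one] at hn
      rw [← QuotientGroup.eq_one_iff, QuotientGroup.mk_mul, ← hn, ← QuotientGroup.mk_mul, dd,
        QuotientGroup.mk_one]
  have hPn : P.Normal := inferInstance
  have notP : ∀ x ∈ D, x ∉ P := fun x hx h => hD1 x hx (odd_eq_one x h (hD2 x hx))
  have mulP : ∀ x ∈ D, ∀ y ∈ D, x * y ∈ P := by
    intro x hx y hy
    have h1 := (hcover x).resolve_left (notP x hx)
    have h2 := (hcover y).resolve_left (notP y hy)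
    have h3 := inv_mem h2
    rw [mul_inv_rev, inv_eq_of_mul_eq_one_left (hD2 y hy), dinv] at h3
    have := mul_mem h1 h3
    rwa [← mul_assoc, mul_assoc x d d, dd, mul_one] at this
  have hcube : ∀ x ∈ D, ∀ y ∈ D, (x * y) ^ 3 = 1 := by
    intro x hx y hy
    rcases hprod x hx y hy with h | h
    · rw [odd_eq_one _ (mulP x hx y hy) (by rw [← pow_two]; exact h), one_pow]
    · exact h
  -- inverted elements
  set I : Set X := {y | y ∈ P ∧ d * y * d = y⁻¹} with hI
  have mulD : ∀ y ∈ I, d * y ∈ D := by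
    rintro y ⟨hy, hdy⟩
    obtain ⟨m, hm⟩ := hP ⟨y, hy⟩
    have hm' : y ^ 3 ^ m = 1 := by simpa using congrArg Subtype.val hm
    obtain ⟨r, hr⟩ : Odd (3 ^ m) := Odd.pow (by decide)
    set z := y ^ (r + 1) with hz
    have hzz : z * z = y := by
      rw [hz, ← pow_add, show r + 1 + (r + 1) = 3 ^ m + 1 by omega, pow_succ, hm', one_mul]
    have hdz : d * z * d = z⁻¹ := by
      have := conj_pow (a := d) (b := y) (i := r + 1)
      rw [dinv, hdy, inv_pow] at this
      exact this.symm
    have h := conjD d hdD z⁻¹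
    rw [inv_inv] at h
    have : z⁻¹ * d * z = d * y := by
      rw [← hdz, mul_assoc (d * z) d d, dd, mul_one, mul_assoc, hzz]
    rwa [this] at h
  have memI : ∀ e ∈ D, d * e ∈ I := by
    intro e he
    refine ⟨mulP d hdD e he, ?_⟩
    rw [mul_inv_rev, dinv, inv_eq_of_mul_eq_one_left (hD2 e he), ← mul_assoc, dd, one_mul]
  have cubeI : ∀ y ∈ I, y * y * y = 1 := by
    intro y hy
    have := hcube d hdD _ (mulD y hy)
    rwa [← mul_assoc, dd, one_mul, p3] at this
  have oneI : (1 : X) ∈ I := ⟨P.one_mem, by simp [dd]⟩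
  have invI : ∀ y ∈ I, y * y ∈ I := fun y hy => ⟨mul_mem hy.1 hy.1, by
    rw [mul_inv_rev, ← hy.2, show d * (y * y) * d = d * y * (d * d) * y * d by
      rw [dd]; group]
    simp only [mul_assoc]⟩
  have sandI : ∀ g ∈ I, ∀ h ∈ I, g * h * g ∈ I := fun g hg h hh =>
    ⟨mul_mem (mul_mem hg.1 hh.1) hg.1, by
      rw [mul_inv_rev, mul_inv_rev, ← hg.2, ← hh.2]
      calc d * (g * h * g) * d = d * g * (d * d) * h * (d * d) * g * d := by rw [dd]; group
        _ = d * g * d * (d * h * d * (d * g * d)) := by simp only [mul_assoc]⟩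
  have dfix : ∀ y ∈ I, y ≠ 1 → ∀ w, ρ y w = w → ρ d w = w := by
    intro y hy hy1 w hw
    refine key d hdD _ (mulD y hy) ?_ w (by rw [← mul_assoc, dd, one_mul]; exact hw)
    intro h
    exact hy1 (mul_left_cancel (a := d) (by rw [mul_one]; exact h.symm))
  -- no rank two commuting part
  have noPair : ∀ a ∈ I, ∀ b ∈ I, a * b = b * a → a ≠ 1 → b = 1 ∨ b = a ∨ b = a * a := by
    intro a ha b hb hab ha1
    by_contra hc
    push Not at hc
    obtain ⟨hb1, hba, hbaa⟩ := hc
    have hA := cubeI a ha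
    have habI : a * b ∈ I := ⟨mul_mem ha.1 hb.1, by
      rw [mul_inv_rev, show d * (a * b) * d = d * a * (d * d) * b * d by rw [dd]; group,
        show d * a * (d * d) * b * d = (d * a * d) * (d * b * d) by group, ha.2, hb.2,
        ← mul_inv_rev, ← mul_inv_rev, hab]⟩
    have haab : a * a * b ∈ I := ⟨mul_mem (mul_mem ha.1 ha.1) hb.1, by
      rw [show d * (a * a * b) * d = d * a * (d * d) * a * (d * d) * b * d by rw [dd]; group,
        show d * a * (d * d) * a * (d * d) * b * d = (d * a * d) * (d * a * d) * (d * b * d) by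
          group, ha.2, hb.2, ← mul_inv_rev, ← mul_inv_rev, ← mul_assoc,
        ← hab, mul_assoc, ← hab, ← mul_assoc]⟩
    have hnab : a * b ≠ 1 := fun h => hbaa (mul_left_cancel (a := a) (by
      rw [h, ← mul_assoc, hA]))
    have hnaab : a * a * b ≠ 1 := fun h => hba (mul_left_cancel (a := a * a) (by rw [h, hA]))
    have hall := fix_all ρ hW (r := d) ⊤ hA (cubeI b hb) (fun u _ => by rw [hab])
      (fun _ _ => trivial) (fun _ _ => trivial) (fun u _ => dfix a ha ha1 u)
      (fun u _ => dfix b hb hb1 u) (fun u _ => dfix _ habI hnab u)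
      (fun u _ => dfix _ haab hnaab u)
    exact hD1 d hdD (hρ (MulEquiv.ext fun u => by simp [hall u trivial]))
  have Dgen : ∀ S : Set X, d ∈ S → I ⊆ (Subgroup.closure S : Set X) →
      Subgroup.closure S = ⊤ := by
    intro S hdS hIS
    refine eq_top_iff.2 (hgen ▸ (Subgroup.closure_le _).2 fun e he => ?_)
    have := mul_mem (Subgroup.subset_closure hdS) (hIS (memI e he))
    rwa [← mul_assoc, dd, one_mul] at this
  by_cases hcomm : ∀ a ∈ I, ∀ b ∈ I, a * b = b * a
  · left
    obtain ⟨a, ha, ha1⟩ : ∃ a ∈ I, a ≠ 1 := by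
      by_contra hno
      push Not at hno
      have htop : Subgroup.zpowers d = ⊤ := by
        rw [Subgroup.zpowers_eq_closure]
        exact Dgen {d} rfl (fun y hy => by rw [hno y hy]; exact Subgroup.one_mem _)
      refine hP1 ((Subgroup.eq_bot_iff_forall _).2 fun x hx => odd_eq_one x hx ?_)
      obtain ⟨n, rfl⟩ := Subgroup.mem_zpowers_iff.1 (htop ▸ Subgroup.mem_top x)
      rw [← zpow_add, ← two_mul, zpow_mul, zpow_two, dd, one_zpow]
    refine ⟨d, a, dd, cubeI a ha, ha1, hD1 d hdD, ?_, Dgen _ (by simp) fun b hb => ?_⟩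
    · have h := ha.2
      rw [inv_eq_of_mul_eq_one_left (cubeI a ha)] at h
      rw [← h, mul_assoc (d * a) d d, dd, mul_one]
    · have hma : a ∈ Subgroup.closure ({d, a} : Set X) := Subgroup.subset_closure (by simp)
      rcases noPair a ha b hb (hcomm a ha b hb) ha1 with rfl | rfl | rfl
      exacts [Subgroup.one_mem _, hma, mul_mem hma hma]
  right
  push Not at hcomm
  -- `P` is generated by `I`
  have PgenI : ∀ c : X, (∀ h ∈ I, c * h = h * c) → ∀ g ∈ P, c * g = g * c := by
    intro c hc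
    set J := Subgroup.closure I with hJ
    have hJc : ∀ g ∈ J, c * g = g * c := by
      have : J ≤ Subgroup.centralizer {c} := (Subgroup.closure_le _).2 fun h hh =>
        Subgroup.mem_centralizer_singleton_iff.2 (hc h hh).symm
      exact fun g hg => (Subgroup.mem_centralizer_singleton_iff.1 (this hg)).symm
    have hJP : J ≤ P := (Subgroup.closure_le _).2 fun h hh => hh.1
    have hJd : ∀ g ∈ J, d * g * d ∈ J := by
      intro g hg
      induction hg using Subgroup.closure_induction with
      | mem h hh => rw [hh.2]; exact inv_mem (Subgroup.subset_closure hh)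
      | one => simp [dd, J.one_mem]
      | mul u v _ _ hu hv =>
        have : d * (u * v) * d = d * u * d * (d * v * d) := by
          calc d * (u * v) * d = d * u * (d * d) * v * d := by rw [dd]; group
            _ = _ := by simp only [mul_assoc]
        rw [this]; exact mul_mem hu hv
      | inv u _ hu =>
        have : d * u⁻¹ * d = (d * u * d)⁻¹ := by rw [mul_inv_rev, mul_inv_rev, dinv, mul_assoc]
        rw [this]; exact inv_mem hu
    have hcov : ∀ x, x ∈ J ∨ x * d ∈ J := by
      intro x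
      have hx : x ∈ Subgroup.closure (insert d I) :=
        (Dgen (insert d I) (Set.mem_insert _ _)
          (fun y hy => Subgroup.subset_closure (Set.mem_insert_of_mem _ hy))).symm ▸ Subgroup.mem_top x
      induction hx using Subgroup.closure_induction_right with
      | one => exact Or.inl J.one_mem
      | mul_right u _ v hv hu =>
        rcases hv with rfl | hv
        · rcases hu with hu | hu
          · exact Or.inr (by rwa [mul_assoc, dd, mul_one])
          · exact Or.inl hu
        · rcases hu with hu | hu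
          · exact Or.inl (mul_mem hu (Subgroup.subset_closure hv))
          · refine Or.inr ?_
            have := mul_mem hu (hJd v (Subgroup.subset_closure hv))
            rwa [← mul_assoc, ← mul_assoc, mul_assoc u d d, dd, mul_one] at this
      | mul_inv_cancel u _ v hv hu =>
        rcases hv with rfl | hv
        · rw [dinv]
          rcases hu with hu | hu
          · exact Or.inr (by rwa [mul_assoc, dd, mul_one])
          · exact Or.inl hu
        · rcases hu with hu | hu
          · exact Or.inl (mul_mem hu (inv_mem (Subgroup.subset_closure hv)))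
          · refine Or.inr ?_
            have := mul_mem hu (hJd _ (inv_mem (Subgroup.subset_closure hv)))
            rwa [← mul_assoc, ← mul_assoc, mul_assoc u d d, dd, mul_one] at this
    intro g hg
    rcases hcov g with h | h
    · exact hJc g h
    · exfalso
      have := mul_mem (inv_mem hg) (hJP h)
      rw [inv_mul_cancel_left] at this
      exact dP this
  -- an inverted element of the second centre
  set Z := Subgroup.center P with hZ
  have memZ : ∀ c : X, c ∈ Z.map P.subtype ↔ c ∈ P ∧ ∀ g ∈ P, c * g = g * c := by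
    intro c
    constructor
    · rintro ⟨⟨c, hc⟩, hcz, rfl⟩
      exact ⟨hc, fun g hg => (congrArg Subtype.val (Subgroup.mem_center_iff.1 hcz ⟨g, hg⟩)).symm⟩
    · rintro ⟨hc, hh⟩
      exact ⟨⟨c, hc⟩, Subgroup.mem_center_iff.2 fun g => Subtype.ext (hh g g.2).symm, rfl⟩
  set Z₀ := Z.map P.subtype with hZ₀
  have hZchar : Z₀.Normal := by
    refine ⟨fun c hc g => ?_⟩
    obtain ⟨hcP, hcc⟩ := (memZ c).1 hc
    refine (memZ _).2 ⟨hPn.conj_mem c hcP g, fun h hh => ?_⟩
    have h' := hPn.conj_mem h hh g⁻¹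
    rw [inv_inv] at h'
    have := hcc _ h'
    calc g * c * g⁻¹ * h = g * (c * (g⁻¹ * h * g)) * g⁻¹ := by group
      _ = g * ((g⁻¹ * h * g) * c) * g⁻¹ := by rw [this]
      _ = h * (g * c * g⁻¹) := by group
  obtain ⟨y, hyP, hyZ, hy2⟩ : ∃ y ∈ P, y ∉ Z₀ ∧ ∀ g ∈ P, y * g * y⁻¹ * g⁻¹ ∈ Z₀ := by
    have hZtop : Z ≠ ⊤ := by
      intro h
      obtain ⟨a, ha, b, hb, hab⟩ := hcomm
      have : (⟨a, ha.1⟩ : P) ∈ Z := h ▸ Subgroup.mem_top _
      exact hab (congrArg Subtype.val (Subgroup.mem_center_iff.1 this ⟨b, hb.1⟩)).symm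
    have : Nontrivial (P ⧸ Z) := by
      rw [← not_subsingleton_iff_nontrivial, QuotientGroup.subsingleton_iff]
      exact hZtop
    have := (hP.to_quotient Z).center_nontrivial
    obtain ⟨⟨yq, hyq⟩, hne⟩ := exists_ne (1 : Subgroup.center (P ⧸ Z))
    obtain ⟨y, rfl⟩ := QuotientGroup.mk'_surjective Z yq
    refine ⟨y, y.2, ?_, fun g hg => ?_⟩
    · intro hy
      obtain ⟨c, hc, hcy⟩ := hy
      have : c = y := Subtype.ext hcy
      subst this
      exact hne (Subtype.ext ((QuotientGroup.eq_one_iff _).2 hc))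
    · refine ⟨y * ⟨g, hg⟩ * y⁻¹ * ⟨g, hg⟩⁻¹, ?_, rfl⟩
      show y * ⟨g, hg⟩ * y⁻¹ * ⟨g, hg⟩⁻¹ ∈ Z
      rw [← QuotientGroup.eq_one_iff, ← QuotientGroup.mk'_apply, map_mul, map_mul, map_mul,
        map_inv, map_inv, ← Subgroup.mem_center_iff.1 hyq (QuotientGroup.mk' Z ⟨g, hg⟩)]
      group
  have Zfix : ∀ y' ∈ P, (∀ g ∈ P, y' * g * y'⁻¹ * g⁻¹ ∈ Z₀) → d * y' * d = y' → y' ∈ Z₀ := by
    intro c hcP hc2 hcd
    refine (memZ c).2 ⟨hcP, PgenI c fun h hh => ?_⟩
    rcases eq_or_ne h 1 with rfl | hh1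
    · simp
    have hcd' : d * c = c * d := by
      conv_rhs => rw [← hcd]
      rw [mul_assoc (d * c) d d, dd, mul_one]
    have hh' : c * h * c⁻¹ ∈ I := ⟨mul_mem (mul_mem hcP hh.1) (inv_mem hcP), by
      calc d * (c * h * c⁻¹) * d = (d * c) * h * (c⁻¹ * d⁻¹) := by rw [dinv]; group
        _ = (d * c) * h * (d * c)⁻¹ := by rw [← mul_inv_rev]
        _ = (c * d) * h * (c * d)⁻¹ := by rw [hcd']
        _ = c * (d * h * d) * c⁻¹ := by rw [mul_inv_rev, dinv]; group
        _ = (c * h * c⁻¹)⁻¹ := by rw [hh.2]; group⟩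
    obtain ⟨-, hcz⟩ := (memZ _).1 (hc2 h hh.1)
    have hcm : h * (c * h * c⁻¹) = c * h * c⁻¹ * h := by
      have := hcz h hh.1
      calc h * (c * h * c⁻¹) = h * (c * h * c⁻¹ * h⁻¹) * h := by group
        _ = c * h * c⁻¹ * h⁻¹ * h * h := by rw [← this]
        _ = c * h * c⁻¹ * h := by group
    rcases noPair h hh _ hh' hcm hh1 with e | e | e
    · exfalso
      apply hh1
      calc h = c⁻¹ * (c * h * c⁻¹) * c := by group
        _ = 1 := by rw [e]; group
    · exact mul_inv_eq_iff_eq_mul.1 e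
    · -- then `h` is central
      have hz : c * h * c⁻¹ * h⁻¹ = h := by rw [e, mul_assoc, mul_inv_cancel, mul_one]
      rw [hz] at hcz
      exact (hcz c hcP).symm
  obtain ⟨q, hqI, hqZ, hq2⟩ : ∃ q ∈ I, q ∉ Z₀ ∧ ∀ g ∈ P, q * g * q⁻¹ * g⁻¹ ∈ Z₀ := by
    have hdy : d * y * d ∈ P := by
      have := hPn.conj_mem y hyP d
      rwa [dinv] at this
    set q := y⁻¹ * (d * y * d) with hq
    have hqI : q ∈ I := ⟨mul_mem (inv_mem hyP) hdy, by
      rw [hq, mul_inv_rev, inv_inv]
      calc d * (y⁻¹ * (d * y * d)) * d = d * y⁻¹ * d * y * (d * d) := by group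
        _ = (d⁻¹ * y⁻¹ * d⁻¹) * y := by rw [dd, dinv, mul_one]
        _ = (d * y * d)⁻¹ * y := by group⟩
    have q3 := cubeI q hqI
    have conjy : ∀ g ∈ P, d * y * d * g * (d * y * d)⁻¹ * g⁻¹ ∈ Z₀ := by
      intro g hg
      have hg' : d * g * d ∈ P := by
        have := hPn.conj_mem g hg d
        rwa [dinv] at this
      have := hZchar.conj_mem _ (hy2 _ hg') d
      have hdd : d * (y * (d * g * d) * y⁻¹ * (d * g * d)⁻¹) * d⁻¹ =
          d * y * d * g * (d * y⁻¹ * d) * g⁻¹ * (d * d) := by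
        simp only [mul_inv_rev, dinv]; group
      rw [hdd, dd, mul_one] at this
      rwa [mul_inv_rev, mul_inv_rev, dinv, ← mul_assoc d y⁻¹ d]
    have hq2 : ∀ g ∈ P, q * g * q⁻¹ * g⁻¹ ∈ Z₀ := by
      intro g hg
      have hg2 : y⁻¹ * g * y ∈ P := mul_mem (mul_mem (inv_mem hyP) hg) hyP
      have A := conjy g hg
      have B := inv_mem (hy2 _ hg2)
      have A' := hZchar.conj_mem _ A y⁻¹
      have : q * g * q⁻¹ * g⁻¹ = y⁻¹ * (d * y * d * g * (d * y * d)⁻¹ * g⁻¹) * y⁻¹⁻¹ *
          (y * (y⁻¹ * g * y) * y⁻¹ * (y⁻¹ * g * y)⁻¹)⁻¹⁻¹⁻¹ := by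
        rw [hq]; group
      rw [this]
      exact mul_mem A' (by rw [inv_inv]; exact B)
    by_cases hqZ : q ∈ Z₀
    · exfalso
      obtain ⟨-, hqc⟩ := (memZ q).1 hqZ
      refine hyZ ?_
      have hy' : y * (q * q) ∈ Z₀ := by
        refine Zfix _ (mul_mem hyP (mul_mem hqI.1 hqI.1)) ?_ ?_
        · intro g hg
          have h1 : q * q * g * (q * q)⁻¹ = g := by
            rw [mul_inv_eq_iff_eq_mul, mul_assoc q q g, hqc g hg, ← mul_assoc, hqc g hg, mul_assoc]
          have : y * (q * q) * g * (y * (q * q))⁻¹ * g⁻¹ =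
              y * (q * q * g * (q * q)⁻¹) * y⁻¹ * g⁻¹ := by group
          rw [this, h1]
          exact hy2 g hg
        · have hdyd : d * y * d = y * q := by rw [hq]; group
          have hdqd : d * q * d = q * q := by
            rw [hqI.2, inv_eq_of_mul_eq_one_left q3]
          calc d * (y * (q * q)) * d = d * y * (d * d) * q * (d * d) * q * d := by rw [dd]; group
            _ = (d * y * d) * (d * q * d) * (d * q * d) := by group
            _ = y * (q * q) * (q * q * q) := by rw [hdyd, hdqd]; group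
            _ = y * (q * q) := by rw [q3, mul_one]
      have := mul_mem hy' (inv_mem (mul_mem hqZ hqZ))
      rwa [mul_inv_cancel_right] at this
    · exact ⟨q, hqI, hqZ, hq2⟩
  obtain ⟨b, hbI, hqb⟩ : ∃ b ∈ I, q * b ≠ b * q := by
    by_contra hno
    push Not at hno
    exact hqZ ((memZ q).2 ⟨hqI.1, PgenI q hno⟩)
  set c : X → X := fun g => q * g * q⁻¹ * g⁻¹ with hcdef
  have cZ : ∀ g ∈ P, ∀ h ∈ P, c g * h = h * c g := fun g hg => ((memZ _).1 (hq2 g hg)).2
  have cP : ∀ g ∈ P, c g ∈ P := fun g hg => ((memZ _).1 (hq2 g hg)).1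
  have cmul : ∀ g ∈ P, ∀ h ∈ P, c (g * h) = c g * c h := by
    intro g hg h hh
    calc c (g * h) = q * g * q⁻¹ * (c h) * g⁻¹ := by simp only [hcdef]; group
      _ = q * g * q⁻¹ * (g⁻¹ * c h) := by
          rw [mul_assoc _ (c h), cZ h hh _ (inv_mem hg)]
      _ = c g * c h := by simp only [hcdef]; group
  have c_eq : ∀ g, c g = 1 ↔ q * g = g * q := by
    intro g
    simp only [hcdef]
    rw [mul_inv_eq_one, mul_inv_eq_iff_eq_mul]
  have cpow : ∀ g ∈ P, ∀ n : ℕ, c (g ^ n) = c g ^ n := by
    intro g hg n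
    induction n with
    | zero => simp [hcdef]
    | succ n ih => rw [pow_succ, pow_succ, cmul _ (pow_mem hg n) _ hg, ih]
  have cinv : ∀ g ∈ I, d * c g * d = c g := by
    intro g hg
    have h1 : d * c g * d = (g * q)⁻¹ * (q * g) := by
      calc d * c g * d = (d * q * d) * (d * g * d) * (d * q⁻¹ * d) * (d * g⁻¹ * d) := by
            simp only [hcdef]
            calc d * (q * g * q⁻¹ * g⁻¹) * d
                = d * q * (d * d) * g * (d * d) * q⁻¹ * (d * d) * g⁻¹ * d := by rw [dd]; group
              _ = _ := by group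
        _ = _ := by
            have e1 : d * q⁻¹ * d = q := by
              have := congrArg (·⁻¹) hqI.2
              simpa [mul_inv_rev, dinv, mul_assoc] using this
            have e2 : d * g⁻¹ * d = g := by
              have := congrArg (·⁻¹) hg.2
              simpa [mul_inv_rev, dinv, mul_assoc] using this
            rw [hqI.2, hg.2, e1, e2]; group
    rw [h1, show q * g = c g * (g * q) by simp only [hcdef]; group,
      cZ g hg.1 _ (mul_mem hg.1 hqI.1), inv_mul_cancel_left]
  set z₀ := c b with hz₀def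
  have hz₀ : z₀ ≠ 1 := fun h => hqb ((c_eq b).1 h)
  have hz₀3 : z₀ * z₀ * z₀ = 1 := by
    rw [hz₀def, ← p3, ← cpow b hbI.1, p3, cubeI b hbI]
    simp [hcdef]
  -- the centraliser of a nontrivial commutator is fixed by `d` and `q`
  have qfix : ∀ g ∈ I, c g ≠ 1 → ∀ w, ρ (c g) w = w → ρ q w = w := by
    intro g hg hcg
    let U : Subgroup W :=
      { carrier := {w | ρ (c g) w = w}
        one_mem' := map_one _
        mul_mem' := fun {u v} hu hv => by
          simp only [Set.mem_setOf_eq] at hu hv ⊢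
          rw [map_mul, hu, hv]
        inv_mem' := fun {u} hu => by
          simp only [Set.mem_setOf_eq] at hu ⊢
          rw [map_inv, hu] }
    have hinv : ∀ h ∈ P, ∀ u ∈ U, ρ h u ∈ U := by
      intro h hh u hu
      show ρ (c g) (ρ h u) = ρ h u
      rw [← MulAut.mul_apply, ← map_mul, cZ g hg.1 h hh, map_mul, MulAut.mul_apply]
      rw [show ρ (c g) u = u from hu]
    have q3 := cubeI q hqI
    have g3 := cubeI g hg
    have hgq : ∀ u ∈ U, ρ (g * q) u = ρ (q * g) u := by
      intro u hu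
      rw [show q * g = g * q * c g by
        rw [← cZ g hg.1 _ (mul_mem hg.1 hqI.1)]; simp only [hcdef]; group]
      rw [map_mul ρ (g * q), MulAut.mul_apply, show ρ (c g) u = u from hu]
    have hq1 : q ≠ 1 := fun h => hqb (by simp [h])
    have hg1 : g ≠ 1 := fun h => hcg (by simp [hcdef, h])
    have hdU : ∀ u ∈ U, ρ d u = u := by
      refine fix_all ρ hW U q3 g3 hgq (hinv q hqI.1) (hinv g hg.1) (fun u _ => dfix q hqI hq1 u)
        (fun u _ => dfix g hg hg1 u) ?_ ?_
      · intro u hu h
        refine dfix _ (sandI _ (invI q hqI) g hg) ?_ u ?_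
        · intro h1
          refine hcg ((c_eq g).2 ?_)
          have : g = (q * q)⁻¹ * (q * q)⁻¹ := by
            calc g = (q * q)⁻¹ * (q * q * g * (q * q)) * (q * q)⁻¹ := by group
              _ = _ := by rw [h1, mul_one]
          rw [this, inv_eq_of_mul_eq_one_right q3]; group
        · have e : ρ (q * q * g * (q * q)) u = ρ (q * g * (q * q * q)) u := by
            have hu' := hinv (q * q) (mul_mem hqI.1 hqI.1) u hu
            have a1 : ρ (g * (q * q)) u = ρ (q * q * g) u := by
              have hu1 := hinv q hqI.1 u hu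
              calc ρ (g * (q * q)) u = ρ (g * q) (ρ q u) := by simp [mul_assoc]
                _ = ρ (q * g) (ρ q u) := hgq _ hu1
                _ = ρ q (ρ (g * q) u) := by simp [mul_assoc]
                _ = ρ q (ρ (q * g) u) := by rw [hgq u hu]
                _ = ρ (q * q * g) u := by simp [mul_assoc]
            calc ρ (q * q * g * (q * q)) u = ρ (q * q) (ρ (g * (q * q)) u) := by simp [mul_assoc]
              _ = ρ (q * q) (ρ (q * q * g) u) := by rw [a1]
              _ = ρ (q * q * (q * q) * g) u := by simp [mul_assoc]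
              _ = ρ (q * g * (q * q * q)) u := by
                  rw [q3, mul_one, show q * q * (q * q) = q * q * q * q by group, q3, one_mul]
          rw [e, q3, mul_one, h]
      · intro u hu h
        refine dfix _ (sandI _ hqI g hg) ?_ u ?_
        · intro h1
          refine hcg ((c_eq g).2 ?_)
          have : g = q⁻¹ * q⁻¹ := by
            calc g = q⁻¹ * (q * g * q) * q⁻¹ := by group
              _ = _ := by rw [h1, mul_one]
          rw [this]; group
        · calc ρ (q * g * q) u = ρ q (ρ (g * q) u) := by simp [mul_assoc]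
            _ = ρ q (ρ (q * g) u) := by rw [hgq u hu]
            _ = u := by rw [← MulAut.mul_apply, ← map_mul, ← mul_assoc, h]
    intro w hw
    have hw' : w ∈ U := hw
    have h1 : ρ q (ρ q w) = w := by
      have e1 : ρ (d * q * d) w = ρ q w := by
        rw [map_mul, MulAut.mul_apply, hdU w hw', map_mul, MulAut.mul_apply,
          hdU _ (hinv q hqI.1 w hw')]
      rw [hqI.2] at e1
      conv_lhs => rw [← e1]
      rw [← MulAut.mul_apply, ← map_mul, mul_inv_cancel, map_one, MulAut.one_apply]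
    calc ρ q w = ρ q (ρ (q * q) w) := by rw [map_mul, MulAut.mul_apply, h1]
      _ = ρ (q * (q * q)) w := by rw [map_mul ρ q (q * q), MulAut.mul_apply]
      _ = w := by rw [← mul_assoc, q3, map_one, MulAut.one_apply]
  have hI_sub : I ⊆ (Subgroup.closure ({d, q, b} : Set X) : Set X) := by
    intro h hh
    have mq : q ∈ Subgroup.closure ({d, q, b} : Set X) := Subgroup.subset_closure (by simp)
    have mb : b ∈ Subgroup.closure ({d, q, b} : Set X) := Subgroup.subset_closure (by simp)
    have z3 : c h * c h * c h = 1 := by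
      rw [← p3, ← cpow h hh.1, p3, cubeI h hh]; simp [hcdef]
    have cb : ∀ n, c (b ^ n) = z₀ ^ n := fun n => cpow b hbI.1 n
    by_cases hin : ∃ n : ℕ, c h = z₀ ^ n
    · obtain ⟨n, hn⟩ := hin
      have hb' : b ^ n ∈ I := ⟨pow_mem hbI.1 n, by
        have := conj_pow (a := d) (b := b) (i := n)
        rw [dinv, hbI.2, inv_pow] at this
        exact this.symm⟩
      set h' := b ^ n * h * b ^ n with hh'
      have hh'I : h' ∈ I := sandI _ hb' h hh
      have : c h' = 1 := by
        rw [hh', cmul _ (mul_mem hb'.1 hh.1) _ hb'.1, cmul _ hb'.1 _ hh.1, cb, hn, ← pow_add,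
          ← pow_add, show n + n + n = 3 * n by ring, pow_mul, p3, hz₀3, one_pow]
      have key' := noPair q hqI h' hh'I ((c_eq h').1 this) (fun h => hqb (by simp [h]))
      have hmem : h' ∈ Subgroup.closure ({d, q, b} : Set X) := by
        rcases key' with e | e | e <;> rw [e]
        exacts [Subgroup.one_mem _, mq, mul_mem mq mq]
      have := mul_mem (mul_mem (inv_mem (pow_mem mb n)) hmem) (inv_mem (pow_mem mb n))
      rwa [hh', show (b ^ n)⁻¹ * (b ^ n * h * b ^ n) * (b ^ n)⁻¹ = h by group] at this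
    · exfalso
      push Not at hin
      have hc1 : c h ≠ 1 := fun e => hin 0 (by rw [e, pow_zero])
      have hcp := cP h hh.1
      have hqone : ∀ w, ρ q w = w := by
        intro w
        refine fix_all ρ hW (r := q) ⊤ hz₀3 z3 (fun u _ => by rw [cZ h hh.1 z₀ (cP b hbI.1)])
          (fun _ _ => trivial) (fun _ _ => trivial) (fun u _ => qfix b hbI hz₀ u)
          (fun u _ => qfix h hh hc1 u) ?_ ?_ w trivial
        · intro u _ hu
          have hg : b * b * h * (b * b) ∈ I := sandI _ (invI b hbI) h hh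
          have hcg : c (b * b * h * (b * b)) = z₀ * c h := by
            have hbb : b * b ∈ P := mul_mem hbI.1 hbI.1
            rw [cmul _ (mul_mem hbb hh.1) _ hbb, cmul _ hbb _ hh.1, cmul _ hbI.1 _ hbI.1,
              ← hz₀def]
            have hcc : Commute (c h) (z₀ * z₀) := cZ h hh.1 _ (mul_mem (cP b hbI.1) (cP b hbI.1))
            rw [mul_assoc, hcc.eq, ← mul_assoc, ← mul_assoc (z₀ * z₀) z₀ z₀, hz₀3, one_mul]
          refine qfix _ hg ?_ u (by rw [hcg]; exact hu)
          rw [hcg]
          intro e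
          exact hin 2 (by rw [eq_inv_of_mul_eq_one_right e, pow_two,
            inv_eq_of_mul_eq_one_left hz₀3])
        · intro u _ hu
          have hg : b * h * b ∈ I := sandI _ hbI h hh
          have hcg : c (b * h * b) = z₀ * z₀ * c h := by
            rw [cmul _ (mul_mem hbI.1 hh.1) _ hbI.1, cmul _ hbI.1 _ hh.1, ← hz₀def, mul_assoc,
              cZ h hh.1 z₀ (cP b hbI.1), ← mul_assoc]
          refine qfix _ hg ?_ u (by rw [hcg]; exact hu)
          rw [hcg]
          intro e
          exact hin 1 (by rw [eq_inv_of_mul_eq_one_right e, pow_one,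
            inv_eq_of_mul_eq_one_right hz₀3])
      have : q = 1 := hρ (MulEquiv.ext fun w => by simp [hqone w])
      exact hqb (by simp [this])
  refine ⟨d, q, b, ?_, hD1 d hdD, hqb, Dgen _ (by simp) hI_sub⟩
  have he := mulD q hqI
  have hf := mulD b hbI
  have hded : d * (d * q) * d ∈ D := by
    have := conjD _ he d
    rwa [dinv] at this
  have := ThreeGen.rel_of_involutions dd (hD2 _ he) (hD2 _ hf) (hcube d hdD _ he)
    (hcube d hdD _ hf) (hcube _ he _ hf) (by
      rw [← mul_assoc (d * (d * q)) d (d * b)]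
      exact hcube _ hded _ hf)
  rwa [← mul_assoc, dd, one_mul, ← mul_assoc, dd, one_mul] at this

end CfsgLib.ThreeTwoClassify
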